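import Cfsg.Agent.OddHalf.D4F4.Setup
import Cfsg.Agent.Schreier.Chev
import Cfsg.Agent.OddHalf.D7F4.KFront
import Cfsg.Agent.OddHalf.D4.Input
import Mathlib
import Cfsg.Agent.Schreier.Basic
import Cfsg.Agent.S1054
import Cfsg.Agent.OddHalf.D4.StartFree

-- merged: Cfsg.Agent.OddHalf.D4F4.Swap
section

/-!
# ODD, D4, `F₄(q)`: the centre of a Sylow 2-subgroup

`X = X_σ × X_ρ` is the centre of `S = ⟨X_c : c > 0⟩` (`σ = s0` the highest short, `ρ = r0` the highest root).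

* `z2` : an element `u ∈ S` with `[u, S] ≤ X` lies in `X_{c1} X_{c2} X`;
* **`swap`** : an element which normalises `S` and `X` stabilises or exchanges `X_σ`, `X_ρ`.
-/

set_option autoImplicit false
set_option linter.unusedSectionVars false

namespace Cfsg.Agent.OddHalf.D4F4

open Subgroup Cfsg.Agent.OddHalf.D7F4Ex Cfsg.Agent.OddHalf.D7F4Ex.Loc Cfsg.Agent.OddHalf.DblR
  Cfsg.Agent.OddHalf.D7F4 Cfsg.Agent.OddHalf.D7F4.Model
open CoxeterSystem Cfsg.Agent.ChevalleyStructure.CoxeterGeom Cfsg.Agent.Tits.Roots Cfsg.Agent.Tits.Core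
open Cfsg.Lie Cfsg.Agent.ChevalleyStructure Cfsg.Agent.ChevalleyStructure.Elts
  Cfsg.Agent.ChevalleyStructure.RootVec Cfsg.Agent.ChevalleyStructure.CoxeterGeomTypes
open Cfsg.Agent.Nodes Cfsg.Agent.Nodes.Reps Cfsg.Agent.Nodes.BNOf Cfsg.Agent.Nodes.RGDChev Cfsg.Agent.Nodes.Coroot
  Cfsg.Agent.Nodes.KindF Cfsg.Agent.KFacts.ChevTwo Cfsg.Agent.KFacts.ChevTwoTab Cfsg.Agent.KFacts.ChevTwoInst
  Cfsg.Agent.KFacts.F4Star Cfsg.Agent.KFacts.F4Cent Cfsg.Agent.KFacts.F4Pair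
open Cfsg.Agent.KFacts.F4Model (cF)
open scoped commutatorElement

universe u

/-- the highest root -/
def r0 : Fin 4 → ℤ := ![2, 4, 3, 2]
/-- `e₁ + e₃` -/
def rc1 : Fin 4 → ℤ := ![2, 4, 3, 1]
/-- `½(1,1,1,1)` -/
def rc2 : Fin 4 → ℤ := ![1, 3, 2, 1]
/-- `e₂ - e₃` -/
def rb1 : Fin 4 → ℤ := ![0, 0, 0, 1]
/-- `½(1,-1,-1,-1)` -/
def rb2 : Fin 4 → ℤ := ![1, 0, 0, 0]

theorem dual_s0 : dual s0 = r0 := by decide +kernel
theorem r0_mem : r0 ∈ rts := by decide +kernel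
theorem rc1_mem : rc1 ∈ rts := by decide +kernel
theorem rc2_mem : rc2 ∈ rts := by decide +kernel
theorem rb1_mem : rb1 ∈ rts := by decide +kernel
theorem rb2_mem : rb2 ∈ rts := by decide +kernel
theorem p_s0 : ∀ i, 0 ≤ s0 i := by decide +kernel
theorem p_r0 : ∀ i, 0 ≤ r0 i := by decide +kernel
theorem p_c1 : ∀ i, 0 ≤ rc1 i := by decide +kernel
theorem p_c2 : ∀ i, 0 ≤ rc2 i := by decide +kernel
theorem p_b1 : ∀ i, 0 ≤ rb1 i := by decide +kernel
theorem p_b2 : ∀ i, 0 ≤ rb2 i := by decide +kernel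
theorem t_s0 : ∀ c ∈ rts, (∀ i, 0 ≤ c i) → 0 ≤ B s0 c := by decide +kernel
theorem t_r0 : ∀ c ∈ rts, (∀ i, 0 ≤ c i) → 0 ≤ B r0 c := by decide +kernel
theorem t_c1 : ∀ c ∈ rts, (∀ i, 0 ≤ c i) → c = rb1 ∨ 0 ≤ B rc1 c := by decide +kernel
theorem t_c2 : ∀ c ∈ rts, (∀ i, 0 ≤ c i) → c = rb2 ∨ 0 ≤ B rc2 c := by decide +kernel
theorem q_c1 : B rc1 rc1 = B rb1 rb1 ∧ B rc1 rb1 < 0 ∧ rc1 ≠ -rb1 ∧ rc1 + rb1 = r0 := by decide +kernel
theorem q_c2 : B rc2 rc2 = B rb2 rb2 ∧ B rc2 rb2 < 0 ∧ rc2 ≠ -rb2 ∧ rc2 + rb2 = s0 := by decide +kernel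
theorem q_21 : 0 ≤ B rc2 rb1 := by decide +kernel
theorem q_12 : 0 ≤ B rc1 rb2 := by decide +kernel
theorem q_cc : 0 ≤ B rc1 rc2 := by decide +kernel
theorem ne_s0r0 : s0 ≠ r0 := by decide +kernel
theorem ne_c1 : rc1 ≠ s0 ∧ rc1 ≠ r0 := by decide +kernel
theorem ne_c2 : rc2 ≠ s0 ∧ rc2 ≠ r0 := by decide +kernel

/-- the mask of the positive roots which are sums of two positive roots of the same length -/
def pM : ℕ := 279265283145728

theorem spanPM : spanM pM = true := by decide +kernel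
theorem starPM : ∀ r ∈ List.range 48, (starM pM).testBit r = true →
    KBridge.vv r = s0 ∨ KBridge.vv r = r0 ∨ KBridge.vv r = rc1 ∨ KBridge.vv r = rc2 := by decide +kernel
theorem sumPM : ∀ r ∈ List.range 48, pM.testBit r = true → ∃ a ∈ rts, ∃ b ∈ rts, (∀ i, 0 ≤ a i) ∧ (∀ i, 0 ≤ b i) ∧
    B a a = B b b ∧ B a b < 0 ∧ a ≠ -b ∧ a + b = KBridge.vv r := by decide +kernel

section Gen

variable {F : Type*} [Field F] {G : Type*} [Group G]

/-- `⟨X_c : c > 0⟩` -/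
abbrev SE (E : (Fin 4 → ℤ) → F → G) : Subgroup G := SupE E {c | c ∈ rts ∧ ∀ i, 0 ≤ c i}

/-- `X_σ X_ρ` -/
abbrev XE (E : (Fin 4 → ℤ) → F → G) : Subgroup G := Xs (E s0) ⊔ Xs (E r0)

theorem comm_closure {D : Set G} {V : Subgroup G} {x : G} (hc : ∀ z ∈ V, ∀ s ∈ closure D, z * s = s * z)
    (h : ∀ s ∈ D, x * s * x⁻¹ * s⁻¹ ∈ V) : ∀ s ∈ closure D, x * s * x⁻¹ * s⁻¹ ∈ V := by
  intro s hs
  induction hs using closure_induction with
  | mem s hs => exact h s hs
  | one => simp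
  | mul s s' hs hs' h1 h2 =>
    have e : x * (s * s') * x⁻¹ * (s * s')⁻¹ = (x * s * x⁻¹ * s⁻¹) * (s * (x * s' * x⁻¹ * s'⁻¹) * s⁻¹) := by group
    have h3 := hc _ h2 s hs
    have e2 : s * (x * s' * x⁻¹ * s'⁻¹) * s⁻¹ = x * s' * x⁻¹ * s'⁻¹ := by rw [← h3]; group
    rw [e, e2]
    exact mul_mem h1 h2
  | inv s hs h1 =>
    have h3 := hc _ (inv_mem h1) s⁻¹ (inv_mem hs)
    have e : x * s⁻¹ * x⁻¹ * s⁻¹⁻¹ = s⁻¹ * (x * s * x⁻¹ * s⁻¹)⁻¹ * s := by group
    rw [e, ← h3]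
    have e2 : (x * s * x⁻¹ * s⁻¹)⁻¹ * s⁻¹ * s = (x * s * x⁻¹ * s⁻¹)⁻¹ := by group
    rw [e2]
    exact inv_mem h1

/-- elements of the product of two commuting subgroups -/
theorem mem_sup_comm {A D : Subgroup G} (h : ∀ a ∈ A, ∀ d ∈ D, a * d = d * a) {g : G} (hg : g ∈ A ⊔ D) :
    ∃ a ∈ A, ∃ d ∈ D, g = a * d := by
  obtain ⟨a, ha, d, hd, w, hw, rfl⟩ := Cfsg.Agent.KFacts.F4Model.mem_sup3 (C := ⊥)
    (fun x _ w hw => by rw [mem_bot] at hw; rw [hw, mul_one, one_mul])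
    (fun x _ w hw => by rw [mem_bot] at hw; rw [hw, mul_one, one_mul])
    (fun x hx y hy => ⟨1, one_mem _, by rw [mul_one, h x hx y hy]⟩) (show g ∈ A ⊔ D ⊔ ⊥ from mem_sup_left hg)
  rw [mem_bot] at hw
  exact ⟨a, ha, d, hd, by rw [hw, mul_one]⟩

variable {E : (Fin 4 → ℤ) → F → G} {T : (Fin 4 → Fˣ) →* G}

theorem XX_comm (C : Chart E T) : ∀ a ∈ Xs (E s0), ∀ d ∈ Xs (E r0), a * d = d * a := by
  intro a ha d hd
  obtain ⟨u, rfl⟩ := (mem_Xs_iff C s0_mem).1 ha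
  obtain ⟨v, rfl⟩ := (mem_Xs_iff C r0_mem).1 hd
  exact C.c0 _ s0_mem _ r0_mem (t_s0 _ r0_mem p_r0) u v

theorem mem_XE (C : Chart E T) {x : G} : x ∈ XE E ↔ ∃ a b, x = E s0 a * E r0 b := by
  constructor
  · intro hx
    obtain ⟨a, ha, d, hd, rfl⟩ := mem_sup_comm (XX_comm C) hx
    obtain ⟨u, rfl⟩ := (mem_Xs_iff C s0_mem).1 ha
    obtain ⟨v, rfl⟩ := (mem_Xs_iff C r0_mem).1 hd
    exact ⟨u, v, rfl⟩
  · rintro ⟨a, b, rfl⟩
    exact mul_mem (mem_sup_left (EX a)) (mem_sup_right (EX b))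

theorem XE_zero (C : Chart E T) {a b : F} (h : E s0 a * E r0 b = 1) : a = 0 ∧ b = 0 := by
  have h1 : E s0 a = E r0 b := by
    have h2 : (E r0 b)⁻¹ = E r0 b := by
      rw [inv_eq_iff_mul_eq_one, ← C.add _ r0_mem, C.two]
      have := C.add _ r0_mem 0 0
      rw [add_zero] at this
      exact mul_eq_left.1 this.symm
    rw [← h2]; exact eq_inv_of_mul_eq_one_left h
  have hb := C.sep _ s0_mem _ r0_mem ne_s0r0 a b h1
  have ha := C.sep _ r0_mem _ s0_mem ne_s0r0.symm b a h1.symm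
  exact ⟨ha, hb⟩

/-- `X` is central in `S` -/
theorem XS_comm (C : Chart E T) : ∀ z ∈ XE E, ∀ s ∈ SE E, z * s = s * z := by
  intro z hz s hs
  obtain ⟨a, b, rfl⟩ := (mem_XE C).1 hz
  have key : SE E ≤ centralizer {E s0 a * E r0 b} := by
    refine SupE_le fun c hc u => ?_
    rw [mem_centralizer_singleton_iff]
    have h1 := C.c0 _ s0_mem _ hc.1 (t_s0 _ hc.1 hc.2) a u
    have h2 := C.c0 _ r0_mem _ hc.1 (t_r0 _ hc.1 hc.2) b u
    calc E c u * (E s0 a * E r0 b) = (E c u * E s0 a) * E r0 b := by group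
      _ = E s0 a * (E c u * E r0 b) := by rw [← h1]; group
      _ = _ := by rw [← h2]; group
  exact (mem_centralizer_singleton_iff.1 (key hs)).symm

theorem pos_mem {c : Fin 4 → ℤ} (hc : c ∈ rts) (h : ∀ i, 0 ≤ c i) (u : F) : E c u ∈ SE E :=
  mem_SupE (S := {c | c ∈ rts ∧ ∀ i, 0 ≤ c i}) ⟨hc, h⟩ u

theorem XE_le_SE (C : Chart E T) : XE E ≤ SE E := by
  intro x hx
  obtain ⟨a, b, rfl⟩ := (mem_XE C).1 hx
  exact mul_mem (pos_mem s0_mem p_s0 _) (pos_mem r0_mem p_r0 _)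

theorem comm_c1 (C : Chart E T) (a : F) : ∀ s ∈ SE E, E rc1 a * s * (E rc1 a)⁻¹ * s⁻¹ ∈ Xs (E r0) := by
  refine comm_closure (fun z hz s hs => XS_comm C z (mem_sup_right hz) s hs) ?_
  rintro _ ⟨c, hc, u, rfl⟩
  rcases t_c1 c hc.1 hc.2 with rfl | h
  · obtain ⟨h1, h2, h3, h4⟩ := q_c1
    rw [C.c1 _ rc1_mem _ rb1_mem h1 h2 h3, h4]
    exact EX _
  · have h1 := C.c0 _ rc1_mem _ hc.1 h a u
    have : E rc1 a * E c u * (E rc1 a)⁻¹ * (E c u)⁻¹ = 1 := by rw [h1]; group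
    rw [this]; exact one_mem _

theorem comm_c2 (C : Chart E T) (a : F) : ∀ s ∈ SE E, E rc2 a * s * (E rc2 a)⁻¹ * s⁻¹ ∈ Xs (E s0) := by
  refine comm_closure (fun z hz s hs => XS_comm C z (mem_sup_left hz) s hs) ?_
  rintro _ ⟨c, hc, u, rfl⟩
  rcases t_c2 c hc.1 hc.2 with rfl | h
  · obtain ⟨h1, h2, h3, h4⟩ := q_c2
    rw [C.c1 _ rc2_mem _ rb2_mem h1 h2 h3, h4]
    exact EX _
  · have h1 := C.c0 _ rc2_mem _ hc.1 h a u
    have : E rc2 a * E c u * (E rc2 a)⁻¹ * (E c u)⁻¹ = 1 := by rw [h1]; group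
    rw [this]; exact one_mem _

/-- the commutators of `x_{c1}(a) x_{c2}(b) x` with `X_{b1}`, `X_{b2}` -/
theorem comm_b1 (C : Chart E T) (a b : F) {x : G} (hx : x ∈ XE E) (s : F) :
    (E rc1 a * E rc2 b * x) * E rb1 s * (E rc1 a * E rc2 b * x)⁻¹ * (E rb1 s)⁻¹ = E r0 (a * s) := by
  have h1 := XS_comm C x hx _ (pos_mem rb1_mem p_b1 s)
  have h2 := C.c0 _ rc2_mem _ rb1_mem q_21 b s
  obtain ⟨h3, h4, h5, h6⟩ := q_c1
  have h7 := C.c1 _ rc1_mem _ rb1_mem h3 h4 h5 a s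
  rw [h6] at h7
  calc (E rc1 a * E rc2 b * x) * E rb1 s * (E rc1 a * E rc2 b * x)⁻¹ * (E rb1 s)⁻¹
      = E rc1 a * E rc2 b * (x * E rb1 s) * x⁻¹ * (E rc2 b)⁻¹ * (E rc1 a)⁻¹ * (E rb1 s)⁻¹ := by group
    _ = E rc1 a * (E rc2 b * E rb1 s) * (E rc2 b)⁻¹ * (E rc1 a)⁻¹ * (E rb1 s)⁻¹ := by rw [h1]; group
    _ = E rc1 a * E rb1 s * (E rc1 a)⁻¹ * (E rb1 s)⁻¹ := by rw [h2]; group
    _ = _ := h7

theorem comm_b2 (C : Chart E T) (a b : F) {x : G} (hx : x ∈ XE E) (s : F) :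
    (E rc1 a * E rc2 b * x) * E rb2 s * (E rc1 a * E rc2 b * x)⁻¹ * (E rb2 s)⁻¹ = E s0 (b * s) := by
  have h1 := XS_comm C x hx _ (pos_mem rb2_mem p_b2 s)
  have h2 := C.c0 _ rc1_mem _ rb2_mem q_12 a s
  obtain ⟨h3, h4, h5, h6⟩ := q_c2
  have h7 := C.c1 _ rc2_mem _ rb2_mem h3 h4 h5 b s
  rw [h6] at h7
  have h8 : E rc1 a * E s0 (b * s) = E s0 (b * s) * E rc1 a :=
    (C.c0 _ s0_mem _ rc1_mem (t_s0 _ rc1_mem p_c1) (b * s) a).symm
  calc (E rc1 a * E rc2 b * x) * E rb2 s * (E rc1 a * E rc2 b * x)⁻¹ * (E rb2 s)⁻¹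
      = E rc1 a * E rc2 b * (x * E rb2 s) * x⁻¹ * (E rc2 b)⁻¹ * (E rc1 a)⁻¹ * (E rb2 s)⁻¹ := by group
    _ = E rc1 a * (E rc2 b * E rb2 s * (E rc2 b)⁻¹ * (E rb2 s)⁻¹) * E rb2 s * (E rc1 a)⁻¹ * (E rb2 s)⁻¹ := by
        rw [h1]; group
    _ = E s0 (b * s) * (E rc1 a * E rb2 s) * (E rc1 a)⁻¹ * (E rb2 s)⁻¹ := by rw [h7, h8]; group
    _ = _ := by rw [h2]; group

end Gen

/-! ### The second centre -/

variable {F : Type u} [Field F] [Finite F] [CharP F 2] {G : Type*} [Group G]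
  {f : ↥(chevF4.group F) →* G} {E : (Fin 4 → ℤ) → F → G} {T : (Fin 4 → Fˣ) →* G}

/-- **`Z₂(S) ≤ X_{c1} X_{c2} X`** -/
theorem z2 (S : Setup f id E T) {u : G} (hu : u ∈ SE E) (h : ∀ s ∈ SE E, u * s * u⁻¹ * s⁻¹ ∈ XE E) :
    ∃ a b, ∃ x ∈ XE E, u = E rc1 a * E rc2 b * x := by
  have C := S.ch
  have hSK : SE E ≤ f.range := SupE_le fun c hc u => S.E_range hc.1 u
  obtain ⟨y, rfl⟩ := hSK hu
  -- `u` centralises `[S, S]`
  have key : ∀ s ∈ SE E, ∀ s' ∈ SE E, f y * (s * s' * s⁻¹ * s'⁻¹) = (s * s' * s⁻¹ * s'⁻¹) * f y := by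
    intro s hs s' hs'
    have h1 := h s hs
    have h2 := h s' hs'
    set z := f y * s * (f y)⁻¹ * s⁻¹ with hz
    set z' := f y * s' * (f y)⁻¹ * s'⁻¹ with hz'
    have e1 : f y * s * (f y)⁻¹ = z * s := by rw [hz]; group
    have e2 : f y * s' * (f y)⁻¹ = z' * s' := by rw [hz']; group
    have c1 := XS_comm C z h1 s hs
    have c2 := XS_comm C z h1 s' hs'
    have c3 := XS_comm C z' h2 s hs
    have c4 := XS_comm C z' h2 s' hs'
    have c5 := XS_comm C z h1 z' (XE_le_SE C h2)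
    have e3 : f y * (s * s' * s⁻¹ * s'⁻¹) * (f y)⁻¹ = s * s' * s⁻¹ * s'⁻¹ := by
      calc f y * (s * s' * s⁻¹ * s'⁻¹) * (f y)⁻¹
          = (f y * s * (f y)⁻¹) * (f y * s' * (f y)⁻¹) * (f y * s * (f y)⁻¹)⁻¹ * (f y * s' * (f y)⁻¹)⁻¹ := by group
        _ = (z * s) * (z' * s') * (z * s)⁻¹ * (z' * s')⁻¹ := by rw [e1, e2]
        _ = z * (s * z') * s' * s⁻¹ * z⁻¹ * s'⁻¹ * z'⁻¹ := by group
        _ = z * z' * (s * s' * s⁻¹) * z⁻¹ * s'⁻¹ * z'⁻¹ := by rw [← c3]; group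
        _ = z' * (z * (s * s' * s⁻¹) * z⁻¹) * s'⁻¹ * z'⁻¹ := by rw [c5]; group
        _ = z' * (s * s' * s⁻¹) * s'⁻¹ * z'⁻¹ := by
            rw [XS_comm C z h1 (s * s' * s⁻¹) (mul_mem (mul_mem hs hs') (inv_mem hs))]; group
        _ = z' * (s * s' * s⁻¹ * s'⁻¹) * z'⁻¹ := by group
        _ = _ := by
            rw [XS_comm C z' h2 (s * s' * s⁻¹ * s'⁻¹)
              (mul_mem (mul_mem (mul_mem hs hs') (inv_mem hs)) (inv_mem hs'))]; group
    calc f y * (s * s' * s⁻¹ * s'⁻¹) = (f y * (s * s' * s⁻¹ * s'⁻¹) * (f y)⁻¹) * f y := by group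
      _ = _ := by rw [e3]
  have hCm : Cm y (SetOf pM) := by
    rintro c ⟨r, hr, hr', rfl⟩
    obtain ⟨a, ha, b, hb, ha', hb', h1, h2, h3, h4⟩ := sumPM r (List.mem_range.2 hr) hr'
    rw [← KBridge.vv_eq] at h4
    have hv : v r ∈ rts := root_iff.1 (isRoot_v cF hr)
    have h5 := C.c1 _ ha _ hb h1 h2 h3 1 1
    rw [h4, mul_one] at h5
    obtain ⟨z, hz, hz'⟩ := S.e _ hv 1
    refine ⟨z, hz, ?_, S.inj ?_⟩
    · rintro rfl
      rw [map_one] at hz'
      exact one_ne_zero (C.inj _ hv 1 hz')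
    · rw [map_mul, map_mul, ← hz', ← h5]
      exact key _ (pos_mem ha ha' 1) _ (pos_mem hb hb' 1)
  have h1 := cent_mask spanPM hCm
  have h2 : RGD.Sup (XF F) (SetOf (starM pM)) ≤ (XF F rc1 ⊔ XF F rc2) ⊔ (XF F s0 ⊔ XF F r0) := by
    refine RGD.Sup_le ?_
    rintro c ⟨r, hr, hr', rfl⟩
    rw [KBridge.vv_eq]
    rcases starPM r (List.mem_range.2 hr) hr' with h | h | h | h <;> rw [h]
    · exact le_sup_left.trans le_sup_right
    · exact le_sup_right.trans le_sup_right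
    · exact le_sup_left.trans le_sup_left
    · exact le_sup_right.trans le_sup_left
  have X0 := fun {a b : Fin 4 → ℤ} (ha : a ∈ rts) (hb : b ∈ rts) (h : 0 ≤ B a b) =>
    Cfsg.Agent.KFacts.F4Model.X0 (K := F) ha hb h
  have h3 : ∀ a ∈ XF F rc1 ⊔ XF F rc2, ∀ d ∈ XF F s0 ⊔ XF F r0, a * d = d * a := by
    intro a ha d hd
    obtain ⟨a1, ha1, a2, ha2, rfl⟩ := mem_sup_comm (X0 rc1_mem rc2_mem q_cc) ha
    obtain ⟨d1, hd1, d2, hd2, rfl⟩ := mem_sup_comm (X0 s0_mem r0_mem (t_s0 _ r0_mem p_r0)) hd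
    have g1 := X0 s0_mem rc1_mem (t_s0 _ rc1_mem p_c1) d1 hd1 a1 ha1
    have g2 := X0 s0_mem rc2_mem (t_s0 _ rc2_mem p_c2) d1 hd1 a2 ha2
    have g3 := X0 r0_mem rc1_mem (t_r0 _ rc1_mem p_c1) d2 hd2 a1 ha1
    have g4 := X0 r0_mem rc2_mem (t_r0 _ rc2_mem p_c2) d2 hd2 a2 ha2
    calc a1 * a2 * (d1 * d2) = a1 * (a2 * d1) * d2 := by group
      _ = (a1 * d1) * a2 * d2 := by rw [← g2]; group
      _ = d1 * a1 * (a2 * d2) := by rw [← g1]; group
      _ = d1 * (a1 * d2) * a2 := by rw [← g4]; group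
      _ = _ := by rw [← g3]; group
  obtain ⟨m, hm, d, hd, rfl⟩ := mem_sup_comm h3 (h2 h1)
  obtain ⟨a1, ha1, a2, ha2, rfl⟩ := mem_sup_comm (X0 rc1_mem rc2_mem q_cc) hm
  obtain ⟨d1, hd1, d2, hd2, rfl⟩ := mem_sup_comm (X0 s0_mem r0_mem (t_s0 _ r0_mem p_r0)) hd
  obtain ⟨u1, e1⟩ := S.e' _ rc1_mem _ ha1
  obtain ⟨u2, e2⟩ := S.e' _ rc2_mem _ ha2
  obtain ⟨v1, e3⟩ := S.e' _ s0_mem _ hd1
  obtain ⟨v2, e4⟩ := S.e' _ r0_mem _ hd2
  refine ⟨u1, u2, E s0 v1 * E r0 v2, (mem_XE C).2 ⟨v1, v2, rfl⟩, ?_⟩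
  rw [map_mul, map_mul, map_mul, e1, e2, e3, e4]

/-! ### Exchange -/

theorem card_Xs (C : Chart E T) {a b : Fin 4 → ℤ} (ha : a ∈ rts) (hb : b ∈ rts) :
    Nat.card ↥(Xs (E a)) = Nat.card ↥(Xs (E b)) := by
  have key : ∀ {a : Fin 4 → ℤ} (_ : a ∈ rts), Nat.card ↥(Xs (E a)) = Nat.card F := by
    intro a ha
    have h : Function.Bijective (fun u : F => (⟨E a u, EX u⟩ : ↥(Xs (E a)))) := by
      constructor
      · intro u v huv
        have h1 : E a u = E a v := congrArg Subtype.val huv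
        have h2 : E a (u - v) = 1 := by
          have h3 := C.add a ha (u - v) v
          rw [sub_add_cancel, h1] at h3
          exact mul_eq_right.1 h3.symm
        exact sub_eq_zero.1 (C.inj a ha _ h2)
      · rintro ⟨x, hx⟩
        obtain ⟨u, rfl⟩ := (mem_Xs_iff C ha).1 hx
        exact ⟨u, rfl⟩
    exact (Nat.card_eq_of_bijective _ h).symm
  rw [key ha, key hb]

theorem swap_aux [Finite G] (S : Setup f id E T) {γ : G} (hS : cj γ (SE E) = SE E) (hX : cj γ (XE E) = XE E)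
    {V : Subgroup G} (hV : V ≤ XE E) {u : G} (hu : u ∈ SE E) (huX : u ∉ XE E)
    (hc : ∀ s ∈ SE E, u * s * u⁻¹ * s⁻¹ ∈ V) : Xs (E r0) ≤ cj γ V ∨ Xs (E s0) ≤ cj γ V := by
  have C := S.ch
  have h1 : ∀ s ∈ SE E, (γ * u * γ⁻¹) * s * (γ * u * γ⁻¹)⁻¹ * s⁻¹ ∈ cj γ V := by
    intro s hs
    rw [mem_cj]
    have hs' : γ⁻¹ * s * γ ∈ SE E := by
      rw [← mem_cj, hS]; exact hs
    have := hc _ hs'
    have e : γ⁻¹ * ((γ * u * γ⁻¹) * s * (γ * u * γ⁻¹)⁻¹ * s⁻¹) * γ =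
        u * (γ⁻¹ * s * γ) * u⁻¹ * (γ⁻¹ * s * γ)⁻¹ := by group
    rw [e]; exact this
  have h2 : γ * u * γ⁻¹ ∈ SE E := by
    rw [← hS]; exact conj_mem_cj.2 hu
  have h3 : cj γ V ≤ XE E := by
    have := cj_mono γ hV
    rwa [hX] at this
  obtain ⟨a, b, x, hx, e⟩ := z2 S h2 fun s hs => h3 (h1 s hs)
  rw [e] at h1
  by_cases ha : a = 0
  · by_cases hb : b = 0
    · exfalso
      apply huX
      have z0 : ∀ {c : Fin 4 → ℤ}, c ∈ rts → E c 0 = 1 := by
        intro c hc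
        have := C.add _ hc 0 0
        rw [add_zero] at this
        exact mul_eq_left.1 this.symm
      rw [ha, hb, z0 rc1_mem, z0 rc2_mem, one_mul, one_mul] at e
      have h4 : γ * u * γ⁻¹ ∈ cj γ (XE E) := by rw [hX, e]; exact hx
      exact conj_mem_cj.1 h4
    · right
      intro y hy
      obtain ⟨w, rfl⟩ := (mem_Xs_iff C s0_mem).1 hy
      have := h1 _ (pos_mem rb2_mem p_b2 (b⁻¹ * w))
      rw [comm_b2 C a b hx, mul_inv_cancel_left₀ hb] at this
      exact this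
  · left
    intro y hy
    obtain ⟨w, rfl⟩ := (mem_Xs_iff C r0_mem).1 hy
    have := h1 _ (pos_mem rb1_mem p_b1 (a⁻¹ * w))
    rw [comm_b1 C a b hx, mul_inv_cancel_left₀ ha] at this
    exact this

theorem card_cj_eq (g : G) (V : Subgroup G) : Nat.card ↥(cj g V) = Nat.card ↥V :=
  (Nat.card_congr (V.equivMapOfInjective _ (MulAut.conj g).injective).toEquiv).symm

theorem c1_nX (C : Chart E T) : E rc1 1 ∉ XE E := by
  intro h
  have h1 := XS_comm C _ h _ (pos_mem rb1_mem p_b1 1)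
  obtain ⟨h3, h4, h5, h6⟩ := q_c1
  have h7 := C.c1 _ rc1_mem _ rb1_mem h3 h4 h5 1 1
  rw [h6, mul_one] at h7
  have : E r0 (1 : F) = 1 := by rw [← h7, h1]; group
  exact one_ne_zero (C.inj _ r0_mem 1 this)

theorem c2_nX (C : Chart E T) : E rc2 1 ∉ XE E := by
  intro h
  have h1 := XS_comm C _ h _ (pos_mem rb2_mem p_b2 1)
  obtain ⟨h3, h4, h5, h6⟩ := q_c2
  have h7 := C.c1 _ rc2_mem _ rb2_mem h3 h4 h5 1 1
  rw [h6, mul_one] at h7
  have : E s0 (1 : F) = 1 := by rw [← h7, h1]; group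
  exact one_ne_zero (C.inj _ s0_mem 1 this)

/-- **The elements normalising `S` and `X` stabilise or exchange `X_σ`, `X_ρ`.** -/
theorem swap [Finite G] (S : Setup f id E T) {γ : G} (hS : cj γ (SE E) = SE E) (hX : cj γ (XE E) = XE E) :
    (cj γ (Xs (E s0)) = Xs (E s0) ∧ cj γ (Xs (E r0)) = Xs (E r0)) ∨
      (cj γ (Xs (E s0)) = Xs (E r0) ∧ cj γ (Xs (E r0)) = Xs (E s0)) := by
  have C := S.ch
  have key : ∀ {V V' : Subgroup G}, V' ≤ cj γ V → Nat.card ↥V' = Nat.card ↥V → cj γ V = V' := by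
    intro V V' h1 h2
    exact (Subgroup.eq_of_le_of_card_ge h1 (by rw [card_cj_eq, h2])).symm
  have hne : Xs (E s0) ≠ Xs (E r0) := by
    intro h
    have h1 : E s0 (1 : F) ∈ Xs (E r0) := by rw [← h]; exact EX 1
    obtain ⟨v, hv⟩ := (mem_Xs_iff C r0_mem).1 h1
    exact one_ne_zero (C.sep _ r0_mem _ s0_mem ne_s0r0.symm v 1 hv.symm)
  have hr := swap_aux S hS hX (V := Xs (E r0)) le_sup_right (pos_mem rc1_mem p_c1 1) (c1_nX C) (comm_c1 C 1)
  have hs := swap_aux S hS hX (V := Xs (E s0)) le_sup_left (pos_mem rc2_mem p_c2 1) (c2_nX C) (comm_c2 C 1)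
  have hc := card_Xs C s0_mem r0_mem
  rcases hr with hr | hr <;> rcases hs with hs | hs
  · exfalso
    have h1 := key hr rfl
    have h2 := key hs hc.symm
    apply hne
    have := congrArg (cj γ⁻¹) (h2.trans h1.symm)
    rwa [cj_inv_cj, cj_inv_cj] at this
  · exact Or.inl ⟨key hs rfl, key hr rfl⟩
  · exact Or.inr ⟨key hs hc.symm, key hr hc⟩
  · exfalso
    have h1 := key hr hc
    have h2 := key hs rfl
    apply hne
    have := congrArg (cj γ⁻¹) (h2.trans h1.symm)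
    rwa [cj_inv_cj, cj_inv_cj] at this

end Cfsg.Agent.OddHalf.D4F4

end

-- merged: Cfsg.Agent.OddHalf.D4F4.Row
section

/-!
# ODD, D4, `F₄(q)`, `q ≥ 4` even: no commuting pair of root type

* **`row`** : `f : F₄(q) →* G` injective with image `K`, `E` a Sylow 2-subgroup of `C_G(K)` of order at least 4:
  there is no commuting pair of root type (long or short).
-/

set_option autoImplicit false
set_option linter.unusedSectionVars false

namespace Cfsg.Agent.OddHalf.D4F4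

open Subgroup Cfsg.Agent.OddHalf.D7F4Ex Cfsg.Agent.OddHalf.D7F4Ex.Loc Cfsg.Agent.OddHalf.DblR
  Cfsg.Agent.OddHalf.D7F4.Model
open CoxeterSystem Cfsg.Agent.ChevalleyStructure.CoxeterGeom Cfsg.Agent.Tits.Roots Cfsg.Agent.Tits.Core
open Cfsg.Lie Cfsg.Agent.ChevalleyStructure Cfsg.Agent.ChevalleyStructure.Elts
  Cfsg.Agent.ChevalleyStructure.RootVec Cfsg.Agent.ChevalleyStructure.CoxeterGeomTypes
open Cfsg.Agent.Nodes Cfsg.Agent.Nodes.Reps Cfsg.Agent.Nodes.BNOf Cfsg.Agent.Nodes.RGDChev Cfsg.Agent.Nodes.Coroot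
  Cfsg.Agent.Nodes.KindF Cfsg.Agent.KFacts.ChevTwo Cfsg.Agent.KFacts.ChevTwoTab Cfsg.Agent.KFacts.ChevTwoInst
  Cfsg.Agent.KFacts.F4Star Cfsg.Agent.KFacts.F4Cent Cfsg.Agent.KFacts.F4Pair Cfsg.Agent.KFacts.F4Torus
  Cfsg.Agent.KFacts.F4Perf Cfsg.Agent.KFacts.F4AutPair Cfsg.Agent.KFacts.RgdTI
open Cfsg.Agent.KFacts.F4Model (cF)
open scoped commutatorElement

universe u

theorem two_rfl : ∀ a ∈ rts, B a a = 2 → ∃ b ∈ rts, ∃ c ∈ rts, rfl' c (rfl' b a) = s0 := by decide +kernel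

variable {F : Type u} [Field F] [Finite F] [CharP F 2] {G : Type*} [Group G]

namespace Setup

variable {f : ↥(chevF4.group F) →* G} {δ : (Fin 4 → ℤ) → (Fin 4 → ℤ)} {E : (Fin 4 → ℤ) → F → G}
  {T : (Fin 4 → Fˣ) →* G} (S : Setup f δ E T)

include S

theorem map_X {a : Fin 4 → ℤ} (ha : a ∈ rts) : (XF F (δ a)).map f = Xs (E a) := by
  ext g
  rw [mem_Xs_iff S.ch ha]
  constructor
  · rintro ⟨x, hx, rfl⟩
    exact S.e' a ha x hx
  · rintro ⟨u, rfl⟩
    obtain ⟨x, hx, h⟩ := S.e a ha u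
    exact ⟨x, hx, h.symm⟩

/-- an element of `K` conjugating `E a` to `E s0` -/
theorem exists_cj {a : Fin 4 → ℤ} (ha : a ∈ rts) (h : B a a = 2) :
    ∃ m ∈ f.range, cj m (Xs (E a)) = Xs (E s0) := by
  obtain ⟨b, hb, c, hc, e⟩ := two_rfl a ha h
  refine ⟨nE E c * nE E b, mul_mem (S.kc.nK hc (k_neg c hc).1) (S.kc.nK hb (k_neg b hb).1), ?_⟩
  rw [cj_mul, cj_X S.ch hb ha, cj_X S.ch hc (rfl_mem b hb a ha), e]

end Setup

/-- **No commuting pair of root type**, for one chart. -/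
theorem Setup.row [Finite G] [IsSimpleGroup ↥(chevF4.group F)] {f : ↥(chevF4.group F) →* G}
    {δ : (Fin 4 → ℤ) → (Fin 4 → ℤ)} {E : (Fin 4 → ℤ) → F → G} {T : (Fin 4 → Fˣ) →* G} (S : Setup f δ E T)
    (St : Std1 f.range) {R : Subgroup G} (hE : R ≤ Subgroup.centralizer (f.range : Set G)) (hE2 : IsPGroup 2 ↥R)
    (hEmax : ∀ D : Subgroup G, R ≤ D → D ≤ Subgroup.centralizer (f.range : Set G) → IsPGroup 2 ↥D → D ≤ R)
    (hC1 : ∀ H : Subgroup G, H ≤ C1 f.range R → H ≤ ⁅H, H⁆ → H = ⊥)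
    {t t' : G} (ht : t ∈ R) (ht1 : t ≠ 1) (ht' : t' ∈ R) (ht1' : t' ≠ 1) (hne : t' ≠ t)
    {γ k : G} (hk : k ∈ f.range) (hg1 : cj γ R ≤ R ⊔ Xs (E s0))
    (hg2 : R ≤ cj γ (R ⊔ cj k (Xs (E s0)))) (hg3 : ¬ cj γ R ≤ R) : False := by
  have hXK : Xs (E s0) ≤ f.range := XE_le S.kc
  have hKc : ∀ e ∈ R, ∀ y ∈ f.range, e * y = y * e := fun e he y hy =>
    ((Subgroup.mem_centralizer_iff.1 (hE he)) y hy).symm
  have hsplit : ∀ x ∈ R ⊔ Xs (E s0), ∃ e ∈ R, ∃ u ∈ Xs (E s0), x = e * u := by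
    intro x h4
    have h8 : x ∈ ((R ⊔ Xs (E s0) : Subgroup G) : Set G) := h4
    have h7 : Xs (E s0) ≤ Subgroup.normalizer (R : Set G) := by
      intro u hu
      rw [Subgroup.mem_normalizer_iff]
      intro e
      constructor
      · intro he
        have := hKc e he u (hXK hu)
        have e2 : u * e * u⁻¹ = e := by rw [← this]; group
        rwa [e2]
      · intro he
        have := hKc _ he u (hXK hu)
        have e2 : e = u * e * u⁻¹ := by
          calc e = u⁻¹ * ((u * e * u⁻¹) * u) := by group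
            _ = u⁻¹ * (u * (u * e * u⁻¹)) := by rw [this]
            _ = _ := by group
        rw [e2]; exact he
    rw [Subgroup.coe_mul_of_right_le_normalizer_left _ _ h7] at h8
    obtain ⟨e, he, u, hu, e3⟩ := h8
    exact ⟨e, he, u, hu, e3.symm⟩
  -- `R` and `cj γ R` have trivial intersection
  have hEγ : ∀ y ∈ cj γ R, y ∈ R → y = 1 := by
    intro y hy hyE
    by_contra hy1
    obtain ⟨m, hm⟩ := hE2 ⟨y, hyE⟩
    have hm' : y ^ 2 ^ m = 1 := congrArg Subtype.val hm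
    obtain ⟨j, hj1, hj2⟩ : ∃ j : ℕ, y ^ 2 ^ j ≠ 1 ∧ y ^ 2 ^ (j + 1) = 1 := by
      by_contra hcon
      push Not at hcon
      have key : ∀ j : ℕ, y ^ 2 ^ j ≠ 1 := by
        intro j
        induction j with
        | zero => simpa using hy1
        | succ j ih => exact hcon j ih
      exact key m hm'
    set z := y ^ 2 ^ j with hz
    have hzz : z * z = 1 := by
      rw [hz, ← pow_two, ← pow_mul, ← pow_succ]; exact hj2
    have hzE : z ∈ R := pow_mem hyE _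
    have hzγ : z ∈ cj γ R := pow_mem hy _
    rw [mem_cj] at hzγ
    have h1 : (γ⁻¹ * z * γ) * (γ⁻¹ * z * γ) = 1 := by
      calc (γ⁻¹ * z * γ) * (γ⁻¹ * z * γ) = γ⁻¹ * (z * z) * γ := by group
        _ = 1 := by rw [hzz]; group
    have h2 : γ⁻¹ * z * γ ≠ 1 := by
      intro h0
      apply hj1
      calc z = γ * (γ⁻¹ * z * γ) * γ⁻¹ := by group
        _ = 1 := by rw [h0]; group
    have h3 : cj γ f.range = f.range := by
      apply St.te _ (hE hzγ) h1 h2 γ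
      have : γ * (γ⁻¹ * z * γ) * γ⁻¹ = z := by group
      rw [this]
      exact hE hzE
    apply hg3
    intro x hx
    obtain ⟨e, he, u, hu, rfl⟩ := hsplit x (hg1 hx)
    have h5 : e * u ∈ Subgroup.centralizer (f.range : Set G) := by
      rw [← h3, ← cj_centralizer]
      exact cj_mono γ hE hx
    have h6 : u ∈ Subgroup.centralizer (f.range : Set G) := by
      have : u = e⁻¹ * (e * u) := by group
      rw [this]
      exact mul_mem (inv_mem (hE he)) h5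
    have h7 : u = 1 := St.ctr u (hXK hu) fun x hx => ((Subgroup.mem_centralizer_iff.1 h6) x hx).symm
    rw [h7, mul_one]; exact he
  -- `R` is elementary abelian
  have hEE : ∀ x ∈ R, x * x = 1 := by
    intro x hx
    have h1 : γ * x * γ⁻¹ ∈ cj γ R := conj_mem_cj.2 hx
    obtain ⟨e, he, u, hu, e1⟩ := hsplit _ (hg1 h1)
    have h2 := hKc e he u (hXK hu)
    have h3 : u * u = 1 := by
      obtain ⟨a, rfl⟩ := (mem_Xs_iff S.ch s0_mem).1 hu
      rw [← S.ch.add s0 s0_mem, S.ch.two]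
      have := S.ch.add s0 s0_mem 0 0
      rw [add_zero] at this
      exact (mul_eq_left.1 this.symm)
    have h4 : (γ * x * γ⁻¹) * (γ * x * γ⁻¹) = e * e := by
      rw [e1]
      calc e * u * (e * u) = e * (u * e) * u := by group
        _ = e * e * (u * u) := by rw [← h2]; group
        _ = e * e := by rw [h3, mul_one]
    have h5 := hEγ _ (mul_mem h1 h1) (by rw [h4]; exact mul_mem he he)
    calc x * x = γ⁻¹ * ((γ * x * γ⁻¹) * (γ * x * γ⁻¹)) * γ := by group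
      _ = 1 := by rw [h5]; group
  have amb : Amb f.range R := ⟨hEE, hKc, fun t ht ht1 g hg k hk => St.nor t (hE ht) (hEE t ht) ht1 g hg k hk, St.ctr⟩
  have two : ∀ c ∈ C1 f.range R, IsPGroup 2 (Subgroup.zpowers c) → c ∈ R := by
    intro c hc hc2
    have h1 := mem_C1.1 hc
    have h2 : Subgroup.zpowers c ≤ Subgroup.normalizer (R : Set G) := by
      rw [Subgroup.zpowers_le, mem_normalizer_iff_cj]
      have key : ∀ c : G, (∀ t ∈ R, c * t = t * c) → cj c R ≤ R := by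
        intro c hc x hx
        rw [mem_cj] at hx
        have h3 := hc _ hx
        have : x = c⁻¹ * x * c := by
          calc x = (c * (c⁻¹ * x * c)) * c⁻¹ := by group
            _ = ((c⁻¹ * x * c) * c) * c⁻¹ := by rw [h3]
            _ = _ := by group
        rw [this]; exact hx
      exact cj_eq_of_le' (key c h1.2) (key c⁻¹ fun t ht => comm_inv (h1.2 t ht))
    have h3 : IsPGroup 2 ↥(R ⊔ Subgroup.zpowers c) := hE2.to_sup_of_normal_left' hc2 h2
    refine hEmax _ le_sup_left ?_ h3 (Subgroup.mem_sup_right (Subgroup.mem_zpowers c))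
    refine sup_le hE ?_
    rw [Subgroup.zpowers_le, Subgroup.mem_centralizer_iff]
    exact fun y hy => (h1.1 y hy).symm
  -- elements of `C_G(R)` normalise `K`
  have hnorm : ∀ c : G, (∀ a ∈ R, c * a = a * c) → c ∈ Subgroup.normalizer (f.range : Set G) := by
    intro c hc
    rw [mem_normalizer_iff_cj]
    have key : ∀ c : G, (∀ a ∈ R, c * a = a * c) → cj c f.range ≤ f.range := by
      intro c hc x hx
      rw [mem_cj] at hx
      have := amb.nor t ht ht1 c (hc t ht) _ hx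
      have e2 : c * (c⁻¹ * x * c) * c⁻¹ = x := by group
      rwa [e2] at this
    exact cj_eq_of_le' (key c hc) (key c⁻¹ fun t ht => comm_inv (hc t ht))
  refine S.kp.no_pair amb (S.cf amb hnorm) two ?_ hC1 ht ht1 ht' ht1' hne hk hg1 hg2 hg3
  -- Schreier
  intro H hHN hHp x hx
  let e : ↥(chevF4.group F) ≃* ↥f.range := MonoidHom.ofInjective S.inj
  let φ : ↥(Subgroup.normalizer (f.range : Set G)) →* MulAut ↥(chevF4.group F) :=
    (MulAut.congr e.symm).toMonoidHom.comp (Subgroup.normalizerMonoidHom f.range)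
  have hφ : ∀ (c : ↥(Subgroup.normalizer (f.range : Set G))) (y : ↥(chevF4.group F)), f (φ c y) = c * f y * (c : G)⁻¹ := by
    intro c y
    have h1 : φ c y = e.symm (Subgroup.normalizerMonoidHom f.range c (e y)) := rfl
    have h2 : ∀ z : ↥f.range, f (e.symm z) = z := by
      intro z
      have : ((e (e.symm z) : ↥f.range) : G) = z := by rw [MulEquiv.apply_symm_apply]
      exact this
    rw [h1, h2]
    rfl
  have h1 : ((H.subgroupOf (Subgroup.normalizer (f.range : Set G))).map φ) ≤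
      ⁅(H.subgroupOf (Subgroup.normalizer (f.range : Set G))).map φ,
        (H.subgroupOf (Subgroup.normalizer (f.range : Set G))).map φ⁆ := by
    rw [← Subgroup.map_commutator]
    apply Subgroup.map_mono
    intro y hy
    have hy' : (y : G) ∈ ⁅H, H⁆ := hHp (Subgroup.mem_subgroupOf.1 hy)
    have h2 : ⁅H, H⁆ = ⁅H.subgroupOf (Subgroup.normalizer (f.range : Set G)),
        H.subgroupOf (Subgroup.normalizer (f.range : Set G))⁆.map (Subgroup.normalizer (f.range : Set G)).subtype := by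
      rw [Subgroup.map_commutator, Subgroup.map_subgroupOf_eq_of_le hHN]
    rw [h2] at hy'
    obtain ⟨y', hy1, hy2⟩ := hy'
    have : y' = y := Subtype.ext hy2
    rwa [← this]
  have h2 : φ ⟨x, hHN hx⟩ ∈ (H.subgroupOf (Subgroup.normalizer (f.range : Set G))).map φ :=
    ⟨⟨x, hHN hx⟩, hx, rfl⟩
  obtain ⟨y, hy⟩ := Cfsg.Agent.Schreier.Chev.sch_f4 F _ (le_antisymm
    (Subgroup.commutator_le_self _) h1) h2
  refine ⟨f y, ⟨y, rfl⟩, (f y)⁻¹ * x, ?_, by group⟩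
  rintro _ ⟨z, rfl⟩
  have h3 := hφ ⟨x, hHN hx⟩ z
  rw [← hy] at h3
  have h4 : f y * f z * (f y)⁻¹ = x * f z * x⁻¹ := by
    rw [← map_inv, ← map_mul, ← map_mul]
    exact h3
  calc (f y)⁻¹ * x * f z = (f y)⁻¹ * (x * f z * x⁻¹) * x := by group
    _ = f z * ((f y)⁻¹ * x) := by rw [← h4]; group

/-- **No commuting pair of root type**, for an arbitrary root `r`. -/
theorem row [Finite G] [IsSimpleGroup ↥(chevF4.group F)] (hq : ∃ μ : Fˣ, μ ≠ 1) {f : ↥(chevF4.group F) →* G}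
    (hf : Function.Injective f) {K : Subgroup G} (hK : f.range = K)
    (St : Std1 K) {R : Subgroup G} (hE : R ≤ Subgroup.centralizer (K : Set G)) (hE2 : IsPGroup 2 ↥R)
    (hEmax : ∀ D : Subgroup G, R ≤ D → D ≤ Subgroup.centralizer (K : Set G) → IsPGroup 2 ↥D → D ≤ R)
    (hC1 : ∀ H : Subgroup G, H ≤ C1 K R → H ≤ ⁅H, H⁆ → H = ⊥)
    {t t' : G} (ht : t ∈ R) (ht1 : t ≠ 1) (ht' : t' ∈ R) (ht1' : t' ≠ 1) (hne : t' ≠ t)
    {r : Fin 4 → ℤ} (hr : IsRoot cF isType.isCartan r) {γ k : G} (hk : k ∈ K)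
    (hg1 : cj γ R ≤ R ⊔ (XF F r).map f) (hg2 : R ≤ cj γ (R ⊔ cj k ((XF F r).map f))) (hg3 : ¬ cj γ R ≤ R) :
    False := by
  subst hK
  -- reduction to `s0` in a chart
  have key : ∀ (δ : (Fin 4 → ℤ) → (Fin 4 → ℤ)) (E : (Fin 4 → ℤ) → F → G) (T : (Fin 4 → Fˣ) →* G),
      Setup f δ E T → B (δ r) (δ r) = 2 → False := by
    intro δ E T S h2
    have hr' : r ∈ rts := root_iff.1 hr
    have hd := S.del.dm r hr'
    have hX := S.map_X hd
    rw [S.del.dd r hr'] at hX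
    obtain ⟨m, hm, hmX⟩ := S.exists_cj hd h2
    have hmR : cj m R = R := by
      have h1 : ∀ m ∈ f.range, cj m R ≤ R := by
        intro m hm x hx
        rw [mem_cj] at hx
        have h1 := ((Subgroup.mem_centralizer_iff.1 (hE hx)) m hm)
        have : x = m⁻¹ * x * m := by
          calc x = m * (m⁻¹ * x * m) * m⁻¹ := by group
            _ = (m⁻¹ * x * m) * m * m⁻¹ := by rw [← h1]
            _ = _ := by group
        rw [this]; exact hx
      exact cj_eq_of_le' (h1 m hm) (h1 m⁻¹ (inv_mem hm))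
    refine S.row St hE hE2 hEmax hC1 ht ht1 ht' ht1' hne (γ := m * γ) (k := k * m⁻¹) (mul_mem hk (inv_mem hm)) ?_ ?_ ?_
    · rw [cj_mul]
      have := cj_mono m hg1
      rwa [cj_sup, hmR, hX, hmX] at this
    · rw [cj_mul]
      have := cj_mono m hg2
      rw [hmR, hX] at this
      have h1 : cj (k * m⁻¹) (Xs (E s0)) = cj k (Xs (E (δ r))) := by
        rw [cj_mul, ← hmX, cj_inv_cj]
      rw [h1]; exact this
    · intro h
      apply hg3
      rw [cj_mul] at h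
      have := cj_mono m⁻¹ h
      rwa [cj_inv_cj, cj_inv_eq' hmR] at this
  have hr' : r ∈ rts := root_iff.1 hr
  rcases norm r hr' with h | h
  · exact key _ _ _ (setup_id hq hf) h
  · obtain ⟨rt, hrt⟩ := exists_rt (F := F)
    refine key _ _ _ (setup_dual hq hf hrt) ?_
    rcases k_norm r hr' with h' | h' <;> omega

end Cfsg.Agent.OddHalf.D4F4

end

-- merged: Cfsg.Agent.OddHalf.D4F4.Mixed
section

/-!
# ODD, D4, `F₄(q)`, `q ≥ 4` even: the elements of `Z(S) = X_σ X_ρ` of mixed type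

* `NX E R g` : `R ^ g ≤ R X`, `X ^ g = X`;
* `type` : if `R ^ g ∋ c x`, `x ∈ X_σ`, then `R ^ g ≤ R X_σ` (same for `ρ`);
* **`mixed`** : there is no `γ` with `S ^ γ = S`, `X ^ γ = X`, `R ^ γ ≤ R X`, `R ^ γ ≠ R`.
-/

set_option autoImplicit false
set_option linter.unusedSectionVars false

namespace Cfsg.Agent.OddHalf.D4F4

open Subgroup Cfsg.Agent.OddHalf.D7F4Ex Cfsg.Agent.OddHalf.D7F4Ex.Loc Cfsg.Agent.OddHalf.DblR
  Cfsg.Agent.OddHalf.D7F4 Cfsg.Agent.OddHalf.D7F4.Model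
open CoxeterSystem Cfsg.Agent.ChevalleyStructure.CoxeterGeom Cfsg.Agent.Tits.Roots Cfsg.Agent.Tits.Core
open Cfsg.Lie Cfsg.Agent.ChevalleyStructure Cfsg.Agent.ChevalleyStructure.Elts
  Cfsg.Agent.ChevalleyStructure.RootVec Cfsg.Agent.ChevalleyStructure.CoxeterGeomTypes
open Cfsg.Agent.Nodes Cfsg.Agent.Nodes.Reps Cfsg.Agent.Nodes.BNOf Cfsg.Agent.Nodes.RGDChev Cfsg.Agent.Nodes.Coroot
  Cfsg.Agent.Nodes.KindF Cfsg.Agent.KFacts.ChevTwo Cfsg.Agent.KFacts.ChevTwoTab Cfsg.Agent.KFacts.ChevTwoInst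
  Cfsg.Agent.KFacts.F4Star Cfsg.Agent.KFacts.F4Cent Cfsg.Agent.KFacts.F4Pair
open Cfsg.Agent.KFacts.F4Model (cF)
open scoped commutatorElement

universe u

/-- `{p, q} = {σ, ρ}` -/
def PQ (p q : Fin 4 → ℤ) : Prop := (p = s0 ∧ q = r0) ∨ (p = r0 ∧ q = s0)

theorem PQ.symm {p q : Fin 4 → ℤ} (h : PQ p q) : PQ q p := by
  rcases h with ⟨rfl, rfl⟩ | ⟨rfl, rfl⟩
  · exact Or.inr ⟨rfl, rfl⟩
  · exact Or.inl ⟨rfl, rfl⟩

theorem PQ.mem {p q : Fin 4 → ℤ} (h : PQ p q) : p ∈ rts := by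
  rcases h with ⟨rfl, rfl⟩ | ⟨rfl, rfl⟩
  · exact s0_mem
  · exact r0_mem

theorem dd_r0 : dd r0 = ![2, 2, 0, 0] := by decide +kernel

section Gen

variable {F : Type*} [Field F] {G : Type*} [Group G] {E : (Fin 4 → ℤ) → F → G} {T : (Fin 4 → Fˣ) →* G}

theorem PQ.sup {p q : Fin 4 → ℤ} (h : PQ p q) : XE E = Xs (E p) ⊔ Xs (E q) := by
  rcases h with ⟨rfl, rfl⟩ | ⟨rfl, rfl⟩
  · rfl
  · exact sup_comm _ _

theorem PQ.comm {p q : Fin 4 → ℤ} (h : PQ p q) (C : Chart E T) (a b : F) : E p a * E q b = E q b * E p a := by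
  rcases h with ⟨rfl, rfl⟩ | ⟨rfl, rfl⟩
  · exact XX_comm C _ (EX a) _ (EX b)
  · exact (XX_comm C _ (EX b) _ (EX a)).symm

theorem PQ.mem_XE {p q : Fin 4 → ℤ} (h : PQ p q) (C : Chart E T) {x : G} : x ∈ XE E ↔ ∃ a b, x = E p a * E q b := by
  rcases h with ⟨rfl, rfl⟩ | ⟨rfl, rfl⟩
  · exact D4F4.mem_XE C
  · rw [D4F4.mem_XE C]
    constructor
    · rintro ⟨a, b, rfl⟩
      exact ⟨b, a, XX_comm C _ (EX a) _ (EX b)⟩
    · rintro ⟨a, b, rfl⟩
      exact ⟨b, a, (XX_comm C _ (EX b) _ (EX a)).symm⟩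

theorem PQ.zero {p q : Fin 4 → ℤ} (h : PQ p q) (C : Chart E T) {a b : F} (e : E p a * E q b = 1) : a = 0 ∧ b = 0 := by
  rcases h with ⟨rfl, rfl⟩ | ⟨rfl, rfl⟩
  · exact XE_zero C e
  · rw [← XX_comm C _ (EX b) _ (EX a)] at e
    exact (XE_zero C e).symm

theorem E_zero (C : Chart E T) {a : Fin 4 → ℤ} (ha : a ∈ rts) : E a 0 = 1 := by
  have := C.add _ ha 0 0
  rw [add_zero] at this
  exact mul_eq_left.1 this.symm

theorem E_inv (C : Chart E T) {a : Fin 4 → ℤ} (ha : a ∈ rts) (u : F) : (E a u)⁻¹ = E a u := by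
  rw [inv_eq_iff_mul_eq_one, ← C.add _ ha, C.two, E_zero C ha]

theorem chd_r0 (ν : Fin 4 → Fˣ) : chd ν r0 = ν 0 ^ 2 * ν 1 ^ 2 := by
  unfold chd
  rw [dd_r0, Fin.prod_univ_four]
  simp

/-- the torus on `X` -/
theorem PQ.exists_t [Finite F] {p q : Fin 4 → ℤ} (h : PQ p q) (C : Chart E T) (α β : Fˣ) :
    ∃ ν, (∀ a, T ν * E p a * (T ν)⁻¹ = E p (α * a)) ∧ ∀ b, T ν * E q b * (T ν)⁻¹ = E q (β * b) := by
  have key : ∀ α β : Fˣ, ∃ ν, (∀ a, T ν * E s0 a * (T ν)⁻¹ = E s0 (α * a)) ∧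
      ∀ b, T ν * E r0 b * (T ν)⁻¹ = E r0 (β * b) := by
    intro α β
    obtain ⟨x, hx⟩ := C.loc.exists_sqrt_unit α
    obtain ⟨y, hy⟩ := C.loc.exists_sqrt_unit (α⁻¹ * β)
    refine ⟨![x, y, 1, 1], fun a => ?_, fun b => ?_⟩
    · rw [C.tor _ s0_mem, chd_s0]
      congr 2
      rw [← hx]; rfl
    · rw [C.tor _ r0_mem, chd_r0]
      congr 2
      have : (![x, y, 1, 1] : Fin 4 → Fˣ) 0 ^ 2 * (![x, y, 1, 1] : Fin 4 → Fˣ) 1 ^ 2 = β := by
        show x ^ 2 * y ^ 2 = β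
        rw [hx, hy]; group
      rw [this]
  rcases h with ⟨rfl, rfl⟩ | ⟨rfl, rfl⟩
  · exact key α β
  · obtain ⟨ν, h1, h2⟩ := key β α
    exact ⟨ν, h2, h1⟩

/-- `R ^ g ≤ R X`, `X ^ g = X` -/
structure NX (E : (Fin 4 → ℤ) → F → G) (R : Subgroup G) (g : G) : Prop where
  hR : cj g R ≤ R ⊔ XE E
  hX : cj g (XE E) = XE E

variable {R : Subgroup G}

theorem NX.mul {g h : G} (hg : NX E R g) (hh : NX E R h) : NX E R (g * h) := by
  refine ⟨?_, ?_⟩
  · rw [cj_mul]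
    refine (cj_mono g hh.hR).trans ?_
    rw [cj_sup, hg.hX]
    exact sup_le hg.hR le_sup_right
  · rw [cj_mul, hh.hX, hg.hX]

theorem NX.sup_eq [Finite G] {g : G} (hg : NX E R g) : cj g (R ⊔ XE E) = R ⊔ XE E := by
  refine Subgroup.eq_of_le_of_card_ge ?_ (by rw [card_cj_eq])
  rw [cj_sup, hg.hX]
  exact sup_le hg.hR le_sup_right

theorem NX.inv [Finite G] {g : G} (hg : NX E R g) : NX E R g⁻¹ := by
  refine ⟨?_, cj_inv_eq' hg.hX⟩
  have h1 : cj g⁻¹ (R ⊔ XE E) = R ⊔ XE E := cj_inv_eq' hg.sup_eq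
  refine le_trans (cj_mono g⁻¹ le_sup_left) h1.le

end Gen

variable {F : Type u} [Field F] [Finite F] [CharP F 2] {G : Type*} [Group G]
  {f : ↥(chevF4.group F) →* G} {E : (Fin 4 → ℤ) → F → G} {T : (Fin 4 → Fˣ) →* G} {R : Subgroup G}

theorem XE_le_K (S : Setup f id E T) : XE E ≤ f.range :=
  (XE_le_SE S.ch).trans (SupE_le fun _ hc u => S.E_range hc.1 u)

theorem RK_comm (hE : R ≤ Subgroup.centralizer (f.range : Set G)) : ∀ e ∈ R, ∀ y ∈ f.range, e * y = y * e :=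
  fun _ he y hy => ((Subgroup.mem_centralizer_iff.1 (hE he)) y hy).symm

theorem inf_R (S : Setup f id E T) (St : Std1 f.range) (hE : R ≤ Subgroup.centralizer (f.range : Set G)) {y : G}
    (hy : y ∈ R) (hX : y ∈ XE E) : y = 1 :=
  St.ctr y (XE_le_K S hX) fun x hx => RK_comm hE y hy x hx

theorem NX.inf (S : Setup f id E T) (St : Std1 f.range) (hE : R ≤ Subgroup.centralizer (f.range : Set G)) {g : G}
    (hg : NX E R g) {y : G} (hy : y ∈ cj g R) (hX : y ∈ XE E) : y = 1 := by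
  rw [← hg.hX] at hX
  rw [mem_cj] at hy hX
  have := inf_R S St hE hy hX
  calc y = g * (g⁻¹ * y * g) * g⁻¹ := by group
    _ = 1 := by rw [this]; group

/-- elements of `R X` in coordinates -/
theorem PQ.split {p q : Fin 4 → ℤ} (h : PQ p q) (S : Setup f id E T)
    (hE : R ≤ Subgroup.centralizer (f.range : Set G)) {d : G} (hd : d ∈ R ⊔ XE E) :
    ∃ c ∈ R, ∃ a b, d = c * (E p a * E q b) := by
  obtain ⟨c, hc, x, hx, rfl⟩ := mem_sup_comm (fun e he y hy => RK_comm hE e he y (XE_le_K S hy)) hd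
  obtain ⟨a, b, rfl⟩ := (h.mem_XE S.ch).1 hx
  exact ⟨c, hc, a, b, rfl⟩

/-- tight embedding -/
theorem ti (S : Setup f id E T) (St : Std1 f.range) (hE : R ≤ Subgroup.centralizer (f.range : Set G))
    (hE2 : IsPGroup 2 ↥R) {γ : G} (hγ : cj γ R ≤ R ⊔ XE E) {y : G} (hy : y ∈ cj γ R) (hyE : y ∈ R) (hy1 : y ≠ 1) :
    cj γ R ≤ R := by
  obtain ⟨m, hm⟩ := hE2 ⟨y, hyE⟩
  have hm' : y ^ 2 ^ m = 1 := congrArg Subtype.val hm
  obtain ⟨j, hj1, hj2⟩ : ∃ j : ℕ, y ^ 2 ^ j ≠ 1 ∧ y ^ 2 ^ (j + 1) = 1 := by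
    by_contra hcon
    push Not at hcon
    have key : ∀ j : ℕ, y ^ 2 ^ j ≠ 1 := by
      intro j
      induction j with
      | zero => simpa using hy1
      | succ j ih => exact hcon j ih
    exact key m hm'
  set z := y ^ 2 ^ j with hz
  have hzz : z * z = 1 := by
    rw [hz, ← pow_two, ← pow_mul, ← pow_succ]; exact hj2
  have hzE : z ∈ R := pow_mem hyE _
  have hzγ : z ∈ cj γ R := pow_mem hy _
  rw [mem_cj] at hzγ
  have h1 : (γ⁻¹ * z * γ) * (γ⁻¹ * z * γ) = 1 := by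
    calc (γ⁻¹ * z * γ) * (γ⁻¹ * z * γ) = γ⁻¹ * (z * z) * γ := by group
      _ = 1 := by rw [hzz]; group
  have h2 : γ⁻¹ * z * γ ≠ 1 := by
    intro h0
    apply hj1
    calc z = γ * (γ⁻¹ * z * γ) * γ⁻¹ := by group
      _ = 1 := by rw [h0]; group
  have h3 : cj γ f.range = f.range := by
    apply St.te _ (hE hzγ) h1 h2 γ
    have : γ * (γ⁻¹ * z * γ) * γ⁻¹ = z := by group
    rw [this]
    exact hE hzE
  intro x hx
  obtain ⟨e, he, u, hu, rfl⟩ := mem_sup_comm (fun e he y hy => RK_comm hE e he y (XE_le_K S hy)) (hγ hx)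
  have h5 : e * u ∈ Subgroup.centralizer (f.range : Set G) := by
    rw [← h3, ← cj_centralizer]
    exact cj_mono γ hE hx
  have h6 : u ∈ Subgroup.centralizer (f.range : Set G) := by
    have : u = e⁻¹ * (e * u) := by group
    rw [this]
    exact mul_mem (inv_mem (hE he)) h5
  have h7 : u = 1 := St.ctr u (XE_le_K S hu) fun x hx => ((Subgroup.mem_centralizer_iff.1 h6) x hx).symm
  rw [h7, mul_one]; exact he

/-- the elements of `K` normalise `R` -/
theorem cj_K (hE : R ≤ Subgroup.centralizer (f.range : Set G)) {m : G} (hm : m ∈ f.range) : cj m R = R := by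
  have h1 : ∀ m ∈ f.range, cj m R ≤ R := by
    intro m hm x hx
    rw [mem_cj] at hx
    have h1 := RK_comm hE _ hx m hm
    have : x = m⁻¹ * x * m := by
      calc x = m * (m⁻¹ * x * m) * m⁻¹ := by group
        _ = (m⁻¹ * x * m) * m * m⁻¹ := by rw [← h1]
        _ = _ := by group
    rw [this]; exact hx
  exact cj_eq_of_le' (h1 m hm) (h1 m⁻¹ (inv_mem hm))

theorem PQ.cj_T {p q : Fin 4 → ℤ} (h : PQ p q) (S : Setup f id E T) (ν : Fin 4 → Fˣ) :
    cj (T ν) (Xs (E p)) = Xs (E p) := by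
  have key : ∀ ν, cj (T ν) (Xs (E p)) ≤ Xs (E p) := by
    intro ν x hx
    rw [mem_cj] at hx
    obtain ⟨u, hu⟩ := (mem_Xs_iff S.ch h.mem).1 hx
    have : x = T ν * E p u * (T ν)⁻¹ := by rw [← hu]; group
    rw [this, S.ch.tor _ h.mem]
    exact EX _
  refine cj_eq_of_le' (key ν) ?_
  have := key ν⁻¹
  rwa [map_inv] at this

theorem NX_T (S : Setup f id E T) (hE : R ≤ Subgroup.centralizer (f.range : Set G)) (ν : Fin 4 → Fˣ) :
    NX E R (T ν) := by
  have h : PQ s0 r0 := Or.inl ⟨rfl, rfl⟩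
  refine ⟨?_, ?_⟩
  · rw [cj_K hE (S.TE ν)]; exact le_sup_left
  · rw [XE, cj_sup, h.cj_T S, h.symm.cj_T S]

/-- `T ν` moves the elements of `cj g R` -/
theorem moved {p q : Fin 4 → ℤ} (h : PQ p q) (S : Setup f id E T) (St : Std1 f.range)
    (hE : R ≤ Subgroup.centralizer (f.range : Set G)) {g : G} (hg : NX E R g) {ν : Fin 4 → Fˣ} {μ : Fˣ} (hμ : μ ≠ 1)
    (h1 : ∀ a, T ν * E p a * (T ν)⁻¹ = E p ((1 : Fˣ) * a)) (h2 : ∀ b, T ν * E q b * (T ν)⁻¹ = E q (μ * b))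
    (hi : cj (T ν) (cj g R) ≤ cj g R) : cj g R ≤ R ⊔ Xs (E p) := by
  have C := S.ch
  intro d hd
  obtain ⟨c, hc, a, b, rfl⟩ := h.split S hE (hg.hR hd)
  have h3 : T ν * (c * (E p a * E q b)) * (T ν)⁻¹ ∈ cj g R := hi (conj_mem_cj.2 hd)
  have h4 := RK_comm hE c hc _ (S.TE ν)
  have h5 : T ν * (c * (E p a * E q b)) * (T ν)⁻¹ = c * (E p a * E q (μ * b)) := by
    calc T ν * (c * (E p a * E q b)) * (T ν)⁻¹
        = c * (T ν * (E p a * E q b) * (T ν)⁻¹) := by rw [← mul_assoc (T ν), ← h4]; group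
      _ = c * ((T ν * E p a * (T ν)⁻¹) * (T ν * E q b * (T ν)⁻¹)) := by group
      _ = _ := by rw [h1, h2, Units.val_one, one_mul]
  rw [h5] at h3
  have h6 : (c * (E p a * E q b))⁻¹ * (c * (E p a * E q (μ * b))) = E q (b + μ * b) := by
    rw [C.add _ h.symm.mem]
    calc (c * (E p a * E q b))⁻¹ * (c * (E p a * E q (μ * b))) = (E q b)⁻¹ * E q (μ * b) := by group
      _ = _ := by rw [E_inv C h.symm.mem]
  have h7 : E q (b + μ * b) ∈ cj g R := by
    rw [← h6]; exact mul_mem (inv_mem hd) h3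
  have h8 := hg.inf S St hE h7 ((h.mem_XE C).2 ⟨0, _, by rw [E_zero C h.mem, one_mul]⟩)
  have h9 := C.inj _ h.symm.mem _ h8
  have h10 : b = 0 := by
    by_contra hb
    apply hμ
    have h11 : (1 + (μ : F)) * b = 0 := by rw [add_mul, one_mul]; exact h9
    rcases mul_eq_zero.1 h11 with h12 | h12
    · apply Units.ext
      rw [Units.val_one]
      exact (Cfsg.Agent.OddHalf.D7F4Ex.Loc.add_eq_zero C.loc h12).symm
    · exact absurd h12 hb
  rw [h10, E_zero C h.symm.mem, mul_one]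
  exact mul_mem (mem_sup_left hc) (mem_sup_right (EX a))

/-- **Type.** -/
theorem type [Finite G] {p q : Fin 4 → ℤ} (h : PQ p q) (S : Setup f id E T) (St : Std1 f.range)
    (hE : R ≤ Subgroup.centralizer (f.range : Set G)) (hE2 : IsPGroup 2 ↥R) {g : G} (hg : NX E R g)
    {c : G} (hc : c ∈ R) {a : F} (hd : c * E p a ∈ cj g R) (hd1 : c * E p a ≠ 1) : cj g R ≤ R ⊔ Xs (E p) := by
  have C := S.ch
  obtain ⟨μ, hμ⟩ := C.big
  obtain ⟨ν, h1, h2⟩ := h.exists_t C 1 μ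
  refine moved h S St hE hg hμ h1 h2 ?_
  have hn : NX E R (g⁻¹ * T ν * g) := (hg.inv.mul (NX_T S hE ν)).mul hg
  have h4 := RK_comm hE c hc _ (S.TE ν)
  have h5 : T ν * (c * E p a) * (T ν)⁻¹ = c * E p a := by
    calc T ν * (c * E p a) * (T ν)⁻¹ = c * (T ν * E p a * (T ν)⁻¹) := by rw [← mul_assoc (T ν), ← h4]; group
      _ = _ := by rw [h1, Units.val_one, one_mul]
  have h6 : (T ν)⁻¹ * (c * E p a) * T ν = c * E p a := by
    calc (T ν)⁻¹ * (c * E p a) * T ν = (T ν)⁻¹ * (T ν * (c * E p a) * (T ν)⁻¹) * T ν := by rw [h5]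
      _ = _ := by group
  have h7 := ti S St hE hE2 hn.hR (y := g⁻¹ * (c * E p a) * g) (by
    rw [mem_cj]
    have e : (g⁻¹ * T ν * g)⁻¹ * (g⁻¹ * (c * E p a) * g) * (g⁻¹ * T ν * g) =
        g⁻¹ * ((T ν)⁻¹ * (c * E p a) * T ν) * g := by group
    rw [e, h6]
    exact mem_cj.1 hd) (mem_cj.1 hd) (by
    intro h0
    apply hd1
    calc c * E p a = g * (g⁻¹ * (c * E p a) * g) * g⁻¹ := by group
      _ = 1 := by rw [h0]; group)
  have h8 := cj_mono g h7
  rw [← cj_mul] at h8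
  have e : g * (g⁻¹ * T ν * g) = T ν * g := by group
  rw [e, cj_mul] at h8
  exact h8

section Final

variable [Finite G] [IsSimpleGroup ↥(chevF4.group F)] (S : Setup f id E T) (St : Std1 f.range)
  (hE : R ≤ Subgroup.centralizer (f.range : Set G)) (hE2 : IsPGroup 2 ↥R)
  (hEmax : ∀ D : Subgroup G, R ≤ D → D ≤ Subgroup.centralizer (f.range : Set G) → IsPGroup 2 ↥D → D ≤ R)
  (hC1 : ∀ H : Subgroup G, H ≤ C1 f.range R → H ≤ ⁅H, H⁆ → H = ⊥)
  {t t' : G} (ht : t ∈ R) (ht1 : t ≠ 1) (ht' : t' ∈ R) (ht1' : t' ≠ 1) (hne : t' ≠ t)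

include S St hE hE2 hEmax hC1 ht ht1 ht' ht1' hne

/-- root type, the root group is stabilised -/
theorem root_false {p q : Fin 4 → ℤ} (h : PQ p q) {g : G} (h1 : cj g R ≤ R ⊔ Xs (E p))
    (h2 : cj g (Xs (E p)) = Xs (E p)) (h3 : ¬ cj g R ≤ R) : False := by
  have hX : (XF F p).map f = Xs (E p) := S.map_X h.mem
  refine row S.ch.big S.inj rfl St hE hE2 hEmax hC1 ht ht1 ht' ht1' hne (root_iff.2 h.mem) (k := 1) (one_mem _)
    (by rw [hX]; exact h1) ?_ h3
  rw [hX, cj_one]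
  have h4 : cj g (R ⊔ Xs (E p)) = R ⊔ Xs (E p) := by
    refine Subgroup.eq_of_le_of_card_ge ?_ (by rw [card_cj_eq])
    rw [cj_sup, h2]
    exact sup_le h1 le_sup_right
  rw [h4]; exact le_sup_left

/-- root type, the two root groups are exchanged -/
theorem root_false' {p q : Fin 4 → ℤ} (h : PQ p q) {g : G} (hg : NX E R g) (h1 : cj g R ≤ R ⊔ Xs (E p))
    (h2' : cj g (Xs (E q)) = Xs (E p)) (h3 : ¬ cj g R ≤ R) : False := by
  have C := S.ch
  have hXK : Xs (E p) ≤ XE E := by rw [h.sup]; exact le_sup_left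
  -- `R ≤ R ^ g X_p`
  have h4 : R ≤ cj g R ⊔ Xs (E p) := by
    intro c hc
    have h5 : c ∈ cj g (R ⊔ XE E) := by rw [hg.sup_eq]; exact mem_sup_left hc
    rw [cj_sup, hg.hX] at h5
    have hcm : ∀ a ∈ cj g R, ∀ d ∈ XE E, a * d = d * a := by
      intro a ha d hd
      rw [← hg.hX] at hd
      rw [mem_cj] at ha hd
      have := RK_comm hE _ ha _ (XE_le_K S hd)
      calc a * d = g * ((g⁻¹ * a * g) * (g⁻¹ * d * g)) * g⁻¹ := by group
        _ = g * ((g⁻¹ * d * g) * (g⁻¹ * a * g)) * g⁻¹ := by rw [this]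
        _ = d * a := by group
    obtain ⟨d, hd, x, hx, e⟩ := mem_sup_comm hcm h5
    obtain ⟨c', hc', x', hx', e'⟩ := mem_sup_comm (fun e he y hy => RK_comm hE e he y (XE_le_K S (hXK hy))) (h1 hd)
    have h6 : c'⁻¹ * c = x' * x := by rw [e, e']; group
    have h7 : x' * x = 1 := by
      apply inf_R S St hE
      · rw [← h6]; exact mul_mem (inv_mem hc') hc
      · exact mul_mem (hXK hx') hx
    have h8 : x = x'⁻¹ := by rw [eq_comm, inv_eq_iff_mul_eq_one]; exact h7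
    rw [e, h8]
    exact mul_mem (mem_sup_left hd) (mem_sup_right (inv_mem hx'))
  have h5 : cj g⁻¹ R ≤ R ⊔ Xs (E q) := by
    have h6 := cj_mono g⁻¹ h4
    rw [cj_sup, cj_inv_cj, ← h2', cj_inv_cj] at h6
    exact h6
  obtain ⟨μ, hμ⟩ := C.big
  obtain ⟨ν, h7, h8⟩ := h.exists_t C 1 μ
  refine root_false S St hE hE2 hEmax hC1 ht ht1 ht' ht1' hne h (g := g * T ν * g⁻¹) ?_ ?_ ?_
  · rw [cj_mul, cj_mul]
    have h9 : cj (T ν) (cj g⁻¹ R) ≤ R ⊔ Xs (E q) := by
      have := cj_mono (T ν) h5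
      rwa [cj_sup, cj_K hE (S.TE ν), h.symm.cj_T S] at this
    have h10 := cj_mono g h9
    rw [cj_sup, h2'] at h10
    exact h10.trans (sup_le h1 le_sup_right)
  · rw [cj_mul, cj_mul]
    have h9 : cj g⁻¹ (Xs (E p)) = Xs (E q) := by rw [← h2', cj_inv_cj]
    rw [h9, h.symm.cj_T S, h2']
  · intro h0
    rw [cj_mul, cj_mul] at h0
    have h9 := cj_mono g⁻¹ h0
    rw [cj_inv_cj] at h9
    -- `T ν` normalises `R ^ g⁻¹`
    have h10 := moved h S St hE hg.inv hμ h7 h8 h9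
    -- so `R ^ g⁻¹ ≤ R`
    apply h3
    have h11 : cj g⁻¹ R ≤ R := by
      intro d hd
      obtain ⟨c, hc, x, hx, e⟩ := mem_sup_comm (fun e he y hy => RK_comm hE e he y (XE_le_K S (hXK hy))) (h10 hd)
      have hXK' : Xs (E q) ≤ XE E := by rw [h.sup]; exact le_sup_right
      obtain ⟨c', hc', x', hx', e'⟩ := mem_sup_comm
        (fun e he y hy => RK_comm hE e he y (XE_le_K S (hXK' hy))) (h5 hd)
      have h12 : c'⁻¹ * c = x' * x⁻¹ := by
        have h13 : c' * x' = c * x := by rw [← e, ← e']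
        calc c'⁻¹ * c = c'⁻¹ * (c * x) * x⁻¹ := by group
          _ = c'⁻¹ * (c' * x') * x⁻¹ := by rw [h13]
          _ = _ := by group
      have h13 : x' * x⁻¹ = 1 := by
        apply inf_R S St hE
        · rw [← h12]; exact mul_mem (inv_mem hc') hc
        · exact mul_mem (hXK' hx') (inv_mem (hXK hx))
      have h14 : x' = x := mul_inv_eq_one.1 h13
      obtain ⟨a, rfl⟩ := (mem_Xs_iff C h.mem).1 hx
      obtain ⟨b, rfl⟩ := (mem_Xs_iff C h.symm.mem).1 hx'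
      have h15 : a = 0 := by
        have h16 : E p a * E q b = 1 := by
          rw [h14, ← C.add _ h.mem, C.two, E_zero C h.mem]
        exact (h.zero C h16).1
      rw [e, h15, E_zero C h.mem, mul_one]; exact hc
    have h12 : Nat.card ↥(cj g⁻¹ R) = Nat.card ↥R := card_cj_eq _ _
    have h13 : cj g⁻¹ R = R := Subgroup.eq_of_le_of_card_ge h11 h12.ge
    conv_lhs => rw [← h13]
    rw [cj_cj_inv]

/-- **No `γ`.** -/
theorem mixed {γ : G} (hS : cj γ (SE E) = SE E) (hX : cj γ (XE E) = XE E) (h1 : cj γ R ≤ R ⊔ XE E)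
    (h3 : ¬ cj γ R ≤ R) : False := by
  have C := S.ch
  have hg : NX E R γ := ⟨h1, hX⟩
  have h0 : PQ s0 r0 := Or.inl ⟨rfl, rfl⟩
  have hsw := swap S hS hX
  -- root type
  have hroot : ∀ {p q : Fin 4 → ℤ}, PQ p q → ∀ c ∈ R, ∀ a, c * E p a ∈ cj γ R → c * E p a ≠ 1 → False := by
    intro p q h c hc a hd hd1
    have h4 := type h S St hE hE2 hg hc hd hd1
    rcases hsw with ⟨h5, h6⟩ | ⟨h5, h6⟩
    · refine root_false S St hE hE2 hEmax hC1 ht ht1 ht' ht1' hne h h4 ?_ h3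
      rcases h with ⟨rfl, rfl⟩ | ⟨rfl, rfl⟩
      · exact h5
      · exact h6
    · have h7 : cj γ (Xs (E p)) = Xs (E q) ∧ cj γ (Xs (E q)) = Xs (E p) := by
        rcases h with ⟨rfl, rfl⟩ | ⟨rfl, rfl⟩
        · exact ⟨h5, h6⟩
        · exact ⟨h6, h5⟩
      exact root_false' S St hE hE2 hEmax hC1 ht ht1 ht' ht1' hne h hg h4 h7.2 h3
  -- an element of `R ^ γ` with component `t`
  have hcm : ∀ a ∈ cj γ R, ∀ d ∈ XE E, a * d = d * a := by
    intro a ha d hd
    rw [← hg.hX] at hd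
    rw [mem_cj] at ha hd
    have := RK_comm hE _ ha _ (XE_le_K S hd)
    calc a * d = γ * ((γ⁻¹ * a * γ) * (γ⁻¹ * d * γ)) * γ⁻¹ := by group
      _ = γ * ((γ⁻¹ * d * γ) * (γ⁻¹ * a * γ)) * γ⁻¹ := by rw [this]
      _ = d * a := by group
  have hcomp : ∀ c ∈ R, c ≠ 1 → ∃ a b, c * (E s0 a * E r0 b) ∈ cj γ R ∧ a ≠ 0 ∧ b ≠ 0 := by
    intro c hc hc1
    have h5 : c ∈ cj γ (R ⊔ XE E) := by rw [hg.sup_eq]; exact mem_sup_left hc
    rw [cj_sup, hg.hX] at h5
    obtain ⟨d, hd, x, hx, e⟩ := mem_sup_comm hcm h5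
    obtain ⟨a, b, e'⟩ := (mem_XE C).1 (inv_mem hx)
    have h6 : c * (E s0 a * E r0 b) = d := by rw [← e', e]; group
    have h7 : c * (E s0 a * E r0 b) ∈ cj γ R := by rw [h6]; exact hd
    refine ⟨a, b, h7, ?_, ?_⟩
    · rintro rfl
      rw [E_zero C s0_mem, one_mul] at h7
      refine hroot h0.symm c hc b h7 ?_
      intro h8
      apply hc1
      apply inf_R S St hE hc
      have : c = (E r0 b)⁻¹ := eq_inv_of_mul_eq_one_left h8
      rw [this]
      exact inv_mem (mem_sup_right (EX b))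
    · rintro rfl
      rw [E_zero C r0_mem, mul_one] at h7
      refine hroot h0 c hc a h7 ?_
      intro h8
      apply hc1
      apply inf_R S St hE hc
      have : c = (E s0 a)⁻¹ := eq_inv_of_mul_eq_one_left h8
      rw [this]
      exact inv_mem (mem_sup_left (EX a))
  obtain ⟨a, b, hd, ha, hb⟩ := hcomp t ht ht1
  obtain ⟨μ, hμ⟩ := C.big
  -- `w`
  set w := E s0 ((μ : F) * a) * E r0 b with hw
  have hμa : (μ : F) * a ≠ 0 := mul_ne_zero μ.ne_zero ha
  have hwX : w ∈ XE E := (mem_XE C).2 ⟨_, _, rfl⟩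
  set d := t * (E s0 a * E r0 b) with hdd
  have hdw : d * w = t * E s0 (a + μ * a) := by
    rw [hdd, hw, C.add _ s0_mem]
    have e1 := XX_comm C _ (EX ((μ : F) * a)) _ (EX b)
    have e2 : E r0 b * E r0 b = 1 := by rw [← C.add _ r0_mem, C.two, E_zero C r0_mem]
    calc t * (E s0 a * E r0 b) * (E s0 (μ * a) * E r0 b)
        = t * E s0 a * E r0 b * (E s0 (μ * a) * E r0 b) := by group
      _ = t * E s0 a * E r0 b * (E r0 b * E s0 (μ * a)) := by rw [e1]
      _ = t * E s0 a * (E r0 b * E r0 b) * E s0 (μ * a) := by group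
      _ = _ := by rw [e2]; group
  -- its preimage
  have hc' : γ⁻¹ * d * γ ∈ R := mem_cj.1 hd
  have hc1' : γ⁻¹ * d * γ ≠ 1 := by
    intro h4
    have h5 : d = 1 := by
      calc d = γ * (γ⁻¹ * d * γ) * γ⁻¹ := by group
        _ = 1 := by rw [h4]; group
    apply ht1
    apply inf_R S St hE ht
    have h6 : t = (E s0 a * E r0 b)⁻¹ := eq_inv_of_mul_eq_one_left h5
    rw [h6]
    exact inv_mem ((mem_XE C).2 ⟨_, _, rfl⟩)
  have hw' : γ⁻¹ * w * γ ∈ XE E := by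
    rw [← mem_cj, hX]; exact hwX
  obtain ⟨x, y, hxy⟩ := (mem_XE C).1 hw'
  -- `w'` is mixed
  have hnot : ∀ V : Subgroup G, cj γ V = Xs (E s0) ∨ cj γ V = Xs (E r0) → γ⁻¹ * w * γ ∉ V := by
    intro V hV h4
    rw [← mem_cj] at h4
    rcases hV with hV | hV <;> rw [hV] at h4
    · obtain ⟨v, hv⟩ := (mem_Xs_iff C s0_mem).1 h4
      have h5 : E s0 (μ * a + v) * E r0 b = 1 := by
        have e1 := XX_comm C _ (EX v) _ (EX b)
        rw [C.add _ s0_mem]
        calc E s0 (μ * a) * E s0 v * E r0 b = E s0 (μ * a) * (E s0 v * E r0 b) := by group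
          _ = (E s0 (μ * a) * E r0 b) * E s0 v := by rw [e1]; group
          _ = E s0 v * E s0 v := by rw [← hw, hv]
          _ = 1 := by rw [← C.add _ s0_mem, C.two, E_zero C s0_mem]
      exact hb (XE_zero C h5).2
    · obtain ⟨v, hv⟩ := (mem_Xs_iff C r0_mem).1 h4
      have h5 : E s0 (μ * a) * E r0 (b + v) = 1 := by
        rw [C.add _ r0_mem]
        calc E s0 (μ * a) * (E r0 b * E r0 v) = (E s0 (μ * a) * E r0 b) * E r0 v := by group
          _ = E r0 v * E r0 v := by rw [← hw, hv]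
          _ = 1 := by rw [← C.add _ r0_mem, C.two, E_zero C r0_mem]
      exact hμa (XE_zero C h5).1
  have hx : x ≠ 0 := by
    rintro rfl
    rw [E_zero C s0_mem, one_mul] at hxy
    refine hnot (Xs (E r0)) ?_ (by rw [hxy]; exact EX y)
    rcases hsw with ⟨-, h5⟩ | ⟨-, h5⟩
    · exact Or.inr h5
    · exact Or.inl h5
  have hy : y ≠ 0 := by
    rintro rfl
    rw [E_zero C r0_mem, mul_one] at hxy
    refine hnot (Xs (E s0)) ?_ (by rw [hxy]; exact EX x)
    rcases hsw with ⟨h5, -⟩ | ⟨h5, -⟩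
    · exact Or.inl h5
    · exact Or.inr h5
  -- an element of `R ^ γ` with component `c' = γ⁻¹ d γ`
  obtain ⟨a', b', hd', ha', hb'⟩ := hcomp _ hc' hc1'
  obtain ⟨ν, hν1, hν2⟩ := h0.exists_t C (Units.mk0 x hx * (Units.mk0 a' ha')⁻¹) (Units.mk0 y hy * (Units.mk0 b' hb')⁻¹)
  have hT : T ν * (γ⁻¹ * d * γ * (E s0 a' * E r0 b')) * (T ν)⁻¹ = γ⁻¹ * (d * w) * γ := by
    have h4 := RK_comm hE _ hc' _ (S.TE ν)
    have e1 : ((Units.mk0 x hx * (Units.mk0 a' ha')⁻¹ : Fˣ) : F) * a' = x := by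
      rw [Units.val_mul, Units.val_inv_eq_inv_val, Units.val_mk0, Units.val_mk0, mul_assoc, inv_mul_cancel₀ ha', mul_one]
    have e2 : ((Units.mk0 y hy * (Units.mk0 b' hb')⁻¹ : Fˣ) : F) * b' = y := by
      rw [Units.val_mul, Units.val_inv_eq_inv_val, Units.val_mk0, Units.val_mk0, mul_assoc, inv_mul_cancel₀ hb', mul_one]
    calc T ν * (γ⁻¹ * d * γ * (E s0 a' * E r0 b')) * (T ν)⁻¹
        = (T ν * (γ⁻¹ * d * γ)) * (E s0 a' * E r0 b') * (T ν)⁻¹ := by group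
      _ = (γ⁻¹ * d * γ) * ((T ν * E s0 a' * (T ν)⁻¹) * (T ν * E r0 b' * (T ν)⁻¹)) := by rw [← h4]; group
      _ = (γ⁻¹ * d * γ) * (γ⁻¹ * w * γ) := by rw [hν1, hν2, e1, e2, ← hxy]
      _ = _ := by group
  -- `d w ∈ R ^ n`, `n = γ t γ`
  have hn : d * w ∈ cj (γ * T ν * γ) R := by
    rw [cj_mul, cj_mul, mem_cj, ← hT]
    exact conj_mem_cj.2 hd'
  rw [hdw] at hn
  have hnN : NX E R (γ * T ν * γ) := (hg.mul (NX_T S hE ν)).mul hg
  have h4 : a + μ * a ≠ 0 := by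
    intro h5
    apply hμ
    have h6 : (1 + (μ : F)) * a = 0 := by rw [add_mul, one_mul]; exact h5
    rcases mul_eq_zero.1 h6 with h7 | h7
    · apply Units.ext
      rw [Units.val_one]
      exact (Cfsg.Agent.OddHalf.D7F4Ex.Loc.add_eq_zero C.loc h7).symm
    · exact absurd h7 ha
  have h5 : t * E s0 (a + μ * a) ∉ R := by
    intro h6
    have h7 : E s0 (a + μ * a) ∈ R := by
      have : E s0 (a + μ * a) = t⁻¹ * (t * E s0 (a + μ * a)) := by group
      rw [this]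
      exact mul_mem (inv_mem ht) h6
    exact h4 (C.inj _ s0_mem _ (inf_R S St hE h7 (mem_sup_left (EX _))))
  have h6 := type h0 S St hE hE2 hnN ht hn fun h7 => h5 (by rw [h7]; exact one_mem _)
  refine root_false S St hE hE2 hEmax hC1 ht ht1 ht' ht1' hne h0 h6 ?_ (fun h7 => h5 (h7 hn))
  rw [cj_mul, cj_mul]
  rcases hsw with ⟨h7, h8⟩ | ⟨h7, h8⟩
  · rw [h7, h0.cj_T S, h7]
  · rw [h7, h0.symm.cj_T S, h8]

end Final

end Cfsg.Agent.OddHalf.D4F4

end

-- merged: Cfsg.Agent.OddHalf.D4.F4Mixed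
section

/-!
# `F₄(q)`, `q` even: the centralisers of the elements of `Z(U) = X_ρ X_σ` (ODD, D4, LEMMA INPUT; helper949)

* `c47_m24`, `c44_m33` : `[x_ρ(t), x_{-α₃}(s)] = x₄₆(ts)`, `[x_σ(t), x_{-α₀}(s)] = x₄₀(ts)`;
* `cent_mixed` : `C_K(x_ρ x_σ) = LK` for nontrivial `x_ρ`, `x_σ`;
* `cases_Z` : the nontrivial elements of `Z(U)`.
-/

set_option autoImplicit false
set_option Elab.async false
set_option linter.unusedSectionVars false

namespace Cfsg.Agent.OddHalf.D4.F4Mixed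

open CoxeterSystem Cfsg.Agent.ChevalleyStructure.CoxeterGeom Cfsg.Agent.Tits.Roots Cfsg.Agent.Tits.Core
open Cfsg.Lie Cfsg.Agent.ChevalleyStructure Cfsg.Agent.ChevalleyStructure.Elts
  Cfsg.Agent.ChevalleyStructure.RootVec Cfsg.Agent.ChevalleyStructure.CoxeterGeomTypes
open Cfsg.Agent.Nodes Cfsg.Agent.Nodes.Reps Cfsg.Agent.Nodes.BNOf Cfsg.Agent.Nodes.RGDChev Cfsg.Agent.Nodes.Coroot
  Cfsg.Agent.Nodes.KindF Cfsg.Agent.Nodes.Bruhat Cfsg.Agent.KFacts.ChevTwo Cfsg.Agent.KFacts.ChevTwoTab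
  Cfsg.Agent.KFacts.ChevTwoInst Cfsg.Agent.KFacts.RgdTI
  Cfsg.Agent.KFacts.F4Star Cfsg.Agent.KFacts.F4Cent Cfsg.Agent.KFacts.F4Pair Cfsg.Agent.KFacts.F4Torus
  Cfsg.Agent.KFacts.F4Perf Cfsg.Agent.OddHalf.D7F4.KFront
open scoped commutatorElement

universe u

variable {K : Type u} [Field K] [Finite K] [CharP K 2]

/-! ### Commutators with `X_{-α₃}`, `X_{-α₀}` -/

theorem chkNeg : (lin 1 46 1 47 1 23 && decide (carB chevF4 47 23 = -1) && decide (carB chevF4 23 47 = -1) &&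
    lin 1 40 1 44 1 14 && decide (carB chevF4 44 14 = -1) && decide (carB chevF4 14 44 = -1) &&
    (nn 23).testBit 44 && (nn 14).testBit 47) = true := by decide +kernel

theorem neg_facts : v 46 = v 47 + v 23 ∧ cpr c4 isType.isCartan (v 23) (v 47) = -1 ∧
    cpr c4 isType.isCartan (v 47) (v 23) = -1 ∧ v 40 = v 44 + v 14 ∧ cpr c4 isType.isCartan (v 14) (v 44) = -1 ∧
    cpr c4 isType.isCartan (v 44) (v 14) = -1 ∧ 0 ≤ cpr c4 isType.isCartan (v 44) (v 23) ∧
    0 ≤ cpr c4 isType.isCartan (v 47) (v 14) := by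
  have h := chkNeg
  simp only [Bool.and_eq_true, decide_eq_true_eq] at h
  obtain ⟨⟨⟨⟨⟨⟨⟨h1, h2⟩, h3⟩, h4⟩, h5⟩, h6⟩, h7⟩, h8⟩ := h
  refine ⟨lin_one h1, ?_, ?_, lin_one h4, ?_, ?_, ?_, ?_⟩
  · rw [cpr_v c4 (by norm_num) (by norm_num)]; exact h2
  · rw [cpr_v c4 (by norm_num) (by norm_num)]; exact h3
  · rw [cpr_v c4 (by norm_num) (by norm_num)]; exact h5
  · rw [cpr_v c4 (by norm_num) (by norm_num)]; exact h6
  · exact (testBit_nn c4 (by norm_num) (by norm_num)).1 h7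
  · exact (testBit_nn c4 (by norm_num) (by norm_num)).1 h8

theorem c47_m24 (a t : K) : ⁅eF K (v 47) a, eF K (v 23) t⁆ = eF K (v 46) (a * t) := by
  obtain ⟨h1, h2, h3, -⟩ := neg_facts
  rw [(dat (K := K)).comm1 _ _ (rv (by norm_num)) (rv (by norm_num)) h3 h2, ← h1]

theorem c44_m33 (a t : K) : ⁅eF K (v 44) a, eF K (v 14) t⁆ = eF K (v 40) (a * t) := by
  obtain ⟨-, -, -, h1, h2, h3, -⟩ := neg_facts
  rw [(dat (K := K)).comm1 _ _ (rv (by norm_num)) (rv (by norm_num)) h3 h2, ← h1]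

theorem c44_m24 (a t : K) : eF K (v 44) a * eF K (v 23) t = eF K (v 23) t * eF K (v 44) a := by
  obtain ⟨-, -, -, -, -, -, h1, -⟩ := neg_facts
  exact (dat (K := K)).comm_of_nonneg (rv (by norm_num)) (rv (by norm_num)) h1 a t

theorem c47_m33 (a t : K) : eF K (v 47) a * eF K (v 14) t = eF K (v 14) t * eF K (v 47) a := by
  obtain ⟨-, -, -, -, -, -, -, h1⟩ := neg_facts
  exact (dat (K := K)).comm_of_nonneg (rv (by norm_num)) (rv (by norm_num)) h1 a t

/-- mixed elements of `Z(U)` -/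
def Mixed (w : ↥(chevF4.group K)) : Prop := ∃ t u : K, t ≠ 0 ∧ u ≠ 0 ∧ w = eF K (v 47) t * eF K (v 44) u

theorem X_inf : X1 K ⊓ X2 K = ⊥ := by
  rw [Subgroup.eq_bot_iff_forall]
  rintro x ⟨h1, h2⟩
  obtain ⟨t, rfl⟩ := (mem_XF (rv (by norm_num))).1 h1
  obtain ⟨u, hu⟩ := (mem_XF (rv (by norm_num))).1 h2
  have h3 := c47_m24 t (1 : K)
  have h4 : ⁅eF K (v 47) t, eF K (v 23) 1⁆ = 1 := by
    rw [commutatorElement_eq_one_iff_mul_comm, ← hu, c44_m24]
  rw [h4, mul_one] at h3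
  by_contra hne
  have h5 : t ≠ 0 := by
    rintro rfl
    exact hne ((dat (K := K)).zero (rv (by norm_num)))
  exact (dat (K := K)).ne_one (rv (by norm_num)) h5 h3.symm

theorem mixed_iff {w : ↥(chevF4.group K)} : Mixed w ↔ ∃ a ∈ X1 K, ∃ b ∈ X2 K, a ≠ 1 ∧ b ≠ 1 ∧ w = a * b := by
  have D := dat (K := K)
  constructor
  · rintro ⟨t, u, ht, hu, rfl⟩
    exact ⟨_, e_mem_X (rv (by norm_num)) t, _, e_mem_X (rv (by norm_num)) u, D.ne_one (rv (by norm_num)) ht,
      D.ne_one (rv (by norm_num)) hu, rfl⟩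
  · rintro ⟨a, ha, b, hb, ha1, hb1, rfl⟩
    obtain ⟨t, rfl⟩ := (mem_XF (rv (by norm_num))).1 ha
    obtain ⟨u, rfl⟩ := (mem_XF (rv (by norm_num))).1 hb
    refine ⟨t, u, ?_, ?_, rfl⟩
    · rintro rfl; exact ha1 (D.zero (rv (by norm_num)))
    · rintro rfl; exact hb1 (D.zero (rv (by norm_num)))

/-- An element normalising `X_ρ` and `X_σ` permutes the mixed elements. -/
theorem Mixed.conj {w : ↥(chevF4.group K)} (hw : Mixed w) {g : ↥(chevF4.group K)}
    (h1 : ∀ x ∈ X1 K, g * x * g⁻¹ ∈ X1 K) (h2 : ∀ x ∈ X2 K, g * x * g⁻¹ ∈ X2 K) : Mixed (g * w * g⁻¹) := by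
  obtain ⟨a, ha, b, hb, ha1, hb1, rfl⟩ := mixed_iff.1 hw
  refine mixed_iff.2 ⟨_, h1 a ha, _, h2 b hb, fun h => ha1 ?_, fun h => hb1 ?_, by group⟩
  · calc a = g⁻¹ * (g * a * g⁻¹) * g := by group
      _ = 1 := by rw [h]; group
  · calc b = g⁻¹ * (g * b * g⁻¹) * g := by group
      _ = 1 := by rw [h]; group

theorem Mixed.mem {w : ↥(chevF4.group K)} (hw : Mixed w) : w ∈ ZK K := by
  obtain ⟨a, ha, b, hb, -, -, rfl⟩ := mixed_iff.1 hw
  exact mem_ZK.2 ⟨a, ha, b, hb, rfl⟩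

/-- the nontrivial elements of `Z(U)` -/
theorem cases_Z {w : ↥(chevF4.group K)} (hw : w ∈ ZK K) (hw1 : w ≠ 1) : w ∈ X1 K ∨ w ∈ X2 K ∨ Mixed w := by
  obtain ⟨a, ha, b, hb, rfl⟩ := mem_ZK.1 hw
  by_cases h1 : a = 1
  · right; left; rw [h1, one_mul]; exact hb
  by_cases h2 : b = 1
  · left; rw [h2, mul_one]; exact ha
  exact Or.inr (Or.inr (mixed_iff.2 ⟨a, ha, b, hb, h1, h2, rfl⟩))

/-- `x_{-α₃}(1)` moves the mixed elements -/
theorem not_comm_23 {w : ↥(chevF4.group K)} (hw : Mixed w) {s : K} (hs : s ≠ 0) :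
    eF K (v 23) s * w ≠ w * eF K (v 23) s := by
  obtain ⟨t, u, ht, hu, rfl⟩ := hw
  intro h
  have h1 : ⁅eF K (v 47) t, eF K (v 23) s⁆ = 1 := by
    rw [commutatorElement_eq_one_iff_mul_comm]
    have h2 : eF K (v 47) t * eF K (v 23) s * eF K (v 44) u = eF K (v 23) s * eF K (v 47) t * eF K (v 44) u := by
      calc eF K (v 47) t * eF K (v 23) s * eF K (v 44) u = eF K (v 47) t * (eF K (v 23) s * eF K (v 44) u) := by group
        _ = eF K (v 47) t * (eF K (v 44) u * eF K (v 23) s) := by rw [c44_m24]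
        _ = eF K (v 47) t * eF K (v 44) u * eF K (v 23) s := by group
        _ = eF K (v 23) s * (eF K (v 47) t * eF K (v 44) u) := h.symm
        _ = _ := by group
    exact mul_right_cancel h2
  rw [c47_m24] at h1
  exact (dat (K := K)).ne_one (rv (by norm_num)) (mul_ne_zero ht hs) h1

theorem not_comm_14 {w : ↥(chevF4.group K)} (hw : Mixed w) {s : K} (hs : s ≠ 0) :
    eF K (v 14) s * w ≠ w * eF K (v 14) s := by
  obtain ⟨t, u, ht, hu, rfl⟩ := hw
  intro h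
  have h1 : ⁅eF K (v 44) u, eF K (v 14) s⁆ = 1 := by
    rw [commutatorElement_eq_one_iff_mul_comm]
    have h2 : eF K (v 47) t * (eF K (v 44) u * eF K (v 14) s) = eF K (v 47) t * (eF K (v 14) s * eF K (v 44) u) := by
      calc eF K (v 47) t * (eF K (v 44) u * eF K (v 14) s) = (eF K (v 47) t * eF K (v 44) u) * eF K (v 14) s := by group
        _ = eF K (v 14) s * (eF K (v 47) t * eF K (v 44) u) := h.symm
        _ = (eF K (v 14) s * eF K (v 47) t) * eF K (v 44) u := by group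
        _ = (eF K (v 47) t * eF K (v 14) s) * eF K (v 44) u := by rw [c47_m33]
        _ = _ := by group
    exact mul_left_cancel h2
  rw [c44_m33] at h1
  exact (dat (K := K)).ne_one (rv (by norm_num)) (mul_ne_zero hu hs) h1

/-! ### The torus -/

theorem tor_X {t : ↥(chevF4.group K)} (ht : t ∈ TF K) {x : Fin 4 → ℤ} (hx : IsRoot c4 isType.isCartan x)
    {g : ↥(chevF4.group K)} (hg : g ∈ XF K x) : t * g * t⁻¹ ∈ XF K x := by
  have h1 := (rgd (K := K) isType c4 2).tor x hx t ht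
  have h2 : t * g * t⁻¹ ∈ cj t ((XV chevF4 4 K x).subgroupOf (chevF4.group K)) := conj_mem_cj.2 hg
  rw [h1] at h2
  exact h2

theorem tor_L {t : ↥(chevF4.group K)} (ht : t ∈ TF K) {g : ↥(chevF4.group K)} (hg : g ∈ LK K) :
    t * g * t⁻¹ ∈ LK K := by
  have h1 : LK K ≤ (LK K).comap (MulAut.conj t).toMonoidHom := by
    refine RGD.Sup_le fun x hx z hz => ?_
    show t * z * t⁻¹ ∈ LK K
    exact RGD.le_Sup hx (tor_X ht hx.1.1 hz)
  exact h1 hg

/-- the torus part of the centraliser of a mixed element -/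
theorem torus_mem_L {w : ↥(chevF4.group K)} (hw : Mixed w) {t : ↥(chevF4.group K)} (ht : t ∈ TF K)
    (htw : t * w = w * t) : t ∈ LK K := by
  have D := dat (K := K)
  obtain ⟨a, b, ha, hb, rfl⟩ := hw
  -- `t` centralises both factors
  have k1 : t * eF K (v 47) a * t⁻¹ ∈ X1 K := tor_X ht (rv (by norm_num)) (e_mem_X (rv (by norm_num)) a)
  have k2 : t * eF K (v 44) b * t⁻¹ ∈ X2 K := tor_X ht (rv (by norm_num)) (e_mem_X (rv (by norm_num)) b)
  have k3 : (t * eF K (v 47) a * t⁻¹) * (t * eF K (v 44) b * t⁻¹) = eF K (v 47) a * eF K (v 44) b := by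
    calc (t * eF K (v 47) a * t⁻¹) * (t * eF K (v 44) b * t⁻¹) = (t * (eF K (v 47) a * eF K (v 44) b)) * t⁻¹ := by group
      _ = _ := by rw [htw]; group
  have k4 : (eF K (v 47) a)⁻¹ * (t * eF K (v 47) a * t⁻¹) = eF K (v 44) b * (t * eF K (v 44) b * t⁻¹)⁻¹ := by
    calc (eF K (v 47) a)⁻¹ * (t * eF K (v 47) a * t⁻¹)
        = (eF K (v 47) a)⁻¹ * ((t * eF K (v 47) a * t⁻¹) * (t * eF K (v 44) b * t⁻¹)) *
            (t * eF K (v 44) b * t⁻¹)⁻¹ := by group
      _ = _ := by rw [k3]; group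
  have k5 : (eF K (v 47) a)⁻¹ * (t * eF K (v 47) a * t⁻¹) = 1 := by
    have h1 : (eF K (v 47) a)⁻¹ * (t * eF K (v 47) a * t⁻¹) ∈ X1 K ⊓ X2 K := by
      refine Subgroup.mem_inf.2 ⟨mul_mem (inv_mem (e_mem_X (rv (by norm_num)) a)) k1, ?_⟩
      rw [k4]
      exact mul_mem (e_mem_X (rv (by norm_num)) b) (inv_mem k2)
    rwa [X_inf, Subgroup.mem_bot] at h1
  have k6 : t * eF K (v 47) a * t⁻¹ = eF K (v 47) a := (inv_mul_eq_one.1 k5).symm
  have k7 : t * eF K (v 44) b * t⁻¹ = eF K (v 44) b := by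
    rw [k6] at k3
    exact mul_left_cancel k3
  obtain ⟨c, rfl⟩ := exists_hel c4 ht
  have key : ∀ (y : Fin 4 → ℤ) (_ : IsRoot c4 isType.isCartan y) (i : Fin 4)
      (_ : ∀ j, pairing (cartanOf chevF4 4) j y = if j = i then 1 else 0) (u : K) (_ : u ≠ 0)
      (_ : hprod c * eF K y u * (hprod c)⁻¹ = eF K y u), ((c i : Kˣ) : K) = 1 := by
    intro y hy i hi u hu h1
    rw [hprod_conj c4 c hy u] at h1
    have h2 := D.injective hy h1
    have h3 : (((hchi c y).toMul : Kˣ) : K) = 1 := mul_right_cancel₀ hu (by rw [one_mul]; exact h2)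
    have h4 : hchi c y = Additive.ofMul (c i) := by
      rw [hchi_apply, Finset.sum_eq_single i]
      · rw [hi, if_pos rfl, one_zsmul]
      · intro j _ hj
        rw [hi, if_neg hj, zero_zsmul]
      · intro h; exact absurd (Finset.mem_univ i) h
    rwa [h4, toMul_ofMul] at h3
  have e3 := key _ (rv (by norm_num)) 3 pair47 a ha k6
  have e0 := key _ (rv (by norm_num)) 0 pair44 b hb k7
  have h5 : ∀ j : Fin 4, hel (eF K) (sr j) (c j) ∈ LK K := by
    intro j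
    by_cases hj : j = 3
    · rw [hj, e3, hel_one c4 (isRoot_sr c4 _ 3)]; exact one_mem _
    by_cases hj' : j = 0
    · rw [hj', e0, hel_one c4 (isRoot_sr c4 _ 0)]; exact one_mem _
    obtain ⟨h6, h7⟩ := ge_of_pairing c4 (rv (r := 47) (by norm_num)) (i := j) (by rw [pair47, if_neg hj])
    obtain ⟨h8, h9⟩ := ge_of_pairing c4 (rv (r := 44) (by norm_num)) (i := j) (by rw [pair44, if_neg hj'])
    have q1 : (sr j : Fin 4 → ℤ) ∈ SL := ⟨h6, h8⟩
    have q2 : -(sr j : Fin 4 → ℤ) ∈ SL := ⟨h7, h9⟩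
    exact hel_mem_of c4 (isRoot_sr c4 _ j) q1 q2 _
  exact mul_mem (mul_mem (mul_mem (h5 0) (h5 1)) (h5 2)) (h5 3)

/-! ### The centraliser of a mixed element -/

theorem fix47 {i : Fin 4} (hi : i ≠ 3) : rep c4 isType.isCartan (c4.simple i) (v 47) = v 47 := by
  rw [rep_simple_eq, pair47, if_neg hi, zero_smul, sub_zero]

theorem fix44 {i : Fin 4} (hi : i ≠ 0) : rep c4 isType.isCartan (c4.simple i) (v 44) = v 44 := by
  rw [rep_simple_eq, pair44, if_neg hi, zero_smul, sub_zero]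

theorem mem_LJ_of_mixed : ∀ {x : CoxeterMatrix.F₄.Group} {k : ↥(chevF4.group K)},
    Rp c4 (rgd (K := K) isType c4 2).nsys x k → ∀ w w' : ↥(chevF4.group K), Mixed w → Mixed w' → k * w = w' * k →
    k ∈ LJ c4 isType.isCartan (TF K) (XF K) ({1, 2} : Set (Fin 4)) := by
  have D := dat (K := K)
  intro x
  induction hn : c4.length x using Nat.strong_induction_on generalizing x with
  | _ N ih =>
  intro k hk w w' hw hw' hkw
  by_cases hx1 : x = 1
  · rw [hx1] at hk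
    exact T_le_LJ hk.mem_of_one
  obtain ⟨i, hi⟩ := c4.exists_leftDescent_of_ne_one hx1
  have hi' : c4.length (c4.simple i * x) < c4.length x := hi
  have hneg : rep c4 isType.isCartan x⁻¹ (sr i) ≤ 0 := by
    refine nonpos_of_lt c4 isType.isCartan x⁻¹ i ?_
    rw [← c4.length_inv x, ← c4.length_inv (c4.simple i * x), mul_inv_rev, inv_simple] at hi'
    exact hi'
  -- `X_{-α_i}` centralises `w'`
  have hcomm : ∀ y ∈ XF K (-sr i), y * w' = w' * y := by
    intro y hy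
    have h3 : k⁻¹ * y * k ∈ XF K (-rep c4 isType.isCartan x⁻¹ (sr i)) := by
      have := (rgd (K := K) isType c4 2).conj_mem' hk (isRoot_sr c4 isType.isCartan i).neg hy
      rwa [map_neg] at this
    have h3' : -rep c4 isType.isCartan x⁻¹ (sr i) ∈ RGD.Pos c4 isType.isCartan :=
      ⟨((isRoot_sr c4 isType.isCartan i).act x⁻¹).neg, neg_nonneg.2 hneg⟩
    have h4 : k⁻¹ * y * k ∈ UK K := RGD.le_Sup h3' h3
    have h5 := L_commZ (U_le_L h4) hw.mem
    have e : w' = k * w * k⁻¹ := by rw [hkw]; group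
    rw [e]
    calc y * (k * w * k⁻¹) = k * ((k⁻¹ * y * k) * w) * k⁻¹ := by group
      _ = k * (w * (k⁻¹ * y * k)) * k⁻¹ := by rw [h5]
      _ = _ := by group
  have hi0 : i ≠ 0 := by
    rintro rfl
    refine not_comm_14 hw' one_ne_zero (hcomm _ ?_)
    rw [← v33, ← v_neg (r := 33) (by norm_num)]
    exact e_mem_X (rv (by norm_num)) 1
  have hi3 : i ≠ 3 := by
    rintro rfl
    refine not_comm_23 hw' one_ne_zero (hcomm _ ?_)
    rw [← v24, ← v_neg (r := 24) (by norm_num)]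
    exact e_mem_X (rv (by norm_num)) 1
  have hiJ : i ∈ ({1, 2} : Set (Fin 4)) := by
    fin_cases i
    · exact absurd rfl hi0
    · exact Or.inl rfl
    · exact Or.inr rfl
    · exact absurd rfl hi3
  obtain ⟨m, hm⟩ : ∃ m : ↥(chevF4.group K), m = ⟨nn isType K i, nn_mem_group isType i⟩ := ⟨_, rfl⟩
  have hmR : Rp c4 (rgd (K := K) isType c4 2).nsys (c4.simple i) m := by
    rw [hm]; exact rp_simple c4 (rgd (K := K) isType c4 2).nsys i
  have hmJ : m ∈ LJ c4 isType.isCartan (TF K) (XF K) ({1, 2} : Set (Fin 4)) := by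
    rw [hm]; exact n_mem_LJ (rgd (K := K) isType c4 2) hiJ
  have hk2 : Rp c4 (rgd (K := K) isType c4 2).nsys (c4.simple i * x) (m⁻¹ * k) := by
    have := hmR.inv.mul hk
    rwa [inv_simple] at this
  have h7 := ih (c4.length (c4.simple i * x)) (by omega) rfl hk2 w (m⁻¹ * w' * m⁻¹⁻¹) hw (by
    refine hw'.conj ?_ ?_
    · intro y hy
      have h8 := (rgd (K := K) isType c4 2).conj_mem hmR.inv (rv (r := 47) (by norm_num)) hy
      rwa [inv_simple, fix47 hi3] at h8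
    · intro y hy
      have h8 := (rgd (K := K) isType c4 2).conj_mem hmR.inv (rv (r := 44) (by norm_num)) hy
      rwa [inv_simple, fix44 hi0] at h8) (by
    calc m⁻¹ * k * w = m⁻¹ * (k * w) := by group
      _ = _ := by rw [hkw]; group)
  have h8 : k = m * (m⁻¹ * k) := by group
  rw [h8]
  exact mul_mem hmJ h7

theorem chkJ : ((List.range 48).all fun r => !decide (rt chevF4 r 0 = 0) || !decide (rt chevF4 r 3 = 0) ||
    SM.testBit r) = true := by decide +kernel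

theorem LJ_le : LJ c4 isType.isCartan (TF K) (XF K) ({1, 2} : Set (Fin 4)) ≤ TF K ⊔ LK K := by
  refine sup_le_sup_left (RGD.Sup_le fun x hx => ?_) _
  obtain ⟨r, hr, rfl⟩ := exists_v c4 hx.1
  have h0 : rt chevF4 r 0 = 0 := hx.2 0 (by decide)
  have h3 : rt chevF4 r 3 = 0 := hx.2 3 (by decide)
  have h1 := List.all_eq_true.1 chkJ r (List.mem_range.2 hr)
  rw [h0, h3] at h1
  exact RGD.le_Sup ((mem_SL hr).2 (by simpa using h1))

/-- **`C_K(x_ρ x_σ) = LK`** -/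
theorem cent_mixed {w : ↥(chevF4.group K)} (hw : Mixed w) {g : ↥(chevF4.group K)} (hg : g * w = w * g) :
    g ∈ LK K := by
  have hGG : g ∈ GG c4 isType.isCartan (TF K) (XF K) := by
    have h1 : RGDLib.G1 c4 isType.isCartan (XF K) ≤ GG c4 isType.isCartan (TF K) (XF K) :=
      RGD.Sup_le fun x hx => X_le_GG hx
    exact h1 (by rw [show RGDLib.G1 c4 isType.isCartan (XF K) = ⊤ from G1_eq_top isType c4]; exact Subgroup.mem_top g)
  have hTN : TF K ≤ Subgroup.normalizer (LK K : Set ↥(chevF4.group K)) := by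
    intro t ht
    rw [Subgroup.mem_normalizer_iff]
    intro y
    refine ⟨fun h => tor_L ht h, fun h => ?_⟩
    have h1 := tor_L (inv_mem ht) h
    have e : t⁻¹ * (t * y * t⁻¹) * t⁻¹⁻¹ = y := by group
    rwa [e] at h1
  have hBL : RGD.B c4 isType.isCartan (TF K) (XF K) ≤ TF K ⊔ LK K := sup_le_sup_left U_le_L _
  -- `B` permutes the mixed elements
  have hB : ∀ b ∈ RGD.B c4 isType.isCartan (TF K) (XF K), Mixed (b * w * b⁻¹) := by
    intro b hb
    obtain ⟨t, ht, u, hu, rfl⟩ := (rgd (K := K) isType c4 2).mem_B.1 hb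
    have h1 : t * u * w * (t * u)⁻¹ = t * w * t⁻¹ := by
      have h2 := L_commZ (U_le_L hu) hw.mem
      calc t * u * w * (t * u)⁻¹ = t * (u * w) * u⁻¹ * t⁻¹ := by group
        _ = _ := by rw [h2]; group
    rw [h1]
    exact hw.conj (fun y hy => tor_X ht (rv (by norm_num)) hy) (fun y hy => tor_X ht (rv (by norm_num)) hy)
  obtain ⟨x, b₁, hb₁, k, hk, b₂, hb₂, e⟩ := (mem_GG (rgd (K := K) isType c4 2)).1 hGG
  have h1 := mem_LJ_of_mixed hk _ _ (hB b₂ hb₂) (hB b₁⁻¹ (inv_mem hb₁)) (by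
    have e1 : k = b₁⁻¹ * g * b₂⁻¹ := by rw [e]; group
    rw [e1]
    calc b₁⁻¹ * g * b₂⁻¹ * (b₂ * w * b₂⁻¹) = b₁⁻¹ * (g * w) * b₂⁻¹ := by group
      _ = _ := by rw [hg]; group)
  have h2 : g ∈ TF K ⊔ LK K := by
    rw [e]
    exact mul_mem (mul_mem (hBL hb₁) (LJ_le h1)) (hBL hb₂)
  have h3 : g ∈ ((TF K ⊔ LK K : Subgroup ↥(chevF4.group K)) : Set ↥(chevF4.group K)) := h2
  rw [Subgroup.coe_mul_of_left_le_normalizer_right _ _ hTN] at h3
  obtain ⟨t, ht, y, hy, e2⟩ := h3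
  have h4 : t * w = w * t := by
    have h5 := L_commZ (K := K) hy hw.mem
    have h6 : t * w * y = w * t * y := by
      calc t * w * y = t * (w * y) := by group
        _ = (t * y) * w := by rw [← h5]; group
        _ = g * w := by rw [← e2]
        _ = w * g := hg
        _ = _ := by rw [← e2]; group
    exact mul_right_cancel h6
  rw [← e2]
  exact mul_mem (torus_mem_L hw ht h4) hy

theorem cent_mixed_iff {w : ↥(chevF4.group K)} (hw : Mixed w) {g : ↥(chevF4.group K)} :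
    g * w = w * g ↔ g ∈ LK K := ⟨cent_mixed hw, fun h => L_commZ h hw.mem⟩

end Cfsg.Agent.OddHalf.D4.F4Mixed

end

-- merged: Cfsg.Agent.OddHalf.D4.F4Nor
section

/-!
# `F₄(q)`, `q ≥ 4` even: noncentral normal subgroups of the centralisers of the elements of `Z(U)` contain `Z(U)`
(ODD, D4, LEMMA INPUT; helper949)

* `exists_two` : a normal subgroup `M` of `U`, `M ≰ Z(U)`, contains `b ∉ Z(U)` with `[b,U] ≤ Z(U)`;
* `Z_le_of_two` : if `N` is normalised by `LK` and contains such a `b`, then `Z(U) ≤ N`;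
* `Z_le_of_normal` : the result, for `LK ≤ H`, `Q ≤ U` normal in `H`, `C(Q) ≤ U`.
-/

set_option autoImplicit false
set_option Elab.async false
set_option linter.unusedSectionVars false

namespace Cfsg.Agent.OddHalf.D4.F4Nor

open CoxeterSystem Cfsg.Agent.ChevalleyStructure.CoxeterGeom Cfsg.Agent.Tits.Roots Cfsg.Agent.Tits.Core
open Cfsg.Lie Cfsg.Agent.ChevalleyStructure Cfsg.Agent.ChevalleyStructure.Elts
  Cfsg.Agent.ChevalleyStructure.RootVec Cfsg.Agent.ChevalleyStructure.CoxeterGeomTypes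
open Cfsg.Agent.Nodes Cfsg.Agent.Nodes.Reps Cfsg.Agent.Nodes.BNOf Cfsg.Agent.Nodes.RGDChev Cfsg.Agent.Nodes.Coroot
  Cfsg.Agent.Nodes.KindF Cfsg.Agent.Nodes.Bruhat Cfsg.Agent.KFacts.ChevTwo Cfsg.Agent.KFacts.ChevTwoTab
  Cfsg.Agent.KFacts.ChevTwoInst Cfsg.Agent.KFacts.RgdTI
  Cfsg.Agent.KFacts.F4Star Cfsg.Agent.KFacts.F4Cent Cfsg.Agent.KFacts.F4Pair Cfsg.Agent.KFacts.F4Torus
  Cfsg.Agent.KFacts.F4Perf Cfsg.Agent.OddHalf.D7F4.KFront Cfsg.Agent.OddHalf.D4.F4Mixed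
open scoped commutatorElement

universe u

variable {K : Type u} [Field K] [Finite K] [CharP K 2]

/-! ### The commutators of `x₄₆`, `x₄₀` with Levi root elements -/

theorem chk2 : (lin 1 44 1 46 1 19 && lin 1 42 1 46 2 19 && decide (carB chevF4 19 46 = -2) &&
    decide (carB chevF4 46 19 = -1) && lin 1 36 1 17 1 40 && lin 1 47 1 17 2 40 &&
    decide (carB chevF4 40 17 = -2) && decide (carB chevF4 17 40 = -1) && decide (carB chevF4 28 44 = 0) &&
    decide (carB chevF4 28 42 = -2) && decide (carB chevF4 28 47 = 0) && decide (carB chevF4 28 36 = -1) &&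
    SM.testBit 28 && SM.testBit 19 && SM.testBit 17 && SM.testBit 24 && SM.testBit 33) = true := by decide +kernel

theorem facts2 : v 44 = v 46 + v 19 ∧ v 42 = v 46 + (2 : ℤ) • v 19 ∧ cpr c4 isType.isCartan (v 46) (v 19) = -2 ∧
    cpr c4 isType.isCartan (v 19) (v 46) = -1 ∧ v 36 = v 17 + v 40 ∧ v 47 = v 17 + (2 : ℤ) • v 40 ∧
    cpr c4 isType.isCartan (v 17) (v 40) = -2 ∧ cpr c4 isType.isCartan (v 40) (v 17) = -1 ∧
    cpr c4 isType.isCartan (v 44) (v 28) = 0 ∧ cpr c4 isType.isCartan (v 42) (v 28) = -2 ∧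
    cpr c4 isType.isCartan (v 47) (v 28) = 0 ∧ cpr c4 isType.isCartan (v 36) (v 28) = -1 ∧
    v 28 ∈ SL ∧ v 19 ∈ SL ∧ v 17 ∈ SL ∧ v 24 ∈ SL ∧ v 33 ∈ SL := by
  have h := chk2
  simp only [Bool.and_eq_true, decide_eq_true_eq] at h
  obtain ⟨⟨⟨⟨⟨⟨⟨⟨⟨⟨⟨⟨⟨⟨⟨⟨h1, h2⟩, h3⟩, h4⟩, h5⟩, h6⟩, h7⟩, h8⟩, h9⟩, h10⟩, h11⟩, h12⟩, h13⟩, h14⟩, h15⟩, h16⟩, h17⟩ := h
  refine ⟨lin_one h1, lin_two h2, ?_, ?_, lin_one h5, lin_two h6, ?_, ?_, ?_, ?_, ?_, ?_, (mem_SL (by norm_num)).2 h13,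
    (mem_SL (by norm_num)).2 h14, (mem_SL (by norm_num)).2 h15, (mem_SL (by norm_num)).2 h16,
    (mem_SL (by norm_num)).2 h17⟩
  · rw [cpr_v c4 (by norm_num) (by norm_num)]; exact h3
  · rw [cpr_v c4 (by norm_num) (by norm_num)]; exact h4
  · rw [cpr_v c4 (by norm_num) (by norm_num)]; exact h7
  · rw [cpr_v c4 (by norm_num) (by norm_num)]; exact h8
  · rw [cpr_v c4 (by norm_num) (by norm_num)]; exact h9
  · rw [cpr_v c4 (by norm_num) (by norm_num)]; exact h10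
  · rw [cpr_v c4 (by norm_num) (by norm_num)]; exact h11
  · rw [cpr_v c4 (by norm_num) (by norm_num)]; exact h12

theorem c46_19 (a s : K) : ⁅eF K (v 46) a, eF K (v 19) s⁆ = eF K (v 44) (a * s) * eF K (v 42) (a * s ^ 2) := by
  obtain ⟨h1, h2, h3, h4, -⟩ := facts2
  rw [(dat (K := K)).comm2 _ _ (rv (by norm_num)) (rv (by norm_num)) h3 h4, ← h1, ← h2]

theorem c17_40 (s c : K) : ⁅eF K (v 17) s, eF K (v 40) c⁆ = eF K (v 36) (s * c) * eF K (v 47) (s * c ^ 2) := by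
  obtain ⟨-, -, -, -, h1, h2, h3, h4, -⟩ := facts2
  rw [(dat (K := K)).comm2 _ _ (rv (by norm_num)) (rv (by norm_num)) h3 h4, ← h1, ← h2]

theorem hel28_mem (l : K) : hel (eF K) (v 28) l ∈ LK K := by
  obtain ⟨-, -, -, -, -, -, -, -, -, -, -, -, h1, h2, -⟩ := facts2
  refine hel_mem_of c4 (rv (by norm_num)) h1 ?_ l
  rw [← v_neg (r := 28) (by norm_num)]; exact h2

/-- `[m z, u] = [m, u]` -/
theorem comm_z {m z u : ↥(chevF4.group K)} (hz : z ∈ ZK K) (hu : u ∈ LK K) : ⁅m * z, u⁆ = ⁅m, u⁆ := by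
  have h1 := L_commZ hu hz
  rw [commutatorElement_def, commutatorElement_def]
  calc m * z * u * (m * z)⁻¹ * u⁻¹ = m * (z * u) * z⁻¹ * m⁻¹ * u⁻¹ := by group
    _ = m * u * m⁻¹ * u⁻¹ := by rw [← h1]; group

theorem comm_z' {m z u : ↥(chevF4.group K)} (hz : z ∈ ZK K) (hu : u ∈ LK K) : ⁅u, m * z⁆ = ⁅u, m⁆ := by
  rw [← commutatorElement_inv, comm_z hz hu, commutatorElement_inv]

theorem exists_sqrt (x : K) : ∃ s : K, s ^ 2 = x := by
  have h1 : Function.Injective (frobenius K 2) := frobenius_inj K 2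
  obtain ⟨s, hs⟩ := Finite.surjective_of_injective h1 x
  exact ⟨s, hs⟩

theorem mem_e {N : Subgroup ↥(chevF4.group K)} {r : ℕ} (hr : r < 48) (h : ∀ t : K, eF K (v r) t ∈ N) :
    XF K (v r) ≤ N := by
  intro x hx
  obtain ⟨t, rfl⟩ := (mem_XF (rv hr)).1 hx
  exact h t

theorem add_ne {l : K} {k : ℤ} (h : l ^ k ≠ 1) : (1 : K) + l ^ k ≠ 0 := by
  intro h1
  apply h
  have h9 : (2 : K) = 0 := CharTwo.two_eq_zero
  linear_combination h1 - h9

/-- **`Z(U) ≤ N`** if `N` is normalised by `LK` and contains an element of the second centre outside `Z(U)`. -/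
theorem Z_le_of_two (hK : 2 < Nat.card K) {N : Subgroup ↥(chevF4.group K)}
    (hN : ∀ y ∈ LK K, ∀ n ∈ N, y * n * y⁻¹ ∈ N) {b : ↥(chevF4.group K)} (hb : b ∈ N) (hbZ : b ∉ ZK K)
    (hbU : ∀ u ∈ UK K, ⁅b, u⁆ ∈ ZK K) : ZK K ≤ N := by
  have D := dat (K := K)
  obtain ⟨l, hl, hl2⟩ := exists_zpow_ne hK
  have hcom : ∀ y ∈ LK K, ⁅b, y⁆ ∈ N := by
    intro y hy
    rw [commutatorElement_def]
    have e : b * y * b⁻¹ * y⁻¹ = b * (y * b⁻¹ * y⁻¹) := by group
    rw [e]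
    exact mul_mem hb (hN y hy _ (inv_mem hb))
  have hcom' : ∀ y ∈ LK K, ⁅y, b⁆ ∈ N := fun y hy => by
    rw [← commutatorElement_inv]; exact inv_mem (hcom y hy)
  obtain ⟨a, c, z, hz, rfl⟩ := mem_Z2 hK hbU
  obtain ⟨-, -, -, -, -, -, -, -, g1, g2, g3, g4, l28, l19, l17, l24, l33⟩ := facts2
  -- `X_ρ` from `a ≠ 0`
  have hρ : a ≠ 0 → X1 K ≤ N := by
    intro ha
    refine mem_e (by norm_num) fun s => ?_
    have h1 := hcom _ (e_mem_L (K := K) l24 (a⁻¹ * s))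
    rw [comm_z hz (e_mem_L l24 _)] at h1
    have h2 : ⁅eF K (v 46) a * eF K (v 40) c, eF K (v 24) (a⁻¹ * s)⁆ = eF K (v 47) s := by
      obtain ⟨-, -, -, -, -, -, -, -, q2⟩ := chk_facts
      have q3 : eF K (v 40) c * eF K (v 24) (a⁻¹ * s) = eF K (v 24) (a⁻¹ * s) * eF K (v 40) c :=
        D.comm_of_nonneg (rv (by norm_num)) (rv (by norm_num)) q2 _ _
      have q4 := c46_24 a (a⁻¹ * s)
      rw [mul_inv_cancel_left₀ ha] at q4
      rw [← q4, commutatorElement_def, commutatorElement_def]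
      calc eF K (v 46) a * eF K (v 40) c * eF K (v 24) (a⁻¹ * s) * (eF K (v 46) a * eF K (v 40) c)⁻¹ *
            (eF K (v 24) (a⁻¹ * s))⁻¹
          = eF K (v 46) a * (eF K (v 40) c * eF K (v 24) (a⁻¹ * s)) * (eF K (v 40) c)⁻¹ * (eF K (v 46) a)⁻¹ *
            (eF K (v 24) (a⁻¹ * s))⁻¹ := by group
        _ = _ := by rw [q3]; group
    rwa [h2] at h1
  -- `X_σ` from `c ≠ 0`
  have hσ : c ≠ 0 → X2 K ≤ N := by
    intro hc
    refine mem_e (by norm_num) fun s => ?_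
    have h1 := hcom _ (e_mem_L (K := K) l33 (c⁻¹ * s))
    rw [comm_z hz (e_mem_L l33 _)] at h1
    have h2 : ⁅eF K (v 46) a * eF K (v 40) c, eF K (v 33) (c⁻¹ * s)⁆ = eF K (v 44) s := by
      obtain ⟨-, -, -, -, -, -, -, q1, -⟩ := chk_facts
      have q3 : eF K (v 46) a * eF K (v 33) (c⁻¹ * s) = eF K (v 33) (c⁻¹ * s) * eF K (v 46) a :=
        D.comm_of_nonneg (rv (by norm_num)) (rv (by norm_num)) q1 _ _
      have q4 := c40_33 c (c⁻¹ * s)
      rw [mul_inv_cancel_left₀ hc] at q4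
      have q5 : eF K (v 46) a * eF K (v 44) s = eF K (v 44) s * eF K (v 46) a :=
        (L_comm2 (U_le_L (e_mem_U (by norm_num) (by norm_num) a)) (e_mem_X (rv (by norm_num)) s))
      have q6 : eF K (v 40) c * eF K (v 33) (c⁻¹ * s) = eF K (v 44) s * eF K (v 33) (c⁻¹ * s) * eF K (v 40) c := by
        rw [← q4, commutatorElement_def]; group
      rw [commutatorElement_def]
      calc eF K (v 46) a * eF K (v 40) c * eF K (v 33) (c⁻¹ * s) * (eF K (v 46) a * eF K (v 40) c)⁻¹ *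
            (eF K (v 33) (c⁻¹ * s))⁻¹
          = eF K (v 46) a * (eF K (v 40) c * eF K (v 33) (c⁻¹ * s)) * (eF K (v 40) c)⁻¹ * (eF K (v 46) a)⁻¹ *
            (eF K (v 33) (c⁻¹ * s))⁻¹ := by group
        _ = (eF K (v 46) a * eF K (v 44) s) * eF K (v 33) (c⁻¹ * s) * (eF K (v 46) a)⁻¹ *
            (eF K (v 33) (c⁻¹ * s))⁻¹ := by rw [q6]; group
        _ = eF K (v 44) s * (eF K (v 46) a * eF K (v 33) (c⁻¹ * s)) * (eF K (v 46) a)⁻¹ *
            (eF K (v 33) (c⁻¹ * s))⁻¹ := by rw [q5]; group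
        _ = _ := by rw [q3]; group
    rwa [h2] at h1
  -- the torus element
  have htor : ∀ {r : ℕ}, r < 48 → ∀ t : K, hel (eF K) (v 28) l * eF K (v r) t * (hel (eF K) (v 28) l)⁻¹ =
      eF K (v r) (l ^ cpr c4 isType.isCartan (v r) (v 28) * t) := fun hr t =>
    D.hel_conj (rv hr) (rv (by norm_num)) hl t
  by_cases ha : a = 0
  · by_cases hc : c = 0
    · exfalso
      apply hbZ
      rw [ha, hc, D.zero (rv (by norm_num)), D.zero (rv (by norm_num)), one_mul, one_mul]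
      exact hz
    · -- `a = 0`
      have hs := hσ hc
      refine sup_le ?_ hs
      have hgen : ∀ t : K, eF K (v 36) (t * c) * eF K (v 47) (t * c ^ 2) ∈ N := by
        intro t
        have h1 := hcom' _ (e_mem_L (K := K) l17 t)
        rw [comm_z' hz (e_mem_L l17 _), ha, D.zero (rv (by norm_num)), one_mul, c17_40] at h1
        exact h1
      have h36 : ∀ x : K, eF K (v 36) x ∈ N := by
        intro x
        have h4 : l ^ (-1 : ℤ) ≠ 1 := hl2 (-1) (by norm_num) (by norm_num) (by norm_num)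
        set t : K := x * ((1 + l ^ (-1 : ℤ)) * c)⁻¹ with ht
        have hne : (1 + l ^ (-1 : ℤ)) * c ≠ 0 := mul_ne_zero (add_ne h4) hc
        have h1 := hN _ (hel28_mem l) _ (hgen t)
        have h2 : hel (eF K) (v 28) l * (eF K (v 36) (t * c) * eF K (v 47) (t * c ^ 2)) * (hel (eF K) (v 28) l)⁻¹ =
            eF K (v 36) (l ^ (-1 : ℤ) * (t * c)) * eF K (v 47) (t * c ^ 2) := by
          have e1 := htor (r := 36) (by norm_num) (t * c)
          have e2 := htor (r := 47) (by norm_num) (t * c ^ 2)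
          rw [g4] at e1
          rw [g3, zpow_zero, one_mul] at e2
          calc _ = (hel (eF K) (v 28) l * eF K (v 36) (t * c) * (hel (eF K) (v 28) l)⁻¹) *
                (hel (eF K) (v 28) l * eF K (v 47) (t * c ^ 2) * (hel (eF K) (v 28) l)⁻¹) := by group
            _ = _ := by rw [e1, e2]
        rw [h2] at h1
        have h3 := mul_mem h1 (inv_mem (hgen t))
        have h5 : eF K (v 36) (l ^ (-1 : ℤ) * (t * c)) * eF K (v 47) (t * c ^ 2) *
            (eF K (v 36) (t * c) * eF K (v 47) (t * c ^ 2))⁻¹ = eF K (v 36) x := by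
          rw [mul_inv_rev]
          calc _ = eF K (v 36) (l ^ (-1 : ℤ) * (t * c)) * (eF K (v 36) (t * c))⁻¹ := by group
            _ = eF K (v 36) (l ^ (-1 : ℤ) * (t * c) + t * c) := by
                rw [D.inv (rv (by norm_num)), ← D.add _ (rv (by norm_num))]
            _ = _ := by
                congr 1
                have : l ^ (-1 : ℤ) * (t * c) + t * c = t * ((1 + l ^ (-1 : ℤ)) * c) := by ring
                rw [this, ht, inv_mul_cancel_right₀ hne]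
        rwa [h5] at h3
      refine mem_e (by norm_num) fun x => ?_
      have h1 := hgen (x * (c ^ 2)⁻¹)
      rw [inv_mul_cancel_right₀ (pow_ne_zero 2 hc)] at h1
      exact (Subgroup.mul_mem_cancel_left _ (h36 _)).1 h1
  · by_cases hc : c = 0
    · -- `c = 0`
      have hs := hρ ha
      refine sup_le hs ?_
      have hgen : ∀ s : K, eF K (v 44) (a * s) * eF K (v 42) (a * s ^ 2) ∈ N := by
        intro s
        have h1 := hcom _ (e_mem_L (K := K) l19 s)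
        rw [comm_z hz (e_mem_L l19 _), hc, D.zero (rv (by norm_num)), mul_one, c46_19] at h1
        exact h1
      have h42 : ∀ x : K, eF K (v 42) x ∈ N := by
        intro x
        have h4 : l ^ (-2 : ℤ) ≠ 1 := hl2 (-2) (by norm_num) (by norm_num) (by norm_num)
        have hne : (1 + l ^ (-2 : ℤ)) * a ≠ 0 := mul_ne_zero (add_ne h4) ha
        obtain ⟨s, hs⟩ := exists_sqrt (x * ((1 + l ^ (-2 : ℤ)) * a)⁻¹)
        have h1 := hN _ (hel28_mem l) _ (hgen s)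
        have h2 : hel (eF K) (v 28) l * (eF K (v 44) (a * s) * eF K (v 42) (a * s ^ 2)) * (hel (eF K) (v 28) l)⁻¹ =
            eF K (v 44) (a * s) * eF K (v 42) (l ^ (-2 : ℤ) * (a * s ^ 2)) := by
          have e1 := htor (r := 42) (by norm_num) (a * s ^ 2)
          have e2 := htor (r := 44) (by norm_num) (a * s)
          rw [g2] at e1
          rw [g1, zpow_zero, one_mul] at e2
          calc _ = (hel (eF K) (v 28) l * eF K (v 44) (a * s) * (hel (eF K) (v 28) l)⁻¹) *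
                (hel (eF K) (v 28) l * eF K (v 42) (a * s ^ 2) * (hel (eF K) (v 28) l)⁻¹) := by group
            _ = _ := by rw [e1, e2]
        rw [h2] at h1
        have h3 := mul_mem (inv_mem (hgen s)) h1
        have h5 : (eF K (v 44) (a * s) * eF K (v 42) (a * s ^ 2))⁻¹ *
            (eF K (v 44) (a * s) * eF K (v 42) (l ^ (-2 : ℤ) * (a * s ^ 2))) = eF K (v 42) x := by
          rw [mul_inv_rev]
          calc _ = (eF K (v 42) (a * s ^ 2))⁻¹ * eF K (v 42) (l ^ (-2 : ℤ) * (a * s ^ 2)) := by group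
            _ = eF K (v 42) (a * s ^ 2 + l ^ (-2 : ℤ) * (a * s ^ 2)) := by
                rw [D.inv (rv (by norm_num)), ← D.add _ (rv (by norm_num))]
            _ = _ := by
                congr 1
                have : a * s ^ 2 + l ^ (-2 : ℤ) * (a * s ^ 2) = s ^ 2 * ((1 + l ^ (-2 : ℤ)) * a) := by ring
                rw [this, hs, inv_mul_cancel_right₀ hne]
        rwa [h5] at h3
      refine mem_e (by norm_num) fun x => ?_
      have h1 := hgen (a⁻¹ * x)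
      rw [mul_inv_cancel_left₀ ha] at h1
      exact (Subgroup.mul_mem_cancel_right _ (h42 _)).1 h1
    · exact sup_le (hρ ha) (hσ hc)

/-- An element of the second centre in a normal subgroup of `U`. -/
theorem exists_two {M : Subgroup ↥(chevF4.group K)} (hMU : M ≤ UK K) (hMn : ∀ u ∈ UK K, ∀ m ∈ M, u * m * u⁻¹ ∈ M)
    (hMZ : ¬ M ≤ ZK K) : ∃ b ∈ M, b ∉ ZK K ∧ ∀ u ∈ UK K, ⁅b, u⁆ ∈ ZK K := by
  have : Fact (Nat.Prime 2) := ⟨Nat.prime_two⟩
  have hp : IsPGroup 2 ↥(UK K) := RGD.isPGroup_Upos (rgd (K := K) isType c4 2)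
  have hnil : Group.IsNilpotent ↥(UK K) := hp.isNilpotent
  obtain ⟨n, hn⟩ := (Subgroup.isNilpotent_iff_lowerCentralSeries (S := UK K)).1 hnil
  let P : ℕ → Prop := fun k => ∃ b ∈ M, b ∉ ZK K ∧ b ∈ (UK K).lowerCentralSeries k
  have h0 : P 0 := by
    obtain ⟨b, hb, hbZ⟩ := Set.not_subset.1 hMZ
    exact ⟨b, hb, hbZ, hMU hb⟩
  have h1 : ¬ P n := by
    rintro ⟨b, -, hbZ, hb⟩
    rw [hn, Subgroup.mem_bot] at hb
    apply hbZ
    rw [hb]; exact one_mem _
  obtain ⟨k, hk, hk'⟩ : ∃ k, P k ∧ ¬ P (k + 1) := by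
    by_contra hcon
    push Not at hcon
    have h2 : ∀ k, P k := by
      intro k
      induction k with
      | zero => exact h0
      | succ k ih => exact hcon k ih
    exact h1 (h2 n)
  obtain ⟨b, hbM, hbZ, hbk⟩ := hk
  refine ⟨b, hbM, hbZ, fun u hu => ?_⟩
  by_contra hcon
  apply hk'
  refine ⟨⁅b, u⁆, ?_, hcon, ?_⟩
  · rw [commutatorElement_def]
    have e : b * u * b⁻¹ * u⁻¹ = b * (u * b⁻¹ * u⁻¹) := by group
    rw [e]
    exact mul_mem hbM (hMn u hu _ (inv_mem hbM))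
  · rw [Subgroup.lowerCentralSeries_succ]
    exact Subgroup.commutator_mem_commutator hbk hu

/-- **Noncentral normal subgroups of `H` contain `Z(U)`.** -/
theorem Z_le_of_normal (hK : 2 < Nat.card K) {H Q : Subgroup ↥(chevF4.group K)} (hLH : LK K ≤ H) (hQU : Q ≤ UK K)
    (hQn : ∀ y ∈ H, ∀ q ∈ Q, y * q * y⁻¹ ∈ Q) (hCQ : ∀ g, (∀ q ∈ Q, g * q = q * g) → g ∈ UK K)
    (hmove : ∀ z ∈ ZK K, (∃ y ∈ H, y * z ≠ z * y) → ∃ y ∈ H, ⁅z, y⁆ ∈ UK K ∧ ⁅z, y⁆ ∉ ZK K)
    {N : Subgroup ↥(chevF4.group K)} (hNH : N ≤ H) (hNn : ∀ y ∈ H, ∀ n ∈ N, y * n * y⁻¹ ∈ N)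
    (hnc : ∃ n ∈ N, ∃ y ∈ H, y * n ≠ n * y) : ZK K ≤ N := by
  have : Fact (Nat.Prime 2) := ⟨Nat.prime_two⟩
  have hUH : UK K ≤ H := U_le_L.trans hLH
  have hcomN : ∀ n ∈ N, ∀ y ∈ H, ⁅n, y⁆ ∈ N := by
    intro n hn y hy
    rw [commutatorElement_def]
    have e : n * y * n⁻¹ * y⁻¹ = n * (y * n⁻¹ * y⁻¹) := by group
    rw [e]
    exact mul_mem hn (hNn y hy _ (inv_mem hn))
  by_cases hM : N ⊓ UK K ≤ ZK K
  · exfalso
    by_cases hcen : ∀ z ∈ N ⊓ UK K, ∀ y ∈ H, y * z = z * y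
    · -- `N` is central
      have hsq : ∀ n ∈ N, ∀ q ∈ Q, n ^ 2 * q = q * n ^ 2 := by
        intro n hn q hq
        have h1 : ⁅n, q⁆ ∈ N ⊓ UK K := by
          refine ⟨hcomN n hn q (hUH (hQU hq)), ?_⟩
          rw [commutatorElement_def]
          exact (UK K).mul_mem (hQU (hQn n (hNH hn) q hq)) ((UK K).inv_mem (hQU hq))
        obtain ⟨z, hz⟩ : ∃ z, z = ⁅n, q⁆ := ⟨_, rfl⟩
        rw [← hz] at h1
        have h2 : n * z = z * n := hcen z h1 n (hNH hn)
        have h3 : z * z = 1 := Zsq (hM h1)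
        have h4 : n * q = z * q * n := by rw [hz, commutatorElement_def]; group
        calc n ^ 2 * q = n * (n * q) := by rw [pow_two]; group
          _ = (n * z) * q * n := by rw [h4]; group
          _ = z * (n * q) * n := by rw [h2]; group
          _ = (z * z) * q * n ^ 2 := by rw [h4, pow_two]; group
          _ = q * n ^ 2 := by rw [h3, one_mul]
      have hN2 : IsPGroup 2 ↥N := by
        rintro ⟨n, hn⟩
        refine ⟨2, Subtype.ext ?_⟩
        have h1 : n ^ 2 ∈ N ⊓ UK K := ⟨pow_mem hn 2, hCQ _ (hsq n hn)⟩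
        have h2 : n ^ 2 * n ^ 2 = 1 := Zsq (hM h1)
        show n ^ 2 ^ 2 = 1
        calc n ^ 2 ^ 2 = n ^ 2 * n ^ 2 := by group
          _ = 1 := h2
      have hUN : IsPGroup 2 ↥(N ⊔ UK K : Subgroup ↥(chevF4.group K)) := by
        apply IsPGroup.to_sup_of_normal_left' hN2 (RGD.isPGroup_Upos (rgd (K := K) isType c4 2))
        intro u hu
        rw [Subgroup.mem_normalizer_iff]
        intro y
        refine ⟨fun h => hNn u (hUH hu) y h, fun h => ?_⟩
        have h1 := hNn u⁻¹ (inv_mem (hUH hu)) _ h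
        have e : u⁻¹ * (u * y * u⁻¹) * u⁻¹⁻¹ = y := by group
        rwa [e] at h1
      have hle : N ≤ UK K := le_sup_left.trans ((kf0 (K := K) hK).maxU _ hUN le_sup_right)
      obtain ⟨n, hn, y, hy, hne⟩ := hnc
      exact hne (hcen n ⟨hn, hle hn⟩ y hy)
    · push Not at hcen
      obtain ⟨z, hz, y, hy, hne⟩ := hcen
      obtain ⟨y', hy', h1, h2⟩ := hmove z (hM hz) ⟨y, hy, hne⟩
      exact h2 (hM ⟨hcomN z hz.1 y' hy', h1⟩)
  · obtain ⟨b, hb, hbZ, hbU⟩ := exists_two (M := N ⊓ UK K) inf_le_right (by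
      rintro u hu m ⟨hm, hm'⟩
      exact Subgroup.mem_inf.2 ⟨hNn u (hUH hu) m hm, mul_mem (mul_mem hu hm') (inv_mem hu)⟩) hM
    exact Z_le_of_two hK (fun y hy n hn => hNn y (hLH hy) n hn) hb.1 hbZ hbU

end Cfsg.Agent.OddHalf.D4.F4Nor

end

-- merged: Cfsg.Agent.OddHalf.D4.InputW
section

/-!
# ODD, D4: LEMMA INPUT if `C_K(w)` depends on the involution `w` of `Z(S)` (for `K = F₄(q)`)

`LocW K S w H` : `H` is the largest perfect subgroup of `C_K(w)`, `S ≤ H`; `InpW K S X H` : facts on a standard component `K`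
with `Z(K) = 1`: `S` is a Sylow 2-subgroup of `K`, `X = Z(S)`, `H` is a perfect subgroup of `C_K(X)` containing `S`, and
for every `1 ≠ w ∈ X` there is `H'` with `LocW K S w H'`.

* `Inp.toW` : `Inp` gives `InpW`;
* `InpW.false_of_mem`, `InpW.inf_eq_bot` : `E ∩ K ∩ C(L) = 1`;
* `InpW.root` : the root type pair, `γ` normalises `S`;
* **`InpW.root_pair`** : the same from a full pair and a Sylow 2-subgroup of `K` contained in `N(L)`.
-/

set_option autoImplicit false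

namespace Cfsg.Agent.OddHalf.D4.InputW

open Cfsg Subgroup Cfsg.Agent.OddHalf.D4 Cfsg.Agent.OddHalf.D4.Basic Cfsg.Agent.OddHalf.D4.Input
open Cfsg.Agent.OddHalf.D4.CommConj (Tight cj mem_cj cj_mul card_cj cj_eq_of_mem_normalizer mem_normalizer_of_cj_eq
  mem_cj_mul)

open scoped commutatorElement

variable {G : Type*} [Group G]

/-- `H` is the largest perfect subgroup of `C_K(w)`, and contains `S`. -/
structure LocW (K S : Subgroup G) (w : G) (H : Subgroup G) : Prop where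
  SH : S ≤ H
  HK : H ≤ K
  Hw : ∀ y ∈ H, y * w = w * y
  perf : H ≤ ⁅H, H⁆
  res : ∀ P : Subgroup G, P ≤ K → P ≤ ⁅P, P⁆ → (∀ y ∈ P, y * w = w * y) → P ≤ H
  /-- `H` is directly indecomposable -/
  ind : ∀ A B : Subgroup G, A ≤ H → B ≤ H → (∀ a ∈ A, ∀ b ∈ B, a * b = b * a) → A ⊓ B = ⊥ →
    (∀ y ∈ H, ∃ a ∈ A, ∃ b ∈ B, y = a * b) → A = ⊥ ∨ B = ⊥
  gen : ∀ J : Subgroup G, (∀ x ∈ H, x * x = 1 → x ≠ 1 → ∀ k ∈ K, k * x = x * k → k ∈ J) → K ≤ J

/-- The facts on `K`, its Sylow 2-subgroup `S`, `X = Z(S)`, and the perfect subgroup `H` of `C_K(X)`. -/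
structure InpW (K S X H : Subgroup G) : Prop where
  syl : IsSyl S K
  tight : TightAt K
  even : Even (Nat.card ↥(centralizer (K : Set G)))
  ctr : ∀ x ∈ K, x ∈ centralizer (K : Set G) → x = 1
  /-- `K` does not commute with its conjugates -/
  std : ∀ g : G, ¬ ∀ k ∈ K, ∀ l ∈ cj g K, k * l = l * k
  simp : ∀ N : Subgroup G, N ≤ K → (∀ k ∈ K, ∀ y ∈ N, k * y * k⁻¹ ∈ N) → N = ⊥ ∨ N = K
  XS : X ≤ S
  SH : S ≤ H
  HK : H ≤ K
  HX : ∀ y ∈ H, ∀ x ∈ X, y * x = x * y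
  perf : H ≤ ⁅H, H⁆
  /-- (F1) -/
  cen : ∀ y ∈ normalizer (K : Set G), (∃ n : ℕ, y ^ 2 ^ n = 1) → (∀ s ∈ S, s * y = y * s) →
    ∃ c ∈ centralizer (K : Set G), ∃ x ∈ X, y = c * x
  loc : ∀ w ∈ X, w ≠ 1 → ∃ H' : Subgroup G, LocW K S w H'
  /-- perfect groups of automorphisms of `K` are inner -/
  out : ∀ P : Subgroup G, P ≤ normalizer (K : Set G) → P ≤ ⁅P, P⁆ → P ≤ K ⊔ centralizer (K : Set G)
  /-- perfect subgroups of the centralizer of a Sylow 2-subgroup of `C(K)` in `C(K)` are trivial -/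
  core : ∀ Q : Subgroup G, IsSyl Q (centralizer (K : Set G)) → ∀ P : Subgroup G, P ≤ centralizer (K : Set G) →
    (∀ x ∈ P, ∀ q ∈ Q, x * q = q * x) → P ≤ ⁅P, P⁆ → P = ⊥

variable {K S X H L Q U E : Subgroup G}

/-- one central root group -/
theorem toW (h : Inp K S X H) : InpW K S X H :=
  ⟨h.syl, h.tight, h.even, h.ctr, h.std, h.simp, h.XS, h.SH, h.HK, h.HX, h.perf, h.cen,
    fun w hw hw1 => ⟨H, h.SH, h.HK, fun y hy => h.HX y hy w hw, h.perf, h.res w hw hw1, h.ind, h.gen⟩, h.out, h.core⟩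

namespace InpW

theorem mem_X (h : InpW K S X H) {w : G} (hw : w ∈ S) (hc : ∀ s ∈ S, s * w = w * s) : w ∈ X := by
  obtain ⟨c, hc', x, hx, e⟩ := h.cen w (le_normalizer (h.syl.le hw)) (pow_eq_one_of_isPGroup h.syl.two hw) hc
  have h1 : c = 1 := by
    apply h.ctr c _ hc'
    have : c = w * x⁻¹ := by rw [e]; group
    rw [this]
    exact mul_mem (h.syl.le hw) (inv_mem (h.syl.le (h.XS hx)))
  rw [e, h1, one_mul]; exact hx

theorem X_eq (h : InpW K S X H) : X = S ⊓ centralizer (S : Set G) := by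
  apply le_antisymm
  · intro x hx
    exact ⟨h.XS hx, mem_centralizer_iff.mpr fun s hs => h.HX s (h.SH hs) x hx⟩
  · rintro x ⟨hx1, hx2⟩
    exact h.mem_X hx1 fun s hs => mem_centralizer_iff.mp hx2 s hs

theorem X_cj (h : InpW K S X H) {g : G} (hg : cj g S = S) : cj g X = X := by
  rw [h.X_eq]
  show Subgroup.map _ _ = _
  rw [Subgroup.map_inf _ _ _ (MulAut.conj g).injective]
  show cj g S ⊓ cj g (centralizer (S : Set G)) = _
  rw [← centralizer_cj, hg]

theorem XK (h : InpW K S X H) : X ≤ K := h.XS.trans h.syl.le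

end InpW

theorem InpW.sec (h : InpW K S X H) (g : G) : Sec K (cj g K) := by
  have hctr : ∀ x ∈ cj g K, x ∈ centralizer ((cj g K : Subgroup G) : Set G) → x = 1 := by
    intro x hx hxc
    rw [centralizer_cj, mem_cj] at hxc
    rw [mem_cj] at hx
    have h3 := h.ctr _ hx hxc
    calc x = g * (g⁻¹ * x * g) * g⁻¹ := by group
      _ = 1 := by rw [h3]; group
  refine ⟨h.tight.cj g, hctr, ?_, ?_, h.std g⟩
  · intro P hP hPP
    rw [centralizer_cj, ← Subgroup.map_sup]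
    apply cj_le_iff'.mp
    apply h.out
    · rw [normalizer_cj] at hP
      exact cj_le_iff'.mpr hP
    · exact cj_perf hPP
  · intro Q hQ P hP hc hPP
    have h1 := h.core (cj g⁻¹ Q) (by
      have h2 := hQ.cj g⁻¹
      rwa [centralizer_cj, cj_inv_cj] at h2) (cj g⁻¹ P) (by
      rw [centralizer_cj] at hP
      exact cj_le_iff'.mpr hP) (by
      intro x hx q hq
      rw [mem_cj, inv_inv] at hx hq
      have h2 := hc _ hx _ hq
      calc x * q = g⁻¹ * ((g * x * g⁻¹) * (g * q * g⁻¹)) * g := by group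
        _ = g⁻¹ * ((g * q * g⁻¹) * (g * x * g⁻¹)) * g := by rw [h2]
        _ = q * x := by group) (cj_perf hPP)
    have h2 : P ≤ cj g ⊥ := cj_le_iff'.mp h1.le
    have h3 : cj g (⊥ : Subgroup G) = ⊥ := Subgroup.map_bot _
    rw [h3] at h2
    exact eq_bot_iff.mpr h2

section Core

variable [Finite G]

/-- **no involution of `Z(S)` in `C(L)`** -/
theorem InpW.false_of_mem (h : InpW K S X H) (hL : Sec K L) {w : G} (hwX : w ∈ X) (hw2 : orderOf w = 2)
    (hwL : w ∈ centralizer (L : Set G)) : False := by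
  have hw1 : w ≠ 1 := by
    rintro rfl
    rw [orderOf_one] at hw2
    exact absurd hw2 (by norm_num)
  obtain ⟨H', hW⟩ := h.loc w hwX hw1
  set D := centralizer (L : Set G) with hD
  have hLD : ∀ a ∈ L, ∀ b ∈ D, a * b = b * a := comm_cen
  -- an involution of `C(K)`
  obtain ⟨q, hq, hq2⟩ := exists_invol_of_even h.even
  have hwK : w ∈ K := h.XK hwX
  have hHN : H' ≤ normalizer (L : Set G) := fun y hy => hL.tight.mem hwL hw2 (hW.Hw y hy)
  have hdec : ∀ y ∈ H', ∃ a ∈ L, ∃ b ∈ D, y = a * b := fun y hy => exists_lc (hL.out H' hHN hW.perf hy)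
  have hqN : q ∈ normalizer (L : Set G) := hL.tight.mem hwL hw2 (comm_cen w hwK q hq).symm
  set P := proj hLD H' with hP
  have hPp : P ≤ ⁅P, P⁆ := proj_perf hLD hdec hW.perf hL.ctr
  -- `P ≤ N(K)`, `P` centralises `w`
  have hPK : ∀ d ∈ P, d ∈ normalizer (K : Set G) := by
    rintro d ⟨hd, l, hl, hld⟩
    apply h.tight.mem hq hq2
    have h1 := comm_cen (l * d) (hW.HK hld) q hq
    have h2 : q * l * q⁻¹ ∈ L := (mem_normalizer_iff.mp hqN l).mp hl
    have h3 : q * d * q⁻¹ ∈ D := centralizer_conj_mem hqN hd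
    have h4 : (q * l * q⁻¹) * (q * d * q⁻¹) = l * d := by
      calc (q * l * q⁻¹) * (q * d * q⁻¹) = (q * (l * d)) * q⁻¹ := by group
        _ = l * d := by rw [← h1]; group
    have h5 := (decomp_unique hL.ctr h2 h3 hl hd h4).2
    calc d * q = (q * d * q⁻¹) * q := by rw [h5]
      _ = q * d := by group
  have hPw : ∀ d ∈ P, d * w = w * d := by
    rintro d ⟨hd, l, hl, hld⟩
    have h1 := hW.Hw _ hld
    have h2 := hLD l hl w hwL
    have h3 : l * (d * w) = l * (w * d) := by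
      calc l * (d * w) = l * d * w := by group
        _ = w * (l * d) := h1
        _ = (w * l) * d := by group
        _ = (l * w) * d := by rw [h2]
        _ = _ := by group
    exact mul_left_cancel h3
  -- `P` normalises `H'`
  have hPH : ∀ d ∈ P, ∀ y ∈ H', d * y * d⁻¹ ∈ H' := by
    intro d hd y hy
    have h1 : cj d H' ≤ H' := by
      apply hW.res
      · intro x hx
        rw [mem_cj] at hx
        have h2 := (mem_normalizer_iff.mp (hPK d hd) _).mp (hW.HK hx)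
        have e : d * (d⁻¹ * x * d) * d⁻¹ = x := by group
        rwa [e] at h2
      · exact cj_perf hW.perf
      · intro x hx
        rw [mem_cj] at hx
        have h2 := hW.Hw _ hx
        have h3 := hPw d hd
        calc x * w = d * (d⁻¹ * x * d) * (d⁻¹ * w) := by group
          _ = d * (d⁻¹ * x * d) * (w * d⁻¹) := by
              have : d⁻¹ * w = w * d⁻¹ := by
                calc d⁻¹ * w = d⁻¹ * (w * d) * d⁻¹ := by group
                  _ = d⁻¹ * (d * w) * d⁻¹ := by rw [h3]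
                  _ = _ := by group
              rw [this]
          _ = d * ((d⁻¹ * x * d) * w) * d⁻¹ := by group
          _ = d * (w * (d⁻¹ * x * d)) * d⁻¹ := by rw [h2]
          _ = (d * w) * (d⁻¹ * x) := by group
          _ = (w * d) * (d⁻¹ * x) := by rw [h3]
          _ = w * x := by group
    exact h1 (mem_cj_mul hy)
  have hcomH : ∀ d ∈ P, ∀ y ∈ H', y * d * y⁻¹ * d⁻¹ ∈ H' := by
    intro d hd y hy
    have e : y * d * y⁻¹ * d⁻¹ = y * (d * y⁻¹ * d⁻¹) := by group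
    rw [e]
    exact mul_mem hy (hPH d hd _ (inv_mem hy))
  -- `P ≤ H'`
  have hPleH : P ≤ H' := by
    refine hPp.trans ?_
    rw [Subgroup.commutator_le]
    rintro d' ⟨hd', l', hl', hld'⟩ d hd
    have h1 := hcomH d hd _ hld'
    have h2 := hLD l' hl' (d' * d * d'⁻¹ * d⁻¹)
      (mul_mem (mul_mem (mul_mem hd' hd.1) (inv_mem hd')) (inv_mem hd.1))
    have h3 := hLD l' hl' d hd.1
    have e : l' * d' * d * (l' * d')⁻¹ * d⁻¹ = ⁅d', d⁆ := by
      rw [commutatorElement_def]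
      calc l' * d' * d * (l' * d')⁻¹ * d⁻¹ = l' * (d' * d * d'⁻¹ * d⁻¹) * (d * l'⁻¹ * d⁻¹) := by group
        _ = (d' * d * d'⁻¹ * d⁻¹) * l' * (d * l'⁻¹ * d⁻¹) := by rw [h2]
        _ = (d' * d * d'⁻¹ * d⁻¹) * ((l' * d) * l'⁻¹ * d⁻¹) := by group
        _ = (d' * d * d'⁻¹ * d⁻¹) * ((d * l') * l'⁻¹ * d⁻¹) := by rw [h3]
        _ = d' * d * d'⁻¹ * d⁻¹ := by group
    rw [← e]
    exact h1
  -- `H'` is the direct product of `H' ∩ L` and `P`
  have hdec' : ∀ y ∈ H', ∃ a ∈ H' ⊓ L, ∃ b ∈ P, y = a * b := by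
    intro y hy
    obtain ⟨a, ha, b, hb, rfl⟩ := hdec y hy
    have hbP : b ∈ P := ⟨hb, a, ha, hy⟩
    refine ⟨a, ⟨?_, ha⟩, b, hbP, rfl⟩
    have h1 := mul_mem hy (inv_mem (hPleH hbP))
    rwa [mul_inv_cancel_right] at h1
  have hwP : w ∈ P := ⟨hwL, 1, one_mem _, by rw [one_mul]; exact hW.SH (h.XS hwX)⟩
  have hHD : H' ≤ D := by
    rcases hW.ind (H' ⊓ L) P inf_le_left hPleH (fun a ha b hb => hLD a ha.2 b hb.1) (by
        rw [eq_bot_iff]
        rintro x ⟨hx1, hx2⟩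
        rw [Subgroup.mem_bot]
        exact hL.ctr x hx1.2 hx2.1) hdec' with h1 | h1
    · intro y hy
      obtain ⟨a, ha, b, hb, rfl⟩ := hdec' y hy
      rw [h1, Subgroup.mem_bot] at ha
      rw [ha, one_mul]; exact hb.1
    · rw [h1, Subgroup.mem_bot] at hwP
      exact absurd hwP hw1
  -- `K ≤ N(L)`
  have hKN : K ≤ normalizer (L : Set G) := by
    apply hW.gen
    intro x hx hxx hx1 k _ hkx
    exact hL.tight.mem (hHD hx) (orderOf_eq_prime (by rw [pow_two]; exact hxx) hx1) hkx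
  rcases h.simp (K ⊓ D) inf_le_left (by
    rintro k hk y ⟨hy1, hy2⟩
    exact Subgroup.mem_inf.2 ⟨mul_mem (mul_mem hk hy1) (inv_mem hk), centralizer_conj_mem (hKN hk) hy2⟩) with h1 | h1
  · apply hw1
    rw [← Subgroup.mem_bot, ← h1]
    exact ⟨hwK, hwL⟩
  · apply hL.std
    intro k hk l hl
    have h2 : k ∈ K ⊓ D := by rw [h1]; exact hk
    exact (hLD l hl k h2.2).symm

/-- `E ∩ K ∩ C(L) = 1` -/
theorem InpW.inf_eq_bot (h : InpW K S X H) (hL : Sec K L) (hE : IsPGroup 2 ↥E) (hEL : E ≤ normalizer (L : Set G))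
    (hEK : E ≤ normalizer (K : Set G)) (hSE : S ≤ E) :
    ∀ x ∈ E, x ∈ K → x ∈ centralizer (L : Set G) → x = 1 := by
  have hS : E ⊓ K = S := IsSyl.eq_inf h.syl hE hSE
  by_contra hcon
  push Not at hcon
  obtain ⟨y, hyE, hyK, hyL, hy1⟩ := hcon
  obtain ⟨w, ⟨⟨hwE, hwK⟩, hwL⟩, hw2, hwc⟩ := exists_central_invol (N := E ⊓ K ⊓ centralizer (L : Set G)) hE
    (inf_le_left.trans inf_le_left) (by
      intro h1
      apply hy1
      rw [← Subgroup.mem_bot, ← h1]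
      exact ⟨⟨hyE, hyK⟩, hyL⟩) (by
      rintro t ht x ⟨⟨hx1, hx2⟩, hx3⟩
      exact Subgroup.mem_inf.2 ⟨Subgroup.mem_inf.2 ⟨mul_mem (mul_mem ht hx1) (inv_mem ht),
        (mem_normalizer_iff.mp (hEK ht) x).mp hx2⟩, centralizer_conj_mem (hEL ht) hx3⟩)
  have hwS : w ∈ S := by rw [← hS]; exact ⟨hwE, hwK⟩
  exact h.false_of_mem hL (h.mem_X hwS fun s hs => hwc s (hSE hs)) hw2 hwL

/-- **The root type pair**: `E` is a 2-subgroup of `N(K) ∩ N(L)` containing `S`, `Q` and `U`. -/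
theorem InpW.root (h : InpW K S X H) (hp : FullPair K L Q U) (hE : IsPGroup 2 ↥E) (hEL : E ≤ normalizer (L : Set G))
    (hEK : E ≤ normalizer (K : Set G)) (hSE : S ≤ E) (hQE : Q ≤ E) (hUE : U ≤ E) :
    ∃ γ : G, cj γ K = L ∧ cj γ Q = U ∧ cj γ S = S ∧ cj γ X = X ∧ cj γ Q ≤ Q ⊔ X ∧ Q ≤ cj γ (Q ⊔ X) ∧
      ¬ cj γ Q ≤ Q ∧ H ≤ L := by
  obtain ⟨g, hg, hLg⟩ := hp.conj
  have hL : Sec K L := by rw [hLg]; exact h.sec g
  have hevL : Even (Nat.card ↥(centralizer (L : Set G))) := by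
    rw [hLg, centralizer_cj, card_cj]; exact h.even
  obtain ⟨u, hu, hu2⟩ := exists_inv_syl hp.sylU hevL
  have hdisj := h.inf_eq_bot hL hE hEL hEK hSE
  -- `U` centralises `S`
  have hUS : ∀ v ∈ U, ∀ s ∈ S, s * v = v * s := by
    intro v hv s hs
    have hsE := hSE hs
    have hvE := hUE hv
    have h1 : s * v * s⁻¹ * v⁻¹ = 1 := by
      apply hdisj
      · exact mul_mem (mul_mem (mul_mem hsE hvE) (inv_mem hsE)) (inv_mem hvE)
      · have e : s * v * s⁻¹ * v⁻¹ = s * (v * s⁻¹ * v⁻¹) := by group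
        rw [e]
        exact mul_mem (h.syl.le hs) ((mem_normalizer_iff.mp (hEK hvE) _).mp (inv_mem (h.syl.le hs)))
      · exact (centralizer (L : Set G)).mul_mem (centralizer_conj_mem (hEL hsE) (hp.sylU.le hv))
          ((centralizer (L : Set G)).inv_mem (hp.sylU.le hv))
    calc s * v = (s * v * s⁻¹ * v⁻¹) * (v * s) := by group
      _ = v * s := by rw [h1, one_mul]
  have hEQ : E ⊓ centralizer (K : Set G) = Q := IsSyl.eq_inf hp.sylQ hE hQE
  -- elements of `U`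
  have hUdec : ∀ v ∈ U, ∃ c ∈ Q, ∃ x ∈ X, v = c * x := by
    intro v hv
    obtain ⟨c, hc, x, hx, e⟩ := h.cen v (hEK (hUE hv)) (pow_eq_one_of_isPGroup hE (hUE hv)) (hUS v hv)
    refine ⟨c, ?_, x, hx, e⟩
    rw [← hEQ]
    refine Subgroup.mem_inf.2 ⟨?_, hc⟩
    have : c = v * x⁻¹ := by rw [e]; group
    rw [this]
    exact mul_mem (hUE hv) (inv_mem (hSE (h.XS hx)))
  -- `H` centralises `U`
  have hHU : ∀ v ∈ U, ∀ y ∈ H, y * v = v * y := by
    intro v hv y hy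
    obtain ⟨c, hc, x, hx, e⟩ := hUdec v hv
    have h1 := comm_cen y (h.HK hy) c (hp.sylQ.le hc)
    have h2 := h.HX y hy x hx
    calc y * v = (y * c) * x := by rw [e]; group
      _ = (c * y) * x := by rw [h1]
      _ = c * (y * x) := by group
      _ = c * (x * y) := by rw [h2]
      _ = v * y := by rw [e]; group
  have hHN : H ≤ normalizer (L : Set G) := fun y hy => hL.tight.mem (hp.sylU.le hu) hu2 (hHU u hu y hy)
  have hdec : ∀ y ∈ H, ∃ a ∈ L, ∃ b ∈ centralizer (L : Set G), y = a * b :=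
    fun y hy => exists_lc (hL.out H hHN h.perf hy)
  have hLD : ∀ a ∈ L, ∀ b ∈ centralizer (L : Set G), a * b = b * a := comm_cen
  have hP1 : proj hLD H = ⊥ := by
    refine hL.core U hp.sylU (proj hLD H) (fun d hd => hd.1) ?_ (proj_perf hLD hdec h.perf hL.ctr)
    rintro d ⟨hd, l, hl, hld⟩ v hv
    have h1 := hHU v hv _ hld
    have h2 := hLD l hl v (hp.sylU.le hv)
    have h3 : l * (d * v) = l * (v * d) := by
      calc l * (d * v) = l * d * v := by group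
        _ = v * (l * d) := h1
        _ = (v * l) * d := by group
        _ = (l * v) * d := by rw [h2]
        _ = _ := by group
    exact mul_left_cancel h3
  have hHL : H ≤ L := by
    intro y hy
    obtain ⟨a, ha, b, hb, e⟩ := hdec y hy
    have h1 : b ∈ proj hLD H := ⟨hb, a, ha, by rw [← e]; exact hy⟩
    rw [hP1, Subgroup.mem_bot] at h1
    rw [e, h1, mul_one]; exact ha
  have hSL : S ≤ L := h.SH.trans hHL
  -- `S` is Sylow in `L`
  have hgS : IsSyl (cj g S) L := by rw [hLg]; exact h.syl.cj g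
  have hSylL : IsSyl S L := by
    refine ⟨h.syl.two, hSL, ?_⟩
    intro T hT hle hTL
    obtain ⟨m, _, hmq⟩ := hgS.conj_into hT hTL
    have h1 : cj m T ≤ cj g S := by
      rintro _ ⟨q, hq, rfl⟩
      exact hmq q hq
    have h2 := card_le_of_le h1
    rw [card_cj, card_cj] at h2
    exact (eq_of_le_of_card_ge hle h2).ge
  obtain ⟨l, hl, hlS⟩ := isSyl_conj_eq hSylL hgS
  -- `γ₀ = l g`
  have h0K : cj (l * g) K = L := by
    rw [cj_mul, ← hLg]
    exact cj_eq_of_mem_normalizer (le_normalizer hl)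
  have h0S : cj (l * g) S = S := by rw [cj_mul, hlS]
  have h0Q : IsSyl (cj (l * g) Q) (centralizer (L : Set G)) := by
    have h1 := hp.sylQ.cj (l * g)
    rwa [← centralizer_cj, h0K] at h1
  obtain ⟨d, hd, hdQ⟩ := isSyl_conj_eq hp.sylU h0Q
  have hdS : cj d S = S := by
    apply cj_eq_of_mem_normalizer
    rw [mem_normalizer_iff]
    intro x
    have key : ∀ y ∈ S, d * y * d⁻¹ = y := by
      intro y hy
      rw [← hLD y (hSL hy) d hd]; group
    constructor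
    · intro hx; rw [key x hx]; exact hx
    · intro hx
      have h1 : x = d⁻¹ * (d * x * d⁻¹) * d := by group
      have h2 := hLD _ (hSL hx) d⁻¹ (inv_mem hd)
      rw [h1, ← h2]
      have h3 : d * x * d⁻¹ * d⁻¹ * d = d * x * d⁻¹ := by group
      rw [h3]; exact hx
  have hγK : cj (d * (l * g)) K = L := by
    rw [cj_mul, h0K]
    exact cj_eq_of_mem_normalizer (centralizer_le_normalizer_self L hd)
  have hγS : cj (d * (l * g)) S = S := by rw [cj_mul, h0S, hdS]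
  have hγQ : cj (d * (l * g)) Q = U := by rw [cj_mul, hdQ]
  set γ := d * (l * g) with hγ
  have hγX : cj γ X = X := h.X_cj hγS
  refine ⟨γ, hγK, hγQ, hγS, hγX, ?_, ?_, ?_, hHL⟩
  · rw [hγQ]
    intro v hv
    obtain ⟨c, hc, x, hx, e⟩ := hUdec v hv
    rw [e]
    exact mul_mem_sup hc hx
  · intro q hq
    rw [mem_cj]
    have hqE := hQE hq
    have hinv : ∀ x : G, γ * (γ⁻¹ * x * γ) * γ⁻¹ = x := fun x => by group
    have hS' : ∀ s ∈ S, γ * s * γ⁻¹ ∈ S := by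
      intro s hs
      have h1 : γ * s * γ⁻¹ ∈ cj γ S := mem_cj_mul hs
      rwa [hγS] at h1
    obtain ⟨c, hc, x, hx, e⟩ := h.cen (γ⁻¹ * q * γ) (by
      have h1 := hEL hqE
      rw [← hγK, normalizer_cj, mem_cj] at h1
      exact h1) (by
      obtain ⟨n, hn⟩ := pow_eq_one_of_isPGroup hE hqE
      refine ⟨n, ?_⟩
      have h1 : (γ⁻¹ * q * γ) ^ 2 ^ n = γ⁻¹ * q ^ 2 ^ n * γ := by
        have := conj_pow (a := γ⁻¹) (b := q) (i := 2 ^ n)
        rw [inv_inv] at this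
        exact this
      rw [h1, hn]; group) (by
      intro s hs
      have h1 := comm_cen _ (h.syl.le (hS' s hs)) q (hp.sylQ.le hq)
      calc s * (γ⁻¹ * q * γ) = γ⁻¹ * ((γ * s * γ⁻¹) * q) * γ := by group
        _ = γ⁻¹ * (q * (γ * s * γ⁻¹)) * γ := by rw [h1]
        _ = _ := by group)
    rw [e]
    apply mul_mem_sup _ hx
    -- `c ∈ Q`
    have h1 : IsPGroup 2 ↥(cj γ⁻¹ E) := hE.map _
    have h2 : Q ≤ cj γ⁻¹ E := by
      apply cj_le_iff'.mp
      rw [inv_inv, hγQ]; exact hUE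
    have h3 : cj γ⁻¹ E ⊓ centralizer (K : Set G) = Q := IsSyl.eq_inf hp.sylQ h1 h2
    rw [← h3]
    refine Subgroup.mem_inf.2 ⟨?_, hc⟩
    have h4 : c = γ⁻¹ * (q * (γ * x * γ⁻¹)⁻¹) * γ⁻¹⁻¹ := by
      have h5 : c = (γ⁻¹ * q * γ) * x⁻¹ := by rw [e]; group
      rw [h5]; group
    rw [h4]
    exact mem_cj_mul (mul_mem hqE (inv_mem (hSE (hS' x (h.XS hx)))))
  · rw [hγQ]
    intro hUQ
    exact hp.noInv h.tight (hp.sylQ.le (hUQ hu)) (hp.sylU.le hu) hu2

/-- **LEMMA INPUT**: a full pair such that `N(L)` contains a Sylow 2-subgroup of `K` is, after conjugation with an element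
of `K`, of root type. -/
theorem InpW.root_pair (h : InpW K S X H) (hp : FullPair K L Q U) {S' : Subgroup G} (hS' : IsSyl S' K)
    (hS'L : S' ≤ normalizer (L : Set G)) :
    ∃ k ∈ K, ∃ γ : G, cj γ K = cj k L ∧ cj γ Q = cj k U ∧ cj γ S = S ∧ cj γ X = X ∧ cj γ Q ≤ Q ⊔ X ∧
      Q ≤ cj γ (Q ⊔ X) ∧ ¬ cj γ Q ≤ Q ∧ H ≤ cj k L := by
  have hQL := hp.leQ h.tight h.even
  have hUK := hp.leU h.tight h.even
  -- `Q U` is a 2-group
  have hQU : IsPGroup 2 ↥(Q ⊔ U : Subgroup G) := by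
    apply IsPGroup.to_sup_of_normal_right' hp.sylQ.two hp.sylU.two
    intro q hq
    rw [mem_normalizer_iff]
    intro u
    constructor
    · intro hu
      have h1 := hp.comm q hq u hu
      have e : q * u * q⁻¹ = u := by rw [h1]; group
      rw [e]; exact hu
    · intro hu
      have h1 := hp.comm q⁻¹ (inv_mem hq) _ hu
      have e : u = q * u * q⁻¹ := by
        calc u = q⁻¹ * (q * u * q⁻¹) * q := by group
          _ = (q * u * q⁻¹) * q⁻¹ * q := by rw [h1]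
          _ = _ := by group
      rw [e]; exact hu
  obtain ⟨E, hE, hQUE⟩ := exists_isSyl (M := normalizer (K : Set G) ⊓ normalizer (L : Set G)) hQU
    (sup_le (le_inf (hp.sylQ.le.trans (centralizer_le_normalizer_self K)) hQL)
      (le_inf hUK (hp.sylU.le.trans (centralizer_le_normalizer_self L))))
  have hEK : E ≤ normalizer (K : Set G) := hE.le.trans inf_le_left
  have hEL : E ≤ normalizer (L : Set G) := hE.le.trans inf_le_right
  -- a Sylow 2-subgroup of `K` in `E`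
  have hI : K ⊓ normalizer (L : Set G) ≤ normalizer (K : Set G) ⊓ normalizer (L : Set G) :=
    inf_le_inf_right _ le_normalizer
  obtain ⟨m, ⟨hmK, hmL⟩, hm⟩ := hE.conj_into_inf hI (by
    intro t ht
    rw [mem_normalizer_iff]
    intro x
    have h1 := mem_normalizer_iff.mp (hEK ht) x
    have h2 : x ∈ normalizer (L : Set G) ↔ t * x * t⁻¹ ∈ normalizer (L : Set G) := by
      have ht' := hEL ht
      constructor
      · intro hx; exact mul_mem (mul_mem ht' hx) (inv_mem ht')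
      · intro hx
        have h3 := mul_mem (mul_mem (inv_mem ht') hx) ht'
        have e : t⁻¹ * (t * x * t⁻¹) * t = x := by group
        rwa [e] at h3
    rw [mem_inf, mem_inf, h1, h2]) hS'.two (le_inf hS'.le hS'L)
  have hS1 : IsSyl (cj m S') K := by
    have h1 := hS'.cj m
    rwa [cj_eq_of_mem_normalizer (le_normalizer hmK)] at h1
  have hS1E : cj m S' ≤ E := by
    rintro _ ⟨q, hq, rfl⟩
    exact (hm q hq).1
  obtain ⟨k, hk, hkS⟩ := isSyl_conj_eq h.syl hS1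
  have hkK : cj k K = K := cj_eq_of_mem_normalizer (le_normalizer hk)
  have hkQ : cj k Q = Q := by
    apply cj_eq_of_mem_normalizer
    rw [mem_normalizer_iff]
    intro x
    have key : ∀ y ∈ Q, k * y * k⁻¹ = y := by
      intro y hy
      rw [comm_cen k hk y (hp.sylQ.le hy)]; group
    constructor
    · intro hx; rw [key x hx]; exact hx
    · intro hx
      have h2 := comm_cen k⁻¹ (inv_mem hk) _ (hp.sylQ.le hx)
      have e : x = k * x * k⁻¹ := by
        calc x = k⁻¹ * (k * x * k⁻¹) * k := by group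
          _ = k * x * k⁻¹ * k⁻¹ * k := by rw [h2]
          _ = _ := by group
      rw [e]; exact hx
  refine ⟨k, hk, ?_⟩
  apply h.root (E := cj k E) (fullPair_cj hp hk) (hE.two.map _)
  · rw [normalizer_cj]; exact map_mono hEL
  · rw [← hkK, normalizer_cj]; exact map_mono hEK
  · rw [← hkS]; exact map_mono hS1E
  · rw [← hkQ]; exact map_mono (le_sup_left.trans hQUE)
  · exact map_mono (le_sup_right.trans hQUE)

end Core

end Cfsg.Agent.OddHalf.D4.InputW

end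

-- merged: Cfsg.Agent.OddHalf.D4.IndOf
section

/-!
# ODD, D4: two general lemmas for the instances of LEMMA INPUT, in a file with light imports

* `ind_of` (helper422) : direct indecomposability, from: every non-central normal subgroup contains `X ≠ 1`;
* `schreier` (helper851) : perfect subgroups of `N(f.range)` lie in `f.range C(f.range)`.
-/

set_option autoImplicit false

namespace Cfsg.Agent.OddHalf.D4.IndOf

open Subgroup
open scoped commutatorElement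

section

variable {G : Type*} [Group G]

/-- Direct indecomposability, from: every non-central normal subgroup contains `X ≠ 1`. -/
theorem ind_of {H X : Subgroup G} (perf : H ≤ ⁅H, H⁆) (hX : X ≠ ⊥)
    (hn : ∀ B : Subgroup G, B ≤ H → (∀ y ∈ H, ∀ b ∈ B, y * b * y⁻¹ ∈ B) → (∃ b ∈ B, ∃ y ∈ H, y * b ≠ b * y) → X ≤ B)
    (A B : Subgroup G) (hA : A ≤ H) (hB : B ≤ H) (hAB : ∀ a ∈ A, ∀ b ∈ B, a * b = b * a) (hdis : A ⊓ B = ⊥)
    (hH : ∀ y ∈ H, ∃ a ∈ A, ∃ b ∈ B, y = a * b) : A = ⊥ ∨ B = ⊥ := by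
  -- one of the two is central: it is trivial
  have key : ∀ A B : Subgroup G, A ≤ H → B ≤ H → (∀ a ∈ A, ∀ b ∈ B, a * b = b * a) → A ⊓ B = ⊥ →
      (∀ y ∈ H, ∃ a ∈ A, ∃ b ∈ B, y = a * b) → (∀ a ∈ A, ∀ y ∈ H, y * a = a * y) → A = ⊥ := by
    intro A B hA hB hAB hdis hH hc
    have h1 : ⁅H, H⁆ ≤ B := by
      rw [commutator_le]
      intro x hx y hy
      obtain ⟨a, ha, b, hb, rfl⟩ := hH x hx
      obtain ⟨a', ha', b', hb', rfl⟩ := hH y hy
      have ca : ∀ z ∈ H, a * z = z * a := fun z hz => (hc a ha z hz).symm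
      have ca' : ∀ z ∈ H, a' * z = z * a' := fun z hz => (hc a' ha' z hz).symm
      have e : ⁅a * b, a' * b'⁆ = b * b' * b⁻¹ * b'⁻¹ := by
        rw [commutatorElement_def, _root_.mul_inv_rev, _root_.mul_inv_rev]
        have e1 := ca' b (hB hb)
        have e2 : a * (b * b' * b⁻¹ * b'⁻¹) = (b * b' * b⁻¹ * b'⁻¹) * a := ca _ (mul_mem (mul_mem (mul_mem (hB hb)
          (hB hb')) (inv_mem (hB hb))) (inv_mem (hB hb')))
        have e3 : a' * (a * (b * b' * b⁻¹ * b'⁻¹) * a⁻¹) = (a * (b * b' * b⁻¹ * b'⁻¹) * a⁻¹) * a' :=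
          ca' _ (mul_mem (mul_mem (hA ha) (mul_mem (mul_mem (mul_mem (hB hb) (hB hb')) (inv_mem (hB hb)))
            (inv_mem (hB hb')))) (inv_mem (hA ha)))
        have e4 : a⁻¹ * b'⁻¹ = b'⁻¹ * a⁻¹ := by
          have := ca b' (hB hb')
          calc a⁻¹ * b'⁻¹ = (b' * a)⁻¹ := by group
            _ = (a * b')⁻¹ := by rw [this]
            _ = _ := by group
        have e5 : a * a' = a' * a := ca a' (hA ha')
        calc a * b * (a' * b') * (b⁻¹ * a⁻¹) * (b'⁻¹ * a'⁻¹)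
            = a * (b * a') * b' * b⁻¹ * (a⁻¹ * b'⁻¹) * a'⁻¹ := by group
          _ = a * (a' * b) * b' * b⁻¹ * (b'⁻¹ * a⁻¹) * a'⁻¹ := by rw [e1, e4]
          _ = (a * a') * (b * b' * b⁻¹ * b'⁻¹) * a⁻¹ * a'⁻¹ := by group
          _ = (a' * a) * (b * b' * b⁻¹ * b'⁻¹) * a⁻¹ * a'⁻¹ := by rw [e5]
          _ = (a' * (a * (b * b' * b⁻¹ * b'⁻¹) * a⁻¹)) * a'⁻¹ := by group
          _ = ((a * (b * b' * b⁻¹ * b'⁻¹)) * a⁻¹) * a' * a'⁻¹ := by rw [e3]
          _ = (((b * b' * b⁻¹ * b'⁻¹) * a) * a⁻¹) * a' * a'⁻¹ := by rw [e2]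
          _ = _ := by group
      rw [e]
      exact mul_mem (mul_mem (mul_mem hb hb') (inv_mem hb)) (inv_mem hb')
    rw [eq_bot_iff, ← hdis]
    exact le_inf le_rfl (hA.trans (perf.trans h1))
  have nor : ∀ A B : Subgroup G, A ≤ H → (∀ a ∈ A, ∀ b ∈ B, a * b = b * a) →
      (∀ y ∈ H, ∃ a ∈ A, ∃ b ∈ B, y = a * b) → ∀ y ∈ H, ∀ a ∈ A, y * a * y⁻¹ ∈ A := by
    intro A B hA hAB hH y hy a ha
    obtain ⟨a', ha', b, hb, rfl⟩ := hH y hy
    have e : a' * b * a * (a' * b)⁻¹ = a' * a * a'⁻¹ := by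
      have h1 := hAB a ha b hb
      calc a' * b * a * (a' * b)⁻¹ = a' * (b * a) * b⁻¹ * a'⁻¹ := by group
        _ = a' * (a * b) * b⁻¹ * a'⁻¹ := by rw [h1]
        _ = _ := by group
    rw [e]
    exact mul_mem (mul_mem ha' ha) (inv_mem ha')
  have hBA : ∀ b ∈ B, ∀ a ∈ A, b * a = a * b := fun b hb a ha => (hAB a ha b hb).symm
  have hH' : ∀ y ∈ H, ∃ b ∈ B, ∃ a ∈ A, y = b * a := by
    intro y hy
    obtain ⟨a, ha, b, hb, e⟩ := hH y hy
    exact ⟨b, hb, a, ha, by rw [e, hAB a ha b hb]⟩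
  by_cases h1 : ∃ a ∈ A, ∃ y ∈ H, y * a ≠ a * y
  · by_cases h2 : ∃ b ∈ B, ∃ y ∈ H, y * b ≠ b * y
    · exfalso
      apply hX
      rw [eq_bot_iff, ← hdis]
      exact le_inf (hn A hA (nor A B hA hAB hH) h1) (hn B hB (nor B A hB hBA hH') h2)
    · push Not at h2
      right
      exact key B A hB hA hBA (by rw [inf_comm]; exact hdis) hH' h2
  · push Not at h1
    left
    exact key A B hA hB hAB hdis hH h1

end

theorem schreier {Y G : Type*} [Group Y] [Group G] (f : Y →* G) (hf : Function.Injective f)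
    (out : ∀ H : Subgroup (MulAut Y), H ≤ ⁅H, H⁆ → ∀ α ∈ H, ∃ y, α = MulAut.conj y) :
    ∀ H : Subgroup G, H ≤ Subgroup.normalizer (f.range : Set G) → H ≤ ⁅H, H⁆ →
      ∀ x ∈ H, ∃ k ∈ f.range, ∃ c : G, (∀ y ∈ f.range, c * y = y * c) ∧ x = k * c := by
  intro H hHN hHp x hx
  -- the action of the normaliser on `Y`
  let e : Y ≃* ↥f.range := MonoidHom.ofInjective hf
  let φ : ↥(Subgroup.normalizer (f.range : Set G)) →* MulAut Y :=
    (MulAut.congr e.symm).toMonoidHom.comp (Subgroup.normalizerMonoidHom f.range)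
  have hφ : ∀ (c : ↥(Subgroup.normalizer (f.range : Set G))) (y : Y), f (φ c y) = c * f y * (c : G)⁻¹ := by
    intro c y
    have h1 : φ c y = e.symm (Subgroup.normalizerMonoidHom f.range c (e y)) := rfl
    have h2 : ∀ z : ↥f.range, f (e.symm z) = z := by
      intro z
      have : ((e (e.symm z) : ↥f.range) : G) = z := by rw [MulEquiv.apply_symm_apply]
      exact this
    rw [h1, h2]
    rfl
  have h1 : ((H.subgroupOf (Subgroup.normalizer (f.range : Set G))).map φ) ≤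
      ⁅(H.subgroupOf (Subgroup.normalizer (f.range : Set G))).map φ,
        (H.subgroupOf (Subgroup.normalizer (f.range : Set G))).map φ⁆ := by
    rw [← Subgroup.map_commutator]
    apply Subgroup.map_mono
    intro y hy
    have hy' : (y : G) ∈ ⁅H, H⁆ := hHp (Subgroup.mem_subgroupOf.1 hy)
    have h2 : ⁅H, H⁆ = ⁅H.subgroupOf (Subgroup.normalizer (f.range : Set G)),
        H.subgroupOf (Subgroup.normalizer (f.range : Set G))⁆.map (Subgroup.normalizer (f.range : Set G)).subtype := by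
      rw [Subgroup.map_commutator, Subgroup.map_subgroupOf_eq_of_le hHN]
    rw [h2] at hy'
    obtain ⟨y', hy1, hy2⟩ := hy'
    have : y' = y := Subtype.ext hy2
    rwa [← this]
  have h2 : φ ⟨x, hHN hx⟩ ∈ (H.subgroupOf (Subgroup.normalizer (f.range : Set G))).map φ :=
    ⟨⟨x, hHN hx⟩, hx, rfl⟩
  obtain ⟨y, hy⟩ := out _ h1 _ h2
  refine ⟨f y, ⟨y, rfl⟩, (f y)⁻¹ * x, ?_, by group⟩
  rintro _ ⟨z, rfl⟩
  have h3 := hφ ⟨x, hHN hx⟩ z
  rw [hy, MulAut.conj_apply, map_mul, map_mul, map_inv] at h3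
  have h4 : f y * f z * (f y)⁻¹ = x * f z * x⁻¹ := h3
  calc (f y)⁻¹ * x * f z = (f y)⁻¹ * (x * f z * x⁻¹) * x := by group
    _ = f z * ((f y)⁻¹ * x) := by rw [← h4]; group

end Cfsg.Agent.OddHalf.D4.IndOf

end

-- merged: Cfsg.Agent.OddHalf.D4.InputF4
section

/-!
# ODD, D4: LEMMA INPUT for `K = F₄(q)`, `q ≥ 4` even (helper949)

* `H_of` : for `1 ≠ w ∈ Z(U)` the centraliser `H = C_K(w)` with its properties (`Loc`);
* `inp` : `InpW f.range (UK.map f) (ZK.map f) (LK.map f)` for an injective `f : F₄(q) →* G`;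
-/

set_option autoImplicit false
set_option Elab.async false
set_option linter.unusedSectionVars false

namespace Cfsg.Agent.OddHalf.D4.InputF4

open CoxeterSystem Cfsg.Agent.ChevalleyStructure.CoxeterGeom Cfsg.Agent.Tits.Roots Cfsg.Agent.Tits.Core
open Cfsg.Lie Cfsg.Agent.ChevalleyStructure Cfsg.Agent.ChevalleyStructure.Elts
  Cfsg.Agent.ChevalleyStructure.RootVec Cfsg.Agent.ChevalleyStructure.CoxeterGeomTypes
open Cfsg.Agent.Nodes Cfsg.Agent.Nodes.Reps Cfsg.Agent.Nodes.BNOf Cfsg.Agent.Nodes.RGDChev Cfsg.Agent.Nodes.Coroot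
  Cfsg.Agent.Nodes.KindF Cfsg.Agent.Nodes.Bruhat Cfsg.Agent.KFacts.ChevTwo Cfsg.Agent.KFacts.ChevTwoTab
  Cfsg.Agent.KFacts.ChevTwoInst Cfsg.Agent.KFacts.RgdTI
  Cfsg.Agent.KFacts.F4Star Cfsg.Agent.KFacts.F4Cent Cfsg.Agent.KFacts.F4Pair Cfsg.Agent.KFacts.F4Torus
  Cfsg.Agent.KFacts.F4Perf Cfsg.Agent.OddHalf.D7F4.KFront Cfsg.Agent.OddHalf.D4.F4Mixed
  Cfsg.Agent.OddHalf.D4.F4Nor
open scoped commutatorElement

universe u

variable {K : Type u} [Field K] [Finite K] [CharP K 2]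

/-! ### The unipotent radicals -/

/-- the roots of `Q_a` -/
def Rd (a : Fin 4 → ℤ) : Set (Fin 4 → ℤ) := {c | IsRoot c4 isType.isCartan c ∧ 1 ≤ cpr c4 isType.isCartan c a}

theorem chkRd : ((List.range 48).all fun c => (decide (24 ≤ c) || !(pp 47).testBit c) &&
    (decide (24 ≤ c) || !(pp 44).testBit c)) = true := by decide +kernel

theorem rd_pos {a : ℕ} (ha : a = 47 ∨ a = 44) {c : Fin 4 → ℤ} (hc : c ∈ Rd (v a)) :
    c ∈ RGD.Pos c4 isType.isCartan := by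
  obtain ⟨r, hr, rfl⟩ := exists_v c4 hc.1
  rw [mem_pos_iff c4 hr]
  have h1 := List.all_eq_true.1 chkRd r (List.mem_range.2 hr)
  rw [Bool.and_eq_true, Bool.or_eq_true, Bool.or_eq_true, decide_eq_true_eq] at h1
  rcases ha with rfl | rfl
  · have h2 := (testBit_pp c4 (r := 47) (by norm_num) hr).2 hc.2
    rw [h2] at h1
    exact h1.1.resolve_right (by decide)
  · have h2 := (testBit_pp c4 (r := 44) (by norm_num) hr).2 hc.2
    rw [h2] at h1
    exact h1.2.resolve_right (by decide)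

theorem rd_normal {a : Fin 4 → ℤ} (ha : IsRoot c4 isType.isCartan a) {y q : ↥(chevF4.group K)}
    (hy : y ∈ PF c4 K a) (hq : q ∈ RGD.Sup (XF K) (Rd a)) : y * q * y⁻¹ ∈ RGD.Sup (XF K) (Rd a) := by
  have h1 : PF c4 K a ≤ Subgroup.normalizer (RGD.Sup (XF K) (Rd a) : Set ↥(chevF4.group K)) := by
    refine RGD.Sup_le fun x hx => ?_
    refine (rgd (K := K) isType c4 2).le_normalizer hx.1 fun z hz => ⟨hz.1, Or.inr ⟨?_, ?_⟩⟩
    · rintro rfl
      have h1 := hx.2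
      rw [cpr_neg c4 _ _ ha] at h1
      have h2 := hz.2
      omega
    · rintro w ⟨hw, m, i, j, hm, hi, hj, e⟩
      refine ⟨hw, ?_⟩
      have h2 : m * cpr c4 isType.isCartan w a = i * cpr c4 isType.isCartan x a + j * cpr c4 isType.isCartan z a := by
        rw [← cpr_smul c4 _ m w ha, e, cpr_add c4 _ _ _ ha, cpr_smul c4 _ i x ha, cpr_smul c4 _ j z ha]
      have h3 : 0 ≤ i * cpr c4 isType.isCartan x a := mul_nonneg hi.le hx.2
      have h4 : 0 < j * cpr c4 isType.isCartan z a := mul_pos hj (by have := hz.2; omega)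
      have h5 : 0 < m * cpr c4 isType.isCartan w a := by omega
      have h6 := (mul_pos_iff_of_pos_left hm).1 h5
      omega
  exact (Subgroup.mem_normalizer_iff.1 (h1 hy) q).1 hq

theorem cent_rd {a : ℕ} (ha : a = 47 ∨ a = 44) {g : ↥(chevF4.group K)}
    (hg : ∀ q ∈ RGD.Sup (XF K) (Rd (v a)), g * q = q * g) : g ∈ UK K := by
  have ha' : a < 48 := by rcases ha with rfl | rfl <;> norm_num
  have h1 := cent_Q c4 (K := K) (rv ha') (g := g) (fun c hc =>
    ⟨eF K c 1, e_mem_X hc.1 1, (dat (K := K)).ne_one hc.1 one_ne_zero, hg _ (RGD.le_Sup (S := Rd (v a)) hc (e_mem_X hc.1 1))⟩)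
  refine RGD.Sup_mono ?_ h1
  rintro c ⟨hc, rfl | hc'⟩
  · exact (mem_pos_iff c4 ha').2 (by rcases ha with rfl | rfl <;> norm_num)
  · exact rd_pos ha ⟨hc, hc'.2⟩

/-! ### Moving elements of `Z(U)` -/

theorem e40_notin {u : K} (hu : u ≠ 0) : eF K (v 40) u ∉ ZK K := by
  intro h
  obtain ⟨-, -, -, -, -, -, -, -, -, -, -, -, -, -, -, -, l33⟩ := facts2
  have h1 := L_commZ (e_mem_L (K := K) l33 1) h
  have h2 := c40_33 u (1 : K)
  rw [commutatorElement_eq_one_iff_mul_comm.2 h1.symm, mul_one] at h2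
  exact (dat (K := K)).ne_one (rv (by norm_num)) hu h2.symm

theorem e46_notin {u : K} (hu : u ≠ 0) : eF K (v 46) u ∉ ZK K := by
  intro h
  obtain ⟨-, -, -, -, -, -, -, -, -, -, -, -, -, -, -, l24, -⟩ := facts2
  have h1 := L_commZ (e_mem_L (K := K) l24 1) h
  have h2 := c46_24 u (1 : K)
  rw [commutatorElement_eq_one_iff_mul_comm.2 h1.symm, mul_one] at h2
  exact (dat (K := K)).ne_one (rv (by norm_num)) hu h2.symm

theorem chkMv : ((nn 47).testBit 14 && (nn 44).testBit 23) = true := by decide +kernel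

theorem move47 {z : ↥(chevF4.group K)} (hz : z ∈ ZK K) (hnc : ∃ y ∈ PF c4 K (v 47), y * z ≠ z * y) :
    ∃ y ∈ PF c4 K (v 47), ⁅z, y⁆ ∈ UK K ∧ ⁅z, y⁆ ∉ ZK K := by
  have D := dat (K := K)
  obtain ⟨a, ha, b, hb, rfl⟩ := mem_ZK.1 hz
  obtain ⟨t, rfl⟩ := (mem_XF (rv (by norm_num))).1 ha
  obtain ⟨u, rfl⟩ := (mem_XF (rv (by norm_num))).1 hb
  have hu : u ≠ 0 := by
    rintro rfl
    obtain ⟨y, hy, hne⟩ := hnc
    apply hne
    rw [D.zero (rv (by norm_num)), mul_one]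
    exact (cent_X_iff c4 (rv (by norm_num)) (e_mem_X (rv (by norm_num)) t) (z := eF K (v 47) t) (by
      rintro h0
      apply hne
      rw [D.zero (rv (by norm_num)), mul_one, h0, mul_one, one_mul])).2 hy
  have hy : eF K (v 14) 1 ∈ PF c4 K (v 47) := by
    refine e_mem c4 (rv (by norm_num)) ((mem_Ge_v c4 (by norm_num) (by norm_num)).2 ?_) 1
    have := chkMv
    rw [Bool.and_eq_true] at this
    exact this.1
  have h1 : ⁅eF K (v 47) t * eF K (v 44) u, eF K (v 14) 1⁆ = eF K (v 40) u := by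
    have q1 : ⁅eF K (v 44) u, eF K (v 14) 1⁆ = eF K (v 40) u := by rw [c44_m33, mul_one]
    have q2 := c47_m33 t (1 : K)
    have q3 : eF K (v 40) u * eF K (v 47) t = eF K (v 47) t * eF K (v 40) u :=
      L_comm1 (U_le_L (e_mem_U (by norm_num) (by norm_num) u)) (e_mem_X (rv (by norm_num)) t)
    have q4 : eF K (v 44) u * eF K (v 14) 1 = eF K (v 40) u * eF K (v 14) 1 * eF K (v 44) u := by
      rw [← q1, commutatorElement_def]; group
    rw [commutatorElement_def]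
    calc eF K (v 47) t * eF K (v 44) u * eF K (v 14) 1 * (eF K (v 47) t * eF K (v 44) u)⁻¹ * (eF K (v 14) 1)⁻¹
        = eF K (v 47) t * (eF K (v 44) u * eF K (v 14) 1) * (eF K (v 44) u)⁻¹ * (eF K (v 47) t)⁻¹ *
          (eF K (v 14) 1)⁻¹ := by group
      _ = (eF K (v 47) t * eF K (v 40) u) * eF K (v 14) 1 * (eF K (v 47) t)⁻¹ * (eF K (v 14) 1)⁻¹ := by
          rw [q4]; group
      _ = eF K (v 40) u * (eF K (v 47) t * eF K (v 14) 1) * (eF K (v 47) t)⁻¹ * (eF K (v 14) 1)⁻¹ := by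
          rw [← q3]; group
      _ = _ := by rw [q2]; group
  refine ⟨_, hy, ?_, ?_⟩
  · rw [h1]; exact e_mem_U (by norm_num) (by norm_num) u
  · rw [h1]; exact e40_notin hu

theorem move44 {z : ↥(chevF4.group K)} (hz : z ∈ ZK K) (hnc : ∃ y ∈ PF c4 K (v 44), y * z ≠ z * y) :
    ∃ y ∈ PF c4 K (v 44), ⁅z, y⁆ ∈ UK K ∧ ⁅z, y⁆ ∉ ZK K := by
  have D := dat (K := K)
  obtain ⟨a, ha, b, hb, rfl⟩ := mem_ZK.1 hz
  obtain ⟨t, rfl⟩ := (mem_XF (rv (by norm_num))).1 ha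
  obtain ⟨u, rfl⟩ := (mem_XF (rv (by norm_num))).1 hb
  have ht : t ≠ 0 := by
    rintro rfl
    obtain ⟨y, hy, hne⟩ := hnc
    apply hne
    rw [D.zero (rv (by norm_num)), one_mul]
    exact (cent_X_iff c4 (rv (by norm_num)) (e_mem_X (rv (by norm_num)) u) (z := eF K (v 44) u) (by
      rintro h0
      apply hne
      rw [D.zero (rv (by norm_num)), one_mul, h0, mul_one, one_mul])).2 hy
  have hy : eF K (v 23) 1 ∈ PF c4 K (v 44) := by
    refine e_mem c4 (rv (by norm_num)) ((mem_Ge_v c4 (by norm_num) (by norm_num)).2 ?_) 1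
    have := chkMv
    rw [Bool.and_eq_true] at this
    exact this.2
  have h1 : ⁅eF K (v 47) t * eF K (v 44) u, eF K (v 23) 1⁆ = eF K (v 46) t := by
    have q1 : ⁅eF K (v 47) t, eF K (v 23) 1⁆ = eF K (v 46) t := by rw [c47_m24, mul_one]
    have q2 := c44_m24 u (1 : K)
    rw [← q1, commutatorElement_def, commutatorElement_def]
    calc eF K (v 47) t * eF K (v 44) u * eF K (v 23) 1 * (eF K (v 47) t * eF K (v 44) u)⁻¹ * (eF K (v 23) 1)⁻¹
        = eF K (v 47) t * (eF K (v 44) u * eF K (v 23) 1) * (eF K (v 44) u)⁻¹ * (eF K (v 47) t)⁻¹ *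
          (eF K (v 23) 1)⁻¹ := by group
      _ = _ := by rw [q2]; group
  refine ⟨_, hy, ?_, ?_⟩
  · rw [h1]; exact e_mem_U (by norm_num) (by norm_num) t
  · rw [h1]; exact e46_notin ht

/-! ### Generation -/

theorem chkG : ((List.range 48).all fun c => (List.range 48).any fun b => SM.testBit b && (nn b).testBit c) = true := by
  decide +kernel

theorem gen_L {J : Subgroup ↥(chevF4.group K)}
    (hJ : ∀ x ∈ LK K, x * x = 1 → x ≠ 1 → ∀ k, k * x = x * k → k ∈ J) : J = ⊤ := by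
  rw [eq_top_iff, ← show RGDLib.G1 c4 isType.isCartan (XF K) = ⊤ from G1_eq_top isType c4]
  refine RGD.Sup_le fun x hx y hy => ?_
  obtain ⟨c, hc, rfl⟩ := exists_v c4 hx
  obtain ⟨b, hb, h1⟩ := List.any_eq_true.1 (List.all_eq_true.1 chkG c (List.mem_range.2 hc))
  rw [List.mem_range] at hb
  rw [Bool.and_eq_true] at h1
  obtain ⟨t, rfl⟩ := (mem_XF (rv hc)).1 hy
  refine hJ (eF K (v b) 1) (e_mem_L ((mem_SL hb).2 h1.1) 1) ((dat (K := K)).sq (rv hb) 1)
    ((dat (K := K)).ne_one (rv hb) one_ne_zero) _ ?_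
  exact (dat (K := K)).comm_of_nonneg (rv hc) (rv hb) ((testBit_nn c4 hb hc).1 h1.2) t 1

/-! ### The centralisers -/

/-- the properties of `H = C_K(w)` -/
structure Loc (w : ↥(chevF4.group K)) (H : Subgroup ↥(chevF4.group K)) : Prop where
  LH : LK K ≤ H
  cent : ∀ g, g * w = w * g ↔ g ∈ H
  perf : H ≤ ⁅H, H⁆
  nor : ∀ N : Subgroup ↥(chevF4.group K), N ≤ H → (∀ y ∈ H, ∀ n ∈ N, y * n * y⁻¹ ∈ N) →
    (∃ n ∈ N, ∃ y ∈ H, y * n ≠ n * y) → ZK K ≤ N

theorem L_le_P {a : ℕ} (ha : a = 47 ∨ a = 44) : LK K ≤ PF c4 K (v a) := by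
  rcases ha with rfl | rfl
  · exact RGD.Sup_mono fun x hx => hx.1
  · exact RGD.Sup_mono fun x hx => hx.2

theorem rd_le_U {a : ℕ} (ha : a = 47 ∨ a = 44) : RGD.Sup (XF K) (Rd (v a)) ≤ UK K :=
  RGD.Sup_mono fun _ hc => rd_pos ha hc

/-- **The centralisers of the nontrivial elements of `Z(U)`.** -/
theorem H_of (hK : 2 < Nat.card K) {w : ↥(chevF4.group K)} (hw : w ∈ ZK K) (hw1 : w ≠ 1) :
    ∃ H : Subgroup ↥(chevF4.group K), Loc w H := by
  rcases cases_Z hw hw1 with h | h | h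
  · refine ⟨PF c4 K (v 47), L_le_P (Or.inl rfl), fun g => cent_X_iff c4 (rv (by norm_num)) h hw1,
      (perfect_P c4 (rv (by norm_num))).ge, fun N hN hNn hnc => ?_⟩
    exact Z_le_of_normal hK (L_le_P (Or.inl rfl)) (rd_le_U (Or.inl rfl))
      (fun y hy q hq => rd_normal (rv (by norm_num)) hy hq) (fun g hg => cent_rd (Or.inl rfl) hg)
      (fun z hz hnc => move47 hz hnc) hN hNn hnc
  · refine ⟨PF c4 K (v 44), L_le_P (Or.inr rfl), fun g => cent_X_iff c4 (rv (by norm_num)) h hw1,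
      (perfect_P c4 (rv (by norm_num))).ge, fun N hN hNn hnc => ?_⟩
    exact Z_le_of_normal hK (L_le_P (Or.inr rfl)) (rd_le_U (Or.inr rfl))
      (fun y hy q hq => rd_normal (rv (by norm_num)) hy hq) (fun g hg => cent_rd (Or.inr rfl) hg)
      (fun z hz hnc => move44 hz hnc) hN hNn hnc
  · refine ⟨LK K, le_rfl, fun g => cent_mixed_iff h, (LK_perfect hK).ge, fun N hN hNn hnc => ?_⟩
    exact Z_le_of_normal hK le_rfl (rd_le_U (a := 47) (Or.inl rfl))
      (fun y hy q hq => rd_normal (rv (by norm_num)) (L_le_P (Or.inl rfl) hy) hq) (fun g hg => cent_rd (Or.inl rfl) hg)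
      (fun z hz hnc => by
        obtain ⟨y, hy, hne⟩ := hnc
        exact absurd (L_commZ hy hz) hne) hN hNn hnc

/-! ### The instance -/

open Subgroup Cfsg.Agent.OddHalf.D4 Cfsg.Agent.OddHalf.D4.Basic Cfsg.Agent.OddHalf.D4.Input
  Cfsg.Agent.OddHalf.D4.InputW

/-- From automorphisms to elements of an overgroup (helper350). -/
theorem exists_of_aut {G : Type*} [Group G] {Y : Type*} [Group Y] (f : Y →* G) (hf : Function.Injective f) {S : Set Y}
    {Z : Subgroup Y} {g : G}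
    (H : ∀ α : MulAut Y, (∀ x ∈ S, α x = x) → ∃ z ∈ Z, ∀ x, α x = z * x * z⁻¹)
    (hg : g ∈ Subgroup.normalizer (f.range : Set G)) (hgS : ∀ x ∈ S, g * f x = f x * g) :
    ∃ z ∈ Z, ∀ y, (f z)⁻¹ * g * f y = f y * ((f z)⁻¹ * g) := by
  let e : Y ≃* ↥f.range := MonoidHom.ofInjective hf
  obtain ⟨β, hβ⟩ : ∃ β : MulAut ↥f.range, ∀ k : ↥f.range, ((β k : ↥f.range) : G) = g * k * g⁻¹ :=
    ⟨Subgroup.normalizerMonoidHom f.range ⟨g, hg⟩, fun k => rfl⟩
  obtain ⟨α, hα⟩ : ∃ α : MulAut Y, ∀ y, f (α y) = g * f y * g⁻¹ := by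
    refine ⟨(e.trans β).trans e.symm, fun y => ?_⟩
    have h1 : f (e.symm (β (e y))) = ((e (e.symm (β (e y))) : ↥f.range) : G) := rfl
    have h2 : ((e y : ↥f.range) : G) = f y := rfl
    show f (e.symm (β (e y))) = _
    rw [h1, MulEquiv.apply_symm_apply, hβ, h2]
  obtain ⟨z, hz, e⟩ := H α (fun x hx => hf (by rw [hα, hgS x hx, mul_inv_cancel_right]))
  refine ⟨z, hz, fun y => ?_⟩
  have h1 := hα y
  rw [e, map_mul, map_mul, map_inv] at h1
  calc (f z)⁻¹ * g * f y = (f z)⁻¹ * (g * f y * g⁻¹) * g := by group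
    _ = (f z)⁻¹ * (f z * f y * (f z)⁻¹) * g := by rw [h1]
    _ = _ := by group

/-- automorphisms trivial on `U` -/
theorem aut_U {α : MulAut ↥(chevF4.group K)} (hα : ∀ u ∈ UK K, α u = u) :
    ∃ z ∈ ZK K, ∀ x, α x = z * x * z⁻¹ := by
  obtain ⟨z, hz, hzU, rfl⟩ := KFacts.RgdFixU.eq_conj_of_fix_U (rgd (K := K) isType c4 2)
    (G1_eq_top isType c4) simple_comm hα
  exact ⟨z, mem_Z_of_comm hzU, fun x => rfl⟩

theorem center_bot : Subgroup.center ↥(chevF4.group K) = ⊥ := S1077.center_group_eq_bot isType.inList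

section Inst

variable {G : Type*} [Group G] {f : ↥(chevF4.group K) →* G} (hf : Function.Injective f)

theorem comap_map_eq {B : Subgroup G} (hB : B ≤ f.range) : (B.comap f).map f = B := by
  rw [Subgroup.map_comap_eq]
  exact inf_eq_right.2 hB

include hf in
theorem mem_map_iff {B : Subgroup ↥(chevF4.group K)} {x : ↥(chevF4.group K)} : f x ∈ B.map f ↔ x ∈ B := by
  constructor
  · rintro ⟨y, hy, e⟩
    rwa [← hf e]
  · intro h; exact ⟨x, h, rfl⟩

include hf in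
theorem locW_of {w : ↥(chevF4.group K)} {H : Subgroup ↥(chevF4.group K)} (L : Loc w H) :
    LocW f.range ((UK K).map f) (f w) (H.map f) where
  SH := map_mono (U_le_L.trans L.LH)
  HK := by
    rintro _ ⟨y, -, rfl⟩
    exact ⟨y, rfl⟩
  Hw := by
    rintro _ ⟨y, hy, rfl⟩
    rw [← map_mul, (L.cent y).2 hy, map_mul]
  perf := by
    rw [← Subgroup.map_commutator]
    exact map_mono L.perf
  res := by
    intro P hP _ hPw x hx
    obtain ⟨y, rfl⟩ := hP hx
    refine ⟨y, (L.cent y).1 (hf ?_), rfl⟩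
    rw [map_mul, map_mul]
    exact hPw _ hx
  ind := by
    have hn : ∀ B : Subgroup G, B ≤ H.map f → (∀ y ∈ H.map f, ∀ b ∈ B, y * b * y⁻¹ ∈ B) →
        (∃ b ∈ B, ∃ y ∈ H.map f, y * b ≠ b * y) → (ZK K).map f ≤ B := by
      intro B hB hBn hnc
      have hBr : B ≤ f.range := by
        intro x hx
        obtain ⟨y, -, rfl⟩ := hB hx
        exact ⟨y, rfl⟩
      rw [← comap_map_eq hBr]
      apply map_mono
      apply L.nor
      · intro x hx
        exact (mem_map_iff hf).1 (hB hx)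
      · intro y hy b hb
        show f (y * b * y⁻¹) ∈ B
        rw [map_mul, map_mul, map_inv]
        exact hBn (f y) ⟨y, hy, rfl⟩ _ hb
      · obtain ⟨b, hb, y, hy, hne⟩ := hnc
        obtain ⟨y, hy, rfl⟩ := hy
        obtain ⟨b', hb', rfl⟩ := hB hb
        refine ⟨b', hb, y, hy, fun h0 => hne ?_⟩
        rw [← map_mul, h0, map_mul]
    have hX : (ZK K).map f ≠ ⊥ := by
      intro h0
      have h1 : f (eF K (v 47) 1) ∈ (ZK K).map f :=
        ⟨_, Subgroup.mem_sup_left (e_mem_X (rv (by norm_num)) 1), rfl⟩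
      rw [h0, Subgroup.mem_bot] at h1
      exact (dat (K := K)).ne_one (rv (by norm_num)) one_ne_zero (hf (h1.trans (map_one f).symm))
    intro A B hA hB hAB hdis hdec
    have perf : H.map f ≤ ⁅H.map f, H.map f⁆ := by
      rw [← Subgroup.map_commutator]
      exact map_mono L.perf
    exact Cfsg.Agent.OddHalf.D4.IndOf.ind_of perf hX hn A B hA hB hAB hdis hdec
  gen := by
    intro J hJ
    have h1 : J.comap f = ⊤ := by
      apply gen_L
      intro x hx hxx hx1 k hk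
      refine hJ (f x) ⟨x, L.LH hx, rfl⟩ (by rw [← map_mul, hxx, map_one])
        (fun h => hx1 (hf (h.trans (map_one f).symm))) (f k) ⟨k, rfl⟩ (by rw [← map_mul, hk, map_mul])
    rintro _ ⟨k, rfl⟩
    have h2 : k ∈ J.comap f := by rw [h1]; trivial
    exact h2

include hf in
/-- **The facts of LEMMA INPUT** for `F₄(q)`, `q ≥ 4` even. -/
theorem inp (hs : IsSimpleGroup ↥(chevF4.group K)) (hsch : Schreier.Basic.Sch ↥(chevF4.group K)) (hK : 2 < Nat.card K)
    (tight : TightAt f.range) (even : Even (Nat.card ↥(centralizer (f.range : Set G))))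
    (std : ∀ g : G, ¬ ∀ k ∈ f.range, ∀ l ∈ CommConj.cj g f.range, k * l = l * k)
    (core : ∀ Q : Subgroup G, IsSyl Q (centralizer (f.range : Set G)) → ∀ P : Subgroup G,
      P ≤ centralizer (f.range : Set G) → (∀ x ∈ P, ∀ q ∈ Q, x * q = q * x) → P ≤ ⁅P, P⁆ → P = ⊥) :
    InpW f.range ((UK K).map f) ((ZK K).map f) ((LK K).map f) where
  syl :=
    { two := (kf0 (K := K) hK).pU.map f
      le := by
        rintro _ ⟨y, -, rfl⟩
        exact ⟨y, rfl⟩
      max := by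
        intro P hP hle hPr
        rw [← comap_map_eq hPr]
        apply map_mono
        apply (kf0 (K := K) hK).maxU
        · rintro ⟨x, hx⟩
          obtain ⟨k, hk⟩ := hP ⟨f x, hx⟩
          refine ⟨k, Subtype.ext (hf ?_)⟩
          have h1 : (f x) ^ 2 ^ k = 1 := congrArg Subtype.val hk
          show f (x ^ 2 ^ k) = f 1
          rw [map_pow, h1, map_one]
        · intro x hx
          exact hle ⟨x, hx, rfl⟩ }
  tight := tight
  even := even
  ctr := by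
    rintro _ ⟨x, rfl⟩ hx
    have h1 : x ∈ Subgroup.center ↥(chevF4.group K) := by
      rw [Subgroup.mem_center_iff]
      intro y
      apply hf
      rw [map_mul, map_mul]
      exact mem_centralizer_iff.1 hx (f y) ⟨y, rfl⟩
    rw [center_bot, Subgroup.mem_bot] at h1
    rw [h1, map_one]
  std := std
  simp := by
    intro N hN hNn
    have h2 : (N.comap f).Normal := by
      constructor
      intro x hx y
      show f (y * x * y⁻¹) ∈ N
      rw [map_mul, map_mul, map_inv]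
      exact hNn (f y) ⟨y, rfl⟩ _ hx
    rcases hs.eq_bot_or_eq_top_of_normal (N.comap f) h2 with h | h
    · left
      rw [← comap_map_eq hN, h, Subgroup.map_bot]
    · right
      rw [← comap_map_eq hN, h, ← MonoidHom.range_eq_map]
  XS := map_mono (sup_le X1_le_U X2_le_U)
  SH := map_mono U_le_L
  HK := by
    rintro _ ⟨y, -, rfl⟩
    exact ⟨y, rfl⟩
  HX := by
    rintro _ ⟨y, hy, rfl⟩ _ ⟨x, hx, rfl⟩
    rw [← map_mul, ← map_mul, L_commZ hy hx]
  perf := by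
    rw [← Subgroup.map_commutator]
    exact map_mono (LK_perfect hK).ge
  cen := by
    intro y hy _ hyS
    obtain ⟨z, hz, hcz⟩ := exists_of_aut f hf (S := (UK K : Set ↥(chevF4.group K))) (Z := ZK K)
      (fun α hα => aut_U hα) hy (fun x hx => (hyS _ ⟨x, hx, rfl⟩).symm)
    refine ⟨(f z)⁻¹ * y, ?_, f z, ⟨z, hz, rfl⟩, ?_⟩
    · rw [mem_centralizer_iff]
      rintro _ ⟨x, rfl⟩
      exact (hcz x).symm
    · rw [hcz z]; group
  loc := by
    rintro _ ⟨w, hw, rfl⟩ hw1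
    obtain ⟨H, L⟩ := H_of hK hw (fun h => hw1 (by rw [h, map_one]))
    exact ⟨H.map f, locW_of hf L⟩
  out := by
    intro P hP hPP x hx
    obtain ⟨k, hk, c, hc, e⟩ := Cfsg.Agent.OddHalf.D4.IndOf.schreier f hf (by
      intro H hH α hα
      have h1 : ⁅H, H⁆ = H := le_antisymm (Subgroup.commutator_le_self _) hH
      obtain ⟨y, hy⟩ := hsch H h1 hα
      exact ⟨y, hy.symm⟩) P hP hPP x hx
    rw [e]
    exact mul_mem_sup hk (mem_centralizer_iff.2 fun y hy => (hc y hy).symm)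
  core := core

end Inst

end Cfsg.Agent.OddHalf.D4.InputF4

end

-- merged: Cfsg.Agent.OddHalf.D4.InputF4End
section

/-!
# ODD, D4: LEMMA INPUT for `K = F₄(q)`, `q ≥ 4` even, the end (helper949)

* `inp` : `InputF4.inp` with `F₄(q)` simple and the Schreier property put in;
* **`root_pair`** : a full pair `K`, `L` such that `N(L)` contains a Sylow 2-subgroup of `K` is of root type.
-/

set_option autoImplicit false

namespace Cfsg.Agent.OddHalf.D4.InputF4End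

open Subgroup Cfsg.Lie Cfsg.Agent.OddHalf.D4 Cfsg.Agent.OddHalf.D4.Basic Cfsg.Agent.OddHalf.D4.Input
  Cfsg.Agent.OddHalf.D4.InputW Cfsg.Agent.OddHalf.D7F4.KFront

universe u

variable {F : Type u} [Field F] [Finite F] [CharP F 2] {G : Type*} [Group G] {f : ↥(chevF4.group F) →* G}

theorem inp (hf : Function.Injective f) (hF : 2 < Nat.card F) (tight : TightAt f.range)
    (even : Even (Nat.card ↥(centralizer (f.range : Set G))))
    (std : ∀ g : G, ¬ ∀ k ∈ f.range, ∀ l ∈ CommConj.cj g f.range, k * l = l * k)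
    (core : ∀ Q : Subgroup G, IsSyl Q (centralizer (f.range : Set G)) → ∀ P : Subgroup G,
      P ≤ centralizer (f.range : Set G) → (∀ x ∈ P, ∀ q ∈ Q, x * q = q * x) → P ≤ ⁅P, P⁆ → P = ⊥) :
    InpW f.range ((UK F).map f) ((ZK F).map f) ((LK F).map f) := by
  have hs : IsSimpleGroup ↥(chevF4.group F) := (Cfsg.Agent.S1054.result chevF4 (by simp)).1
  exact InputF4.inp hf hs (Schreier.Chev.sch_f4 F) hF tight even std core

/-- **LEMMA INPUT** for `F₄(q)`, `q ≥ 4` even. -/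
theorem root_pair [Finite G] (hf : Function.Injective f) (hF : 2 < Nat.card F) (tight : TightAt f.range)
    (even : Even (Nat.card ↥(centralizer (f.range : Set G))))
    (std : ∀ g : G, ¬ ∀ k ∈ f.range, ∀ l ∈ CommConj.cj g f.range, k * l = l * k)
    (core : ∀ Q : Subgroup G, IsSyl Q (centralizer (f.range : Set G)) → ∀ P : Subgroup G,
      P ≤ centralizer (f.range : Set G) → (∀ x ∈ P, ∀ q ∈ Q, x * q = q * x) → P ≤ ⁅P, P⁆ → P = ⊥)
    {L Q U : Subgroup G} (hp : FullPair f.range L Q U) {S' : Subgroup G} (hS' : IsSyl S' f.range)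
    (hS'L : S' ≤ normalizer (L : Set G)) :
    ∃ k ∈ f.range, ∃ γ : G, CommConj.cj γ f.range = CommConj.cj k L ∧ CommConj.cj γ Q = CommConj.cj k U ∧
      CommConj.cj γ ((UK F).map f) = (UK F).map f ∧ CommConj.cj γ ((ZK F).map f) = (ZK F).map f ∧
      CommConj.cj γ Q ≤ Q ⊔ (ZK F).map f ∧ Q ≤ CommConj.cj γ (Q ⊔ (ZK F).map f) ∧ ¬ CommConj.cj γ Q ≤ Q ∧
      (LK F).map f ≤ CommConj.cj k L :=
  (inp hf hF tight even std core).root_pair hp hS' hS'L

end Cfsg.Agent.OddHalf.D4.InputF4End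

end

-- merged: Cfsg.Agent.OddHalf.D4F4.Full
section

/-!
# ODD, D4, the row `F₄(q)`, `q ≥ 4` even: end, (F1), and the row from `Free.AFacts`

* `no_full` : no full pair `K`, `L` such that `N(L)` contains a Sylow 2-subgroup of `K`;
* `innSyl` : (F1);
* **`row_f4e`** : `Cut.Row1 F4e` from `Free.AFacts`.
-/

set_option autoImplicit false
set_option linter.unusedSectionVars false

namespace Cfsg.Agent.OddHalf.D4F4

open Cfsg Subgroup Cfsg.Agent.OddHalf.D7F4Ex Cfsg.Agent.OddHalf.D7F4Ex.Loc Cfsg.Agent.OddHalf.DblR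
  Cfsg.Agent.OddHalf.D7F4 Cfsg.Agent.OddHalf.D7F4.Model
open CoxeterSystem Cfsg.Agent.ChevalleyStructure.CoxeterGeom Cfsg.Agent.Tits.Roots Cfsg.Agent.Tits.Core
open Cfsg.Lie Cfsg.Agent.ChevalleyStructure Cfsg.Agent.ChevalleyStructure.Elts
  Cfsg.Agent.ChevalleyStructure.RootVec Cfsg.Agent.ChevalleyStructure.CoxeterGeomTypes
open Cfsg.Agent.Nodes Cfsg.Agent.Nodes.Reps Cfsg.Agent.Nodes.BNOf Cfsg.Agent.Nodes.RGDChev Cfsg.Agent.Nodes.Coroot
  Cfsg.Agent.Nodes.KindF Cfsg.Agent.KFacts.ChevTwo Cfsg.Agent.KFacts.ChevTwoTab Cfsg.Agent.KFacts.ChevTwoInst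
  Cfsg.Agent.KFacts.F4Star Cfsg.Agent.KFacts.F4Cent Cfsg.Agent.KFacts.F4Pair
open Cfsg.Agent.KFacts.F4Model (cF)
open Cfsg.Agent.OddHalf.D7F4.KFront (UK ZK)
open Cfsg.Agent.OddHalf.D4 Cfsg.Agent.OddHalf.D4.Basic
open scoped Pointwise commutatorElement

universe u v

/-! ### (F1) -/

/-- (F1) for a group with a Sylow 2-subgroup `U` such that automorphisms trivial on `U` are conjugations with elements of
`U` -/
theorem innSyl_of {X Y : Type*} [Group X] [Finite X] [Group Y] (e : X ≃* Y) {U : Subgroup Y} (hU : IsPGroup 2 ↥U)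
    (hmax : ∀ D : Subgroup Y, IsPGroup 2 ↥D → U ≤ D → D ≤ U)
    (h : ∀ α : MulAut Y, (∀ u ∈ U, α u = u) → ∃ z ∈ U, ∀ x, α x = z * x * z⁻¹) : KPairG.InnSyl X := by
  have : Fact (Nat.Prime 2) := ⟨Nat.prime_two⟩
  intro S φ _ hφ
  let P : Sylow 2 X :=
    { toSubgroup := U.comap e.toMonoidHom
      isPGroup' := hU.comap_of_injective e.toMonoidHom e.injective
      is_maximal' := by
        intro D hD hle
        apply le_antisymm
        · intro x hx
          have h1 : IsPGroup 2 ↥(D.map e.toMonoidHom) := hD.map _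
          refine hmax _ h1 ?_ (mem_map_of_mem _ hx)
          intro y hy
          exact ⟨e.symm y, hle (by
            show e (e.symm y) ∈ U
            rw [MulEquiv.apply_symm_apply]; exact hy), e.apply_symm_apply y⟩
        · exact hle }
  obtain ⟨x, hx⟩ := MulAction.exists_smul_eq X P S
  have hmem : ∀ s, s ∈ S ↔ e (x⁻¹ * s * x) ∈ U := by
    intro s
    rw [← hx]
    have h1 : s ∈ x • P ↔ x⁻¹ * s * x ∈ (P : Subgroup X) := by
      constructor
      · intro hs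
        have h2 : s ∈ (MulAut.conj x) • (P : Subgroup X) := hs
        rw [Subgroup.mem_pointwise_smul_iff_inv_smul_mem] at h2
        simpa [MulAut.smul_def, mul_assoc] using h2
      · intro hs
        show s ∈ (MulAut.conj x) • (P : Subgroup X)
        rw [Subgroup.mem_pointwise_smul_iff_inv_smul_mem]
        simpa [MulAut.smul_def, mul_assoc] using hs
    rw [h1]; rfl
  let ψ : MulAut X := (MulAut.conj x)⁻¹ * φ * MulAut.conj x
  have hψ : ∀ y, ψ y = x⁻¹ * φ (x * y * x⁻¹) * x := by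
    intro y
    simp [ψ, MulAut.mul_apply, MulAut.conj_apply]
  let α : MulAut Y := (e.symm.trans ψ).trans e
  have hα : ∀ y, α y = e (ψ (e.symm y)) := fun y => rfl
  obtain ⟨z, hz, hz'⟩ := h α (by
    intro u hu
    rw [hα, hψ]
    have h1 : x * e.symm u * x⁻¹ ∈ S := by
      rw [hmem]
      have : x⁻¹ * (x * e.symm u * x⁻¹) * x = e.symm u := by group
      rw [this, MulEquiv.apply_symm_apply]; exact hu
    rw [hφ _ h1]
    have : x⁻¹ * (x * e.symm u * x⁻¹) * x = e.symm u := by group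
    rw [this, MulEquiv.apply_symm_apply])
  refine ⟨x * e.symm z * x⁻¹, ?_, ?_⟩
  · rw [hmem]
    have : x⁻¹ * (x * e.symm z * x⁻¹) * x = e.symm z := by group
    rw [this, MulEquiv.apply_symm_apply]; exact hz
  · ext w
    have h1 := hz' (e (x⁻¹ * w * x))
    rw [hα, MulEquiv.symm_apply_apply, hψ] at h1
    have h2 : x * (x⁻¹ * w * x) * x⁻¹ = w := by group
    rw [h2] at h1
    have h3 : x⁻¹ * φ w * x = e.symm z * (x⁻¹ * w * x) * (e.symm z)⁻¹ := by
      apply e.injective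
      have h4 : e (e.symm z * (x⁻¹ * w * x) * (e.symm z)⁻¹) = z * e (x⁻¹ * w * x) * z⁻¹ := by
        rw [map_mul e (e.symm z * (x⁻¹ * w * x)), map_mul e (e.symm z), map_inv, MulEquiv.apply_symm_apply]
      rw [h1, h4]
    rw [MulAut.conj_apply]
    calc φ w = x * (x⁻¹ * φ w * x) * x⁻¹ := by group
      _ = _ := by rw [h3]; group

section

variable {F : Type u} [Field F] [Finite F] [CharP F 2]

theorem innSyl (hq : 2 < Nat.card F) {X : Type*} [Group X] [Finite X] (e : X ≃* ↥(chevF4.group F)) :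
    KPairG.InnSyl X := by
  have hs : IsSimpleGroup ↥(chevF4.group F) := (Cfsg.Agent.S1054.result chevF4 (by simp)).1
  refine innSyl_of e (U := UK F) (KFront.kf0 hq).pU (fun D hD hle => (KFront.kf0 hq).maxU D hD hle) ?_
  intro α hα
  obtain ⟨z, hz, h⟩ := InputF4.aut_U hα
  exact ⟨z, (sup_le KFront.X1_le_U KFront.X2_le_U : ZK F ≤ UK F) hz, h⟩

/-! ### The end -/

variable {G : Type v} [Group G] {f : ↥(chevF4.group F) →* G}

theorem SE_eq {f : ↥(chevF4.group F) →* G} : SE (fun a u => f (eF F a u)) = (UK F).map f := by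
  apply le_antisymm
  · refine SupE_le fun c hc u => ?_
    refine mem_map_of_mem f (RGD.le_Sup (X := XF F) (S := RGD.Pos cF isType.isCartan) ⟨root_iff.2 hc.1, hc.2⟩
      ((mem_XF_iff cF (root_iff.2 hc.1)).2 ⟨u, rfl⟩))
  · rw [map_le_iff_le_comap]
    refine RGD.Sup_le fun c hc x hx => ?_
    obtain ⟨u, rfl⟩ := (mem_XF_iff cF hc.1).1 hx
    exact mem_SupE (E := fun a u => f (eF F a u)) (S := {c | c ∈ rts ∧ ∀ i, 0 ≤ c i}) ⟨root_iff.1 hc.1, hc.2⟩ u

theorem v44 : v 44 = s0 := by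
  rw [KBridge.vv_eq]; decide +kernel

theorem v47 : v 47 = r0 := by
  rw [KBridge.vv_eq]; decide +kernel

theorem XE_eq (hq : ∃ μ : Fˣ, μ ≠ 1) (hf : Function.Injective f) :
    XE (fun a u => f (eF F a u)) = (ZK F).map f := by
  have S := setup_id hq hf
  show Xs _ ⊔ Xs _ = (XF F (v 47) ⊔ XF F (v 44)).map f
  rw [Subgroup.map_sup, v44, v47, sup_comm]
  exact congrArg₂ _ (S.map_X r0_mem).symm (S.map_X s0_mem).symm

variable [Finite G]

theorem std1 {K : Subgroup G} (hD : StartQ.DataQ K) : Std1 K := by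
  refine ⟨?_, ?_, ?_⟩
  · intro t ht htt ht1 g hg k hk
    have h1 := hD.tight.mem ht (Input.orderOf_eq_two' htt ht1) hg
    exact (mem_normalizer_iff.mp h1 k).mp hk
  · intro t ht htt ht1 g hg
    exact CommConj.cj_eq_of_mem_normalizer (hD.tight.tight g t ht (Input.orderOf_eq_two' htt ht1) hg)
  · intro k hk hx
    exact hD.cen k hk (mem_centralizer_iff.2 fun x hx' => (hx x hx').symm)

theorem hC1 {K : Subgroup G} (hD : StartQ.DataQ K) {E : Subgroup G} (hE : IsSyl E (centralizer (K : Set G))) :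
    ∀ P : Subgroup G, P ≤ DblR.C1 K E → P ≤ ⁅P, P⁆ → P = ⊥ := by
  intro P hP hPP
  refine hD.core E hE P ?_ ?_ hPP
  · intro x hx
    exact mem_centralizer_iff.2 fun k hk => ((DblR.mem_C1.1 (hP hx)).1 k hk).symm
  · intro x hx q hq
    exact (DblR.mem_C1.1 (hP hx)).2 q hq

/-- **No full pair `K`, `L` such that `N(L)` contains a Sylow 2-subgroup of `K`.** -/
theorem no_full (hq : 2 < Nat.card F) (hf : Function.Injective f) (hD : StartQ.DataQ f.range)
    {L Q U : Subgroup G} (hp : FullPair f.range L Q U) {S' : Subgroup G} (hS' : IsSyl S' f.range)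
    (hS'L : S' ≤ normalizer (L : Set G)) : False := by
  have hs : IsSimpleGroup ↥(chevF4.group F) := (Cfsg.Agent.S1054.result chevF4 (by simp)).1
  have hμ : ∃ μ : Fˣ, μ ≠ 1 := by
    by_contra hcon
    push Not at hcon
    have h1 : ∀ x : F, x = 0 ∨ x = 1 := by
      intro x
      by_cases hx : x = 0
      · exact Or.inl hx
      · right
        have := congrArg Units.val (hcon (Units.mk0 x hx))
        simpa using this
    have h2 : (Set.univ : Set F) ⊆ {0, 1} := fun x _ => h1 x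
    have h3 := (Set.ncard_le_ncard h2).trans (Set.ncard_insert_le _ _)
    rw [Set.ncard_univ, Set.ncard_singleton] at h3
    omega
  obtain ⟨k, hk, γ, -, -, hS, hX, h1, -, h3, -⟩ := InputF4End.root_pair hf hq hD.tight hD.even hD.std hD.core hp hS' hS'L
  obtain ⟨t, t', ht, ht1, ht', ht1', hne⟩ := Input.exists_two_elts hD.nrk hp.sylQ
  rw [← SE_eq] at hS
  rw [← XE_eq hμ hf] at hX h1
  exact mixed (setup_id hμ hf) (std1 hD) hp.sylQ.le hp.sylQ.two (fun D h1 h2 h3 => hp.sylQ.max D h3 h1 h2)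
    (hC1 hD hp.sylQ) ht ht1 ht' ht1' hne hS hX h1 h3

end

/-- the embedding with image `K` -/
theorem exists_emb {G : Type*} [Group G] {K : Subgroup G} {Y : Type*} [Group Y] (e : ↥K ≃* Y) :
    ∃ f : Y →* G, Function.Injective f ∧ f.range = K := by
  refine ⟨K.subtype.comp e.symm.toMonoidHom, K.subtype_injective.comp e.symm.injective, ?_⟩
  rw [MonoidHom.range_comp, MonoidHom.range_eq_top.2 e.symm.surjective, ← MonoidHom.range_eq_map]
  exact K.range_subtype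

theorem field_of {F : Type*} [Field F] [Fintype F] {a : ℕ} (ha : 2 ≤ a) (hc : Fintype.card F = 2 ^ a) :
    CharP F 2 ∧ 2 < Nat.card F := by
  have : Fact (Nat.Prime 2) := ⟨Nat.prime_two⟩
  refine ⟨charP_of_card_eq_prime_pow hc, ?_⟩
  rw [Nat.card_eq_fintype_card, hc]
  calc 2 < 2 ^ 2 := by norm_num
    _ ≤ 2 ^ a := Nat.pow_le_pow_right (by norm_num) ha

/-- **The row `F₄(q)`, `q ≥ 4` even**, from `Free.BFacts`. -/
theorem row_f4e (h1173 : Start.P1173.{v}) (hFT : StartQ.FTT.{v})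
    (hB : ∀ (F : Type) [Field F] [Fintype F] [CharP F 2], 2 < Nat.card F → ∀ (G : Type v) [Group G] [Finite G]
      (K : Subgroup G), ↥K ≃* ↥(chevF4.group F) → Free.BFacts K) :
    Cut.Row1.{v} (fun K _ => Cut.F4e K) := by
  refine StartQ.row_of_free' h1173 hFT ?_ ?_ ?_
  · rintro X _ _ _ ⟨F, _, _, a, ha, hc, ⟨e⟩⟩
    obtain ⟨h1, h2⟩ := field_of ha hc
    exact innSyl h2 e
  · rintro G _ hG K hK hD ⟨F, _, _, a, ha, hc, ⟨e⟩⟩
    have := hG.fin
    obtain ⟨h1, h2⟩ := field_of ha hc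
    obtain ⟨f, hf, rfl⟩ := exists_emb e
    intro L Q U hp S' hS' hS'L
    exact no_full h2 hf hD hp hS' hS'L
  · rintro G _ hG K hK hD ⟨F, _, _, a, ha, hc, ⟨e⟩⟩ g
    have := hG.fin
    obtain ⟨h1, h2⟩ := field_of ha hc
    exact hB F h2 G (CommConj.cj g K)
      ((K.equivMapOfInjective (MulAut.conj g).toMonoidHom (MulAut.conj g).injective).symm.trans e)

/-- **The row `F₄(q)`, `q ≥ 4` even**, from `Free.AFacts`. -/
theorem row_f4e' (h1173 : Start.P1173.{v}) (hFT : StartQ.FTT.{v})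
    (hA : ∀ (F : Type) [Field F] [Fintype F] [CharP F 2], 2 < Nat.card F →
      ∃ T : Sylow 2 ↥(chevF4.group F), Free.AFacts T) :
    Cut.Row1.{v} (fun K _ => Cut.F4e K) :=
  row_f4e h1173 hFT fun F _ _ _ hq _ _ _ _ e => by
    obtain ⟨T, hT⟩ := hA F hq
    exact hT.bfacts e.symm

end Cfsg.Agent.OddHalf.D4F4

end
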