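import Cfsg.Agent.OddHalf.D7F4Ex.Exist
import Cfsg.Agent.OddHalf.DblR.Exist
import Cfsg.Agent.OddHalf.DblR.Fam
import Cfsg.Agent.OddHalf.D4F4.Roots
import Cfsg.Agent.OddHalf.DblR.Res
import Cfsg.Agent.KFacts.F4AutPair
import Cfsg.Agent.KFacts.F4Chart
import Cfsg.Agent.KFacts.RgdAutChev
import Cfsg.Agent.OddHalf.D7F4.KBridge
import Cfsg.Agent.OddHalf.DblR.Row

-- merged: Cfsg.Agent.OddHalf.D4F4.RChain
section

/-!
# ODD, D4, `F₄(q)`: the chain `X ≤ V ≤ Q ≤ P` for a group `R` instead of one involution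

`R` an elementary abelian 2-group centralised by `K ≥ P`, the rest as in `D7F4Ex.Chain`.

* `RChain` : the hypotheses;
* `RChain.exists_move` : if some `g` normalising `P`, `Q`, `X` and `R X` moves `R` then an element of `D` moves `R`;
* **`RChain.exists_b`** : then some `b` centralises `Q` and `A`, with `[b, P] ≤ V`, `[b, R] ≤ X`, `[b, R] ≠ 1`.
-/

set_option autoImplicit false
set_option linter.style.haveILetI false

namespace Cfsg.Agent.OddHalf.D4F4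

open Subgroup Cfsg.Agent.OddHalf.D7F4Ex
open scoped commutatorElement

variable {G : Type*} [Group G]

/-- The local hypotheses. -/
structure RChain (R X V Q P H : Subgroup G) : Prop where
  Rsq : ∀ t ∈ R, t * t = 1
  X2 : ∀ x ∈ X, x * x = 1
  XV : X ≤ V
  VQ : V ≤ Q
  QP : Q ≤ P
  V2 : ∀ v ∈ V, v * v = 1
  Q2 : ∀ q ∈ Q, q * q ∈ V
  RP : ∀ t ∈ R, ∀ p ∈ P, t * p = p * t
  XP : ∀ x ∈ X, ∀ p ∈ P, x * p = p * x
  VQc : ∀ v ∈ V, ∀ q ∈ Q, v * q = q * v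
  PQ : ∀ p ∈ P, ∀ q ∈ Q, p * q * p⁻¹ ∈ Q
  PV : ∀ p ∈ P, ∀ v ∈ V, p * v * p⁻¹ ∈ V
  RH : ∀ t ∈ R, ∀ h ∈ H, t * h = h * t
  HX : ∀ h ∈ H, ∀ x ∈ X, h * x * h⁻¹ ∈ X
  /-- an element normalising `X` with `[n, R] ≤ X` normalises `P`, `Q`, `V` -/
  nP : ∀ n : G, (∀ x ∈ X, n * x * n⁻¹ ∈ X) → (∀ t ∈ R, t * (n * t * n⁻¹) ∈ X) →
    (∀ p ∈ P, n * p * n⁻¹ ∈ P) ∧ (∀ q ∈ Q, n * q * n⁻¹ ∈ Q) ∧ (∀ v ∈ V, n * v * n⁻¹ ∈ V)
  XQQ : X ≤ ⁅Q, Q⁆
  QQ : ∀ v ∈ Q, ∀ w ∈ Q, v * w * v⁻¹ * w⁻¹ ∈ X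
  ZQ : ∀ q ∈ Q, (∀ v ∈ Q, q * v = v * q) → q ∈ V
  /-- `P` is irreducible on `Q / V` and on `V / X` -/
  irrQ : ∀ R : Subgroup G, V ≤ R → R ≤ Q → (∀ p ∈ P, ∀ r ∈ R, p * r * p⁻¹ ∈ R) → R = V ∨ R = Q
  irrV : ∀ R : Subgroup G, X ≤ R → R ≤ V → (∀ p ∈ P, ∀ r ∈ R, p * r * p⁻¹ ∈ R) → R = X ∨ R = V
  neQ : ∃ q ∈ Q, q ∉ V
  neV : ∃ v ∈ V, v ∉ X
  /-- `Hom_P(Q/V, V/X) = 0` (for actions of elements of `G`) -/
  hQ : ∀ d : G, (∀ p ∈ P, d * p * d⁻¹ * p⁻¹ ∈ Q) → (∀ q ∈ Q, d * q * d⁻¹ * q⁻¹ ∈ V) →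
    (∀ v ∈ V, d * v * d⁻¹ * v⁻¹ ∈ X) → ∃ q ∈ Q, q ∉ V ∧ d * q * d⁻¹ * q⁻¹ ∈ X
  /-- `Hom_P(V/X, X) = 0` -/
  hV : ∀ d : G, (∀ p ∈ P, d * p * d⁻¹ * p⁻¹ ∈ Q) → (∀ v ∈ V, d * v * d⁻¹ * v⁻¹ ∈ X) →
    (∀ x ∈ X, d * x = x * d) → ∃ v ∈ V, v ∉ X ∧ d * v = v * d
  /-- `H^0(P, Hom(Q/V, X) / Inn Q) = 0` -/
  E2 : ∀ f : G → G, (∀ v ∈ Q, f v ∈ X) → (∀ v ∈ Q, ∀ w ∈ Q, f (v * w) = f v * f w) → (∀ x ∈ V, f x = 1) →
    (∀ p ∈ P, ∃ q ∈ Q, ∀ v ∈ Q, f (p * v * p⁻¹) = f v * (q * v * q⁻¹ * v⁻¹)) →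
    ∃ q ∈ Q, ∀ v ∈ Q, f v = q * v * q⁻¹ * v⁻¹

namespace RChain

variable {R X V Q P H : Subgroup G}

theorem t_inv (S : RChain R X V Q P H) {t : G} (ht : t ∈ R) : t⁻¹ = t := inv_eq_of_mul_eq_one_left (S.Rsq t ht)

theorem XQ (S : RChain R X V Q P H) : X ≤ Q := S.XV.trans S.VQ

theorem tx (S : RChain R X V Q P H) {t x : G} (ht : t ∈ R) (hx : x ∈ X) : t * x = x * t := S.RP t ht x (S.QP (S.XQ hx))

theorem inv_X (S : RChain R X V Q P H) {x : G} (hx : x ∈ X) : x⁻¹ = x := inv_eq_of_mul_eq_one_left (S.X2 x hx)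

/-- The elements `n` normalising `X` with `[n, R] ≤ X`. -/
def N (S : RChain R X V Q P H) : Subgroup G where
  carrier := {n | (∀ x ∈ X, n * x * n⁻¹ ∈ X) ∧ (∀ x ∈ X, n⁻¹ * x * n ∈ X) ∧ ∀ t ∈ R, t * (n * t * n⁻¹) ∈ X}
  one_mem' := ⟨fun x hx => by simpa using hx, fun x hx => by simpa using hx, fun t ht => by
    rw [one_mul, inv_one, mul_one, S.Rsq t ht]; exact one_mem _⟩
  mul_mem' := by
    rintro a b ⟨ha1, ha2, ha3⟩ ⟨hb1, hb2, hb3⟩
    refine ⟨fun x hx => ?_, fun x hx => ?_, fun t ht => ?_⟩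
    · have := ha1 _ (hb1 x hx)
      have e : a * b * x * (a * b)⁻¹ = a * (b * x * b⁻¹) * a⁻¹ := by group
      rwa [e]
    · have := hb2 _ (ha2 x hx)
      have e : (a * b)⁻¹ * x * (a * b) = b⁻¹ * (a⁻¹ * x * a) * b := by group
      rwa [e]
    · have h1 := mul_mem (ha3 t ht) (ha1 _ (hb3 t ht))
      have e : t * (a * b * t * (a * b)⁻¹) = t * (a * t * a⁻¹) * (a * (t * (b * t * b⁻¹)) * a⁻¹) := by
        calc t * (a * b * t * (a * b)⁻¹) = t * a * 1 * b * t * b⁻¹ * a⁻¹ := by group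
          _ = t * a * (t * t) * b * t * b⁻¹ * a⁻¹ := by rw [S.Rsq t ht]
          _ = _ := by group
      rwa [e]
  inv_mem' := by
    rintro a ⟨ha1, ha2, ha3⟩
    refine ⟨fun x hx => by simpa using ha2 x hx, fun x hx => by simpa using ha1 x hx, fun t ht => ?_⟩
    have h1 := inv_mem (ha2 _ (ha3 t ht))
    have e : t * (a⁻¹ * t * a⁻¹⁻¹) = (a⁻¹ * (t * (a * t * a⁻¹)) * a)⁻¹ := by
      calc t * (a⁻¹ * t * a⁻¹⁻¹) = t⁻¹ * (a⁻¹ * t⁻¹ * a) := by rw [S.t_inv ht, inv_inv]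
        _ = _ := by group
    rwa [e]

theorem mem_N (S : RChain R X V Q P H) {n : G} :
    n ∈ S.N ↔ (∀ x ∈ X, n * x * n⁻¹ ∈ X) ∧ (∀ x ∈ X, n⁻¹ * x * n ∈ X) ∧ ∀ t ∈ R, t * (n * t * n⁻¹) ∈ X := Iff.rfl

theorem N_P (S : RChain R X V Q P H) {n : G} (hn : n ∈ S.N) {p : G} (hp : p ∈ P) : n * p * n⁻¹ ∈ P :=
  (S.nP n hn.1 hn.2.2).1 p hp

theorem N_Q (S : RChain R X V Q P H) {n : G} (hn : n ∈ S.N) {q : G} (hq : q ∈ Q) : n * q * n⁻¹ ∈ Q :=
  (S.nP n hn.1 hn.2.2).2.1 q hq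

theorem N_V (S : RChain R X V Q P H) {n : G} (hn : n ∈ S.N) {q : G} (hq : q ∈ V) : n * q * n⁻¹ ∈ V :=
  (S.nP n hn.1 hn.2.2).2.2 q hq

/-- The elements of `N` trivial on `P/Q`. -/
def C4 (S : RChain R X V Q P H) : Subgroup G where
  carrier := {n | n ∈ S.N ∧ ∀ p ∈ P, n * p * n⁻¹ * p⁻¹ ∈ Q}
  one_mem' := ⟨one_mem _, fun p _ => by
    rw [one_mul, inv_one, mul_one, mul_inv_cancel]; exact one_mem _⟩
  mul_mem' := by
    rintro a b ⟨ha, ha2⟩ ⟨hb, hb2⟩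
    refine ⟨mul_mem ha hb, fun p hp => ?_⟩
    have h1 := mul_mem (S.N_Q ha (hb2 p hp)) (ha2 p hp)
    have e : a * b * p * (a * b)⁻¹ * p⁻¹ = a * (b * p * b⁻¹ * p⁻¹) * a⁻¹ * (a * p * a⁻¹ * p⁻¹) := by group
    rwa [e]
  inv_mem' := by
    rintro a ⟨ha, ha2⟩
    refine ⟨inv_mem ha, fun p hp => ?_⟩
    have h1 := inv_mem (S.N_Q (inv_mem ha) (ha2 p hp))
    have e : a⁻¹ * p * a⁻¹⁻¹ * p⁻¹ = (a⁻¹ * (a * p * a⁻¹ * p⁻¹) * a⁻¹⁻¹)⁻¹ := by group
    rwa [e]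

theorem C4_le (S : RChain R X V Q P H) : S.C4 ≤ S.N := fun _ h => h.1

/-- `C4` is normal in `N`. -/
theorem conj_C4 (S : RChain R X V Q P H) {n c : G} (hn : n ∈ S.N) (hc : c ∈ S.C4) : n * c * n⁻¹ ∈ S.C4 := by
  refine ⟨mul_mem (mul_mem hn hc.1) (inv_mem hn), fun p hp => ?_⟩
  have h1 := S.N_Q hn (hc.2 _ (S.N_P (inv_mem hn) hp))
  have e : n * c * n⁻¹ * p * (n * c * n⁻¹)⁻¹ * p⁻¹ =
    n * (c * (n⁻¹ * p * n⁻¹⁻¹) * c⁻¹ * (n⁻¹ * p * n⁻¹⁻¹)⁻¹) * n⁻¹ := by group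
  rwa [e]

/-- The elements of `N` trivial on `P/Q`, `Q/V` and on `V/X`. -/
def D (S : RChain R X V Q P H) : Subgroup G where
  carrier := {n | n ∈ S.C4 ∧ (∀ q ∈ Q, n * q * n⁻¹ * q⁻¹ ∈ V) ∧ ∀ v ∈ V, n * v * n⁻¹ * v⁻¹ ∈ X}
  one_mem' := ⟨one_mem _, fun p _ => by
    rw [one_mul, inv_one, mul_one, mul_inv_cancel]; exact one_mem _, fun p _ => by
    rw [one_mul, inv_one, mul_one, mul_inv_cancel]; exact one_mem _⟩
  mul_mem' := by
    rintro a b ⟨ha, ha2, ha3⟩ ⟨hb, hb2, hb3⟩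
    refine ⟨mul_mem ha hb, fun p hp => ?_, fun p hp => ?_⟩
    · have h1 := mul_mem (S.N_V ha.1 (hb2 p hp)) (ha2 p hp)
      have e : a * b * p * (a * b)⁻¹ * p⁻¹ = a * (b * p * b⁻¹ * p⁻¹) * a⁻¹ * (a * p * a⁻¹ * p⁻¹) := by group
      rwa [e]
    · have h1 := mul_mem (ha.1.1 _ (hb3 p hp)) (ha3 p hp)
      have e : a * b * p * (a * b)⁻¹ * p⁻¹ = a * (b * p * b⁻¹ * p⁻¹) * a⁻¹ * (a * p * a⁻¹ * p⁻¹) := by group
      rwa [e]
  inv_mem' := by
    rintro a ⟨ha, ha2, ha3⟩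
    refine ⟨inv_mem ha, fun p hp => ?_, fun p hp => ?_⟩
    · have h1 := inv_mem (S.N_V (inv_mem ha.1) (ha2 p hp))
      have e : a⁻¹ * p * a⁻¹⁻¹ * p⁻¹ = (a⁻¹ * (a * p * a⁻¹ * p⁻¹) * a⁻¹⁻¹)⁻¹ := by group
      rwa [e]
    · have h1 := inv_mem (ha.1.2.1 _ (ha3 p hp))
      have e : a⁻¹ * p * a⁻¹⁻¹ * p⁻¹ = (a⁻¹ * (a * p * a⁻¹ * p⁻¹) * a)⁻¹ := by group
      rwa [e]

theorem D_le (S : RChain R X V Q P H) : S.D ≤ S.C4 := fun _ h => h.1

theorem conj_D (S : RChain R X V Q P H) {n c : G} (hn : n ∈ S.N) (hc : c ∈ S.D) : n * c * n⁻¹ ∈ S.D := by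
  refine ⟨S.conj_C4 hn hc.1, fun q hq => ?_, fun q hq => ?_⟩
  · have h1 := S.N_V hn (hc.2.1 _ (S.N_Q (inv_mem hn) hq))
    have e : n * c * n⁻¹ * q * (n * c * n⁻¹)⁻¹ * q⁻¹ =
      n * (c * (n⁻¹ * q * n⁻¹⁻¹) * c⁻¹ * (n⁻¹ * q * n⁻¹⁻¹)⁻¹) * n⁻¹ := by group
    rwa [e]
  · have h1 := hn.1 _ (hc.2.2 _ (S.N_V (inv_mem hn) hq))
    have e : n * c * n⁻¹ * q * (n * c * n⁻¹)⁻¹ * q⁻¹ =
      n * (c * (n⁻¹ * q * n⁻¹⁻¹) * c⁻¹ * (n⁻¹ * q * n⁻¹⁻¹)⁻¹) * n⁻¹ := by group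
    rwa [e]

theorem QV (S : RChain R X V Q P H) {a b : G} (ha : a ∈ Q) (hb : b ∈ Q) : a * b * a⁻¹ * b⁻¹ ∈ V :=
  S.XV (S.QQ a ha b hb)

/-- The conjugate of a commutator by an element which is trivial on `P/Q`. -/
theorem comm_conj {d p q q1 r : G} (h1 : d * p * d⁻¹ * p⁻¹ = q1) (h2 : d * q * d⁻¹ * q⁻¹ = r) :
    d * (p * q * p⁻¹) * d⁻¹ * (p * q * p⁻¹)⁻¹ =
      q1 * (p * r * p⁻¹) * q1⁻¹ * (q1 * (p * q * p⁻¹) * q1⁻¹ * (p * q * p⁻¹)⁻¹) := by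
  have e1 : d * p = q1 * p * d := by rw [← h1]; group
  have e2 : d * q = r * q * d := by rw [← h2]; group
  calc d * (p * q * p⁻¹) * d⁻¹ * (p * q * p⁻¹)⁻¹ = (d * p) * q * (d * p)⁻¹ * (p * q * p⁻¹)⁻¹ := by group
    _ = q1 * p * (d * q) * d⁻¹ * p⁻¹ * q1⁻¹ * (p * q * p⁻¹)⁻¹ := by rw [e1]; group
    _ = _ := by rw [e2]; group

/-- A 2-element of `C4` lies in `D`. -/
theorem mem_D_of_two (S : RChain R X V Q P H) {n : G} (hn : n ∈ S.C4) {k : ℕ} (h2 : n ^ 2 ^ k = 1) : n ∈ S.D := by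
  have hnN := hn.1
  refine ⟨hn, ?_, ?_⟩
  · -- the fixed points on `Q / V`
    let R0 : Subgroup G :=
      { carrier := {q | q ∈ Q ∧ n * q * n⁻¹ * q⁻¹ ∈ V}
        one_mem' := ⟨one_mem _, by rw [mul_one, mul_inv_cancel, inv_one, mul_one]; exact one_mem _⟩
        mul_mem' := by
          rintro a b ⟨ha, ha2⟩ ⟨hb, hb2⟩
          refine ⟨mul_mem ha hb, ?_⟩
          have h3 := S.VQc _ hb2 a⁻¹ (inv_mem ha)
          have e : n * (a * b) * n⁻¹ * (a * b)⁻¹ = (n * a * n⁻¹) * ((n * b * n⁻¹ * b⁻¹) * a⁻¹) := by group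
          rw [e, h3]
          have h4 := mul_mem ha2 hb2
          have e2 : n * a * n⁻¹ * (a⁻¹ * (n * b * n⁻¹ * b⁻¹)) = n * a * n⁻¹ * a⁻¹ * (n * b * n⁻¹ * b⁻¹) := by group
          rwa [e2]
        inv_mem' := by
          rintro a ⟨ha, ha2⟩
          refine ⟨inv_mem ha, ?_⟩
          have h3 := inv_mem ha2
          have h4 := S.VQc _ h3 a ha
          have e : n * a⁻¹ * n⁻¹ * a⁻¹⁻¹ = a⁻¹ * ((n * a * n⁻¹ * a⁻¹)⁻¹ * a) := by group
          rw [e, h4]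
          have e2 : a⁻¹ * (a * (n * a * n⁻¹ * a⁻¹)⁻¹) = (n * a * n⁻¹ * a⁻¹)⁻¹ := by group
          rwa [e2] }
    have hR : R0 = V ∨ R0 = Q := by
      refine S.irrQ R0 (fun v hv => ⟨S.VQ hv, mul_mem (S.N_V hnN hv) (inv_mem hv)⟩) (fun _ h => h.1) ?_
      rintro p hp q ⟨hq, hq2⟩
      refine ⟨S.PQ p hp q hq, ?_⟩
      rw [comm_conj rfl rfl]
      refine mul_mem ?_ (S.QV (hn.2 p hp) (S.PQ p hp q hq))
      have h3 := S.PV p hp _ hq2
      rw [← S.VQc _ h3 _ (hn.2 p hp), mul_inv_cancel_right]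
      exact h3
    obtain ⟨q0, hq0, hq0V⟩ := S.neQ
    obtain ⟨c, hc, hcV, hcn⟩ := exists_fixed_two S.VQ S.Q2 (fun a ha b hb => S.QV ha hb) k n h2
      (fun a ha => S.N_Q hnN ha) (fun a ha => S.N_V hnN ha) q0 hq0 hq0V
    rcases hR with h | h
    · exfalso; apply hcV
      rw [← h]; exact ⟨hc, hcn⟩
    · intro q hq
      rw [← h] at hq
      exact hq.2
  · let R0 : Subgroup G :=
      { carrier := {q | q ∈ V ∧ n * q * n⁻¹ * q⁻¹ ∈ X}
        one_mem' := ⟨one_mem _, by rw [mul_one, mul_inv_cancel, inv_one, mul_one]; exact one_mem _⟩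
        mul_mem' := by
          rintro a b ⟨ha, ha2⟩ ⟨hb, hb2⟩
          refine ⟨mul_mem ha hb, ?_⟩
          have h3 := S.XP _ hb2 a⁻¹ (S.QP (S.VQ (inv_mem ha)))
          have e : n * (a * b) * n⁻¹ * (a * b)⁻¹ = (n * a * n⁻¹) * ((n * b * n⁻¹ * b⁻¹) * a⁻¹) := by group
          rw [e, h3]
          have h4 := mul_mem ha2 hb2
          have e2 : n * a * n⁻¹ * (a⁻¹ * (n * b * n⁻¹ * b⁻¹)) = n * a * n⁻¹ * a⁻¹ * (n * b * n⁻¹ * b⁻¹) := by group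
          rwa [e2]
        inv_mem' := by
          rintro a ⟨ha, ha2⟩
          refine ⟨inv_mem ha, ?_⟩
          have h3 := inv_mem ha2
          have h4 := S.XP _ h3 a (S.QP (S.VQ ha))
          have e : n * a⁻¹ * n⁻¹ * a⁻¹⁻¹ = a⁻¹ * ((n * a * n⁻¹ * a⁻¹)⁻¹ * a) := by group
          rw [e, h4]
          have e2 : a⁻¹ * (a * (n * a * n⁻¹ * a⁻¹)⁻¹) = (n * a * n⁻¹ * a⁻¹)⁻¹ := by group
          rwa [e2] }
    have hR : R0 = X ∨ R0 = V := by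
      refine S.irrV R0 (fun v hv => ⟨S.XV hv, mul_mem (hnN.1 v hv) (inv_mem hv)⟩) (fun _ h => h.1) ?_
      rintro p hp q ⟨hq, hq2⟩
      refine ⟨S.PV p hp q hq, ?_⟩
      rw [comm_conj rfl rfl]
      refine mul_mem ?_ ?_
      · have h3 : p * (n * q * n⁻¹ * q⁻¹) * p⁻¹ = n * q * n⁻¹ * q⁻¹ := by
          rw [← S.XP _ hq2 p hp, mul_inv_cancel_right]
        rw [h3, ← S.XP _ hq2 _ (S.QP (hn.2 p hp)), mul_inv_cancel_right]
        exact hq2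
      · rw [← S.VQc _ (S.PV p hp q hq) _ (hn.2 p hp)]
        have : p * q * p⁻¹ * (n * p * n⁻¹ * p⁻¹) * (n * p * n⁻¹ * p⁻¹)⁻¹ * (p * q * p⁻¹)⁻¹ = 1 := by group
        rw [this]; exact one_mem _
    obtain ⟨q0, hq0, hq0V⟩ := S.neV
    obtain ⟨c, hc, hcV, hcn⟩ := exists_fixed_two S.XV (fun v hv => by rw [S.V2 v hv]; exact one_mem _)
      (fun a ha b hb => by
        rw [S.VQc a ha b (S.VQ hb)]
        have : b * a * a⁻¹ * b⁻¹ = 1 := by group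
        rw [this]; exact one_mem _) k n h2
      (fun a ha => S.N_V hnN ha) (fun a ha => hnN.1 a ha) q0 hq0 hq0V
    rcases hR with h | h
    · exfalso; apply hcV
      rw [← h]; exact ⟨hc, hcn⟩
    · intro q hq
      rw [← h] at hq
      exact hq.2

/-- `D` centralises `X`. -/
theorem D_X (S : RChain R X V Q P H) {n : G} (hn : n ∈ S.D) {x : G} (hx : x ∈ X) : n * x = x * n := by
  have hle : ⁅Q, Q⁆ ≤ centralizer ({n} : Set G) := by
    rw [commutator_le]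
    intro a ha b hb
    rw [mem_centralizer_singleton_iff]
    have ha' := hn.2.1 a ha
    have hb' := hn.2.1 b hb
    set x := n * a * n⁻¹ * a⁻¹ with hx
    set y := n * b * n⁻¹ * b⁻¹ with hy
    have ea : n * a * n⁻¹ = x * a := by rw [hx]; group
    have eb : n * b * n⁻¹ = y * b := by rw [hy]; group
    have c1 : ∀ q ∈ Q, x * q = q * x := fun q hq => S.VQc x ha' q hq
    have c2 : ∀ q ∈ Q, y * q = q * y := fun q hq => S.VQc y hb' q hq
    have e : n * ⁅a, b⁆ * n⁻¹ = ⁅a, b⁆ := by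
      have e1 : n * ⁅a, b⁆ * n⁻¹ = (n * a * n⁻¹) * (n * b * n⁻¹) * (n * a * n⁻¹)⁻¹ * (n * b * n⁻¹)⁻¹ := by
        rw [commutatorElement_def]; group
      rw [e1, ea, eb, commutatorElement_def]
      calc x * a * (y * b) * (x * a)⁻¹ * (y * b)⁻¹
          = x * (a * (y * b)) * (a⁻¹ * x⁻¹) * (b⁻¹ * y⁻¹) := by group
        _ = x * (a * (y * b) * a⁻¹) * x⁻¹ * (b⁻¹ * y⁻¹) := by group
        _ = (a * (y * b) * a⁻¹) * x * x⁻¹ * (b⁻¹ * y⁻¹) := by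
          rw [c1 (a * (y * b) * a⁻¹) (mul_mem (mul_mem ha (mul_mem (S.VQ hb') hb)) (inv_mem ha))]
        _ = a * y * (b * a⁻¹ * b⁻¹) * y⁻¹ := by group
        _ = y * (a * (b * a⁻¹ * b⁻¹)) * y⁻¹ := by rw [← c2 a ha]; group
        _ = a * (b * a⁻¹ * b⁻¹) := by
          rw [c2 _ (mul_mem ha (mul_mem (mul_mem hb (inv_mem ha)) (inv_mem hb)))]; group
        _ = a * b * a⁻¹ * b⁻¹ := by group
    calc ⁅a, b⁆ * n = n * ⁅a, b⁆ * n⁻¹ * n := by rw [e]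
      _ = n * ⁅a, b⁆ := by group
  exact (mem_centralizer_singleton_iff.1 (hle (S.XQQ hx))).symm

/-- `D` acts trivially on `Q / X`. -/
theorem D_Q (S : RChain R X V Q P H) {n : G} (hn : n ∈ S.D) {q : G} (hq : q ∈ Q) : n * q * n⁻¹ * q⁻¹ ∈ X := by
  let R0 : Subgroup G :=
    { carrier := {q | q ∈ Q ∧ n * q * n⁻¹ * q⁻¹ ∈ X}
      one_mem' := ⟨one_mem _, by rw [mul_one, mul_inv_cancel, inv_one, mul_one]; exact one_mem _⟩
      mul_mem' := by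
        rintro a b ⟨ha, ha2⟩ ⟨hb, hb2⟩
        refine ⟨mul_mem ha hb, ?_⟩
        have h3 := S.XP _ hb2 a⁻¹ (S.QP (inv_mem ha))
        have e : n * (a * b) * n⁻¹ * (a * b)⁻¹ = (n * a * n⁻¹) * ((n * b * n⁻¹ * b⁻¹) * a⁻¹) := by group
        rw [e, h3]
        have h4 := mul_mem ha2 hb2
        have e2 : n * a * n⁻¹ * (a⁻¹ * (n * b * n⁻¹ * b⁻¹)) = n * a * n⁻¹ * a⁻¹ * (n * b * n⁻¹ * b⁻¹) := by group
        rwa [e2]
      inv_mem' := by
        rintro a ⟨ha, ha2⟩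
        refine ⟨inv_mem ha, ?_⟩
        have h3 := inv_mem ha2
        have h4 := S.XP _ h3 a (S.QP ha)
        have e : n * a⁻¹ * n⁻¹ * a⁻¹⁻¹ = a⁻¹ * ((n * a * n⁻¹ * a⁻¹)⁻¹ * a) := by group
        rw [e, h4]
        have e2 : a⁻¹ * (a * (n * a * n⁻¹ * a⁻¹)⁻¹) = (n * a * n⁻¹ * a⁻¹)⁻¹ := by group
        rwa [e2] }
  have hR : R0 = V ∨ R0 = Q := by
    refine S.irrQ R0 (fun v hv => ⟨S.VQ hv, hn.2.2 v hv⟩) (fun _ h => h.1) ?_
    rintro p hp q ⟨hq, hq2⟩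
    refine ⟨S.PQ p hp q hq, ?_⟩
    have hq1 := hn.1.2 p hp
    rw [comm_conj rfl rfl]
    refine mul_mem ?_ (S.QQ _ hq1 _ (S.PQ p hp q hq))
    have h3 : p * (n * q * n⁻¹ * q⁻¹) * p⁻¹ = n * q * n⁻¹ * q⁻¹ := by
      rw [← S.XP _ hq2 p hp, mul_inv_cancel_right]
    rw [h3, ← S.XP _ hq2 _ (S.QP hq1), mul_inv_cancel_right]
    exact hq2
  rcases hR with h | h
  · exfalso
    obtain ⟨c, hc, hcV, hcX⟩ := S.hQ n hn.1.2 hn.2.1 hn.2.2
    apply hcV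
    rw [← h]; exact ⟨hc, hcX⟩
  · rw [← h] at hq
    exact hq.2

/-- `D` centralises `V`. -/
theorem D_V (S : RChain R X V Q P H) {n : G} (hn : n ∈ S.D) {v : G} (hv : v ∈ V) : n * v = v * n := by
  let R0 : Subgroup G :=
    { carrier := {q | q ∈ V ∧ n * q = q * n}
      one_mem' := ⟨one_mem _, by rw [mul_one, one_mul]⟩
      mul_mem' := by
        rintro a b ⟨ha, ha2⟩ ⟨hb, hb2⟩
        exact ⟨mul_mem ha hb, by rw [← mul_assoc, ha2, mul_assoc, hb2, mul_assoc]⟩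
      inv_mem' := by
        rintro a ⟨ha, ha2⟩
        refine ⟨inv_mem ha, ?_⟩
        rw [mul_inv_eq_iff_eq_mul, mul_assoc, ha2, inv_mul_cancel_left] }
  have hR : R0 = X ∨ R0 = V := by
    refine S.irrV R0 (fun v hv => ⟨S.XV hv, S.D_X hn hv⟩) (fun _ h => h.1) ?_
    rintro p hp q ⟨hq, hq2⟩
    refine ⟨S.PV p hp q hq, ?_⟩
    have hq1 := hn.1.2 p hp
    set q1 := n * p * n⁻¹ * p⁻¹ with hq1d
    have e1 : n * p = q1 * p * n := by rw [hq1d]; group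
    have h3 := S.VQc _ (S.PV p hp q hq) q1 hq1
    calc n * (p * q * p⁻¹) = (n * p) * q * (n * p)⁻¹ * n := by group
      _ = q1 * p * (n * q) * n⁻¹ * p⁻¹ * q1⁻¹ * n := by rw [e1]; group
      _ = q1 * (p * q * p⁻¹) * q1⁻¹ * n := by rw [hq2]; group
      _ = p * q * p⁻¹ * n := by rw [← h3, mul_inv_cancel_right]
  rcases hR with h | h
  · exfalso
    obtain ⟨c, hc, hcV, hcX⟩ := S.hV n hn.1.2 hn.2.2 (fun x hx => S.D_X hn hx)
    apply hcV
    rw [← h]; exact ⟨hc, hcX⟩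
  · rw [← h] at hv
    exact hv.2

/-- **Lemma B**: an element of `D` agrees on `t` with an element centralising `Q` and `P/V`. -/
theorem exists_cent (S : RChain R X V Q P H) {n : G} (hn : n ∈ S.D) :
    ∃ b : G, (∀ q ∈ Q, b * q = q * b) ∧ (∀ p ∈ P, b * p * b⁻¹ * p⁻¹ ∈ V) ∧
      ∀ t ∈ R, b * t * b⁻¹ = n * t * n⁻¹ := by
  obtain ⟨q, hq, hf⟩ := S.E2 (fun v => n * v * n⁻¹ * v⁻¹) (fun v hv => S.D_Q hn hv)
    (by
      intro v hv w hw
      have hx := S.D_Q hn hw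
      calc n * (v * w) * n⁻¹ * (v * w)⁻¹ = (n * v * n⁻¹) * ((n * w * n⁻¹ * w⁻¹) * v⁻¹) := by group
        _ = (n * v * n⁻¹) * (v⁻¹ * (n * w * n⁻¹ * w⁻¹)) := by
          rw [S.XP _ hx v⁻¹ (S.QP (inv_mem hv))]
        _ = n * v * n⁻¹ * v⁻¹ * (n * w * n⁻¹ * w⁻¹) := by group)
    (by
      intro x hx
      show n * x * n⁻¹ * x⁻¹ = 1
      rw [S.D_V hn hx]; group)
    (by
      intro p hp
      have hq1 := hn.1.2 p hp
      set q1 := n * p * n⁻¹ * p⁻¹ with hq1d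
      have hpq : p⁻¹ * q1 * p ∈ Q := by simpa using S.PQ p⁻¹ (inv_mem hp) q1 hq1
      refine ⟨p⁻¹ * q1 * p, hpq, fun v hv => ?_⟩
      have hxv := S.D_Q hn hv
      set x := n * v * n⁻¹ * v⁻¹ with hxd
      have e1 : n * p = q1 * p * n := by rw [hq1d]; group
      have e2 : n * v = x * v * n := by rw [hxd]; group
      have c1 : ∀ p ∈ P, x * p = p * x := fun p hp => S.XP x hxv p hp
      have hq1P := S.QP hq1
      calc n * (p * v * p⁻¹) * n⁻¹ * (p * v * p⁻¹)⁻¹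
          = (n * p) * v * (n * p)⁻¹ * (p * v * p⁻¹)⁻¹ := by group
        _ = q1 * p * (n * v) * n⁻¹ * p⁻¹ * q1⁻¹ * (p * v * p⁻¹)⁻¹ := by rw [e1]; group
        _ = (q1 * p) * x * v * p⁻¹ * q1⁻¹ * (p * v * p⁻¹)⁻¹ := by rw [e2]; group
        _ = x * (q1 * p) * v * p⁻¹ * q1⁻¹ * (p * v * p⁻¹)⁻¹ := by rw [c1 _ (mul_mem hq1P hp)]
        _ = x * p * ((p⁻¹ * q1 * p) * v * (p⁻¹ * q1 * p)⁻¹ * v⁻¹) * p⁻¹ := by group
        _ = x * (p * ((p⁻¹ * q1 * p) * v * (p⁻¹ * q1 * p)⁻¹ * v⁻¹) * p⁻¹) := by group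
        _ = x * ((p⁻¹ * q1 * p) * v * (p⁻¹ * q1 * p)⁻¹ * v⁻¹) := by
          congr 1
          have h3 : (p⁻¹ * q1 * p) * v * (p⁻¹ * q1 * p)⁻¹ * v⁻¹ ∈ X := S.QQ _ hpq v hv
          rw [← S.XP _ h3 p hp]; group)
  have hqP := S.QP hq
  -- `b = q⁻¹ n` centralises `Q`
  have hbQ : ∀ v ∈ Q, (q⁻¹ * n) * v * (q⁻¹ * n)⁻¹ = v := by
    intro v hv
    have h1 : n * v * n⁻¹ = q * v * q⁻¹ := mul_right_cancel (hf v hv)
    calc (q⁻¹ * n) * v * (q⁻¹ * n)⁻¹ = q⁻¹ * (n * v * n⁻¹) * q := by group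
      _ = v := by rw [h1]; group
  refine ⟨q⁻¹ * n, fun v hv => ?_, fun p hp => ?_, fun t ht => ?_⟩
  · calc q⁻¹ * n * v = ((q⁻¹ * n) * v * (q⁻¹ * n)⁻¹) * (q⁻¹ * n) := by group
      _ = _ := by rw [hbQ v hv]
  · have h1 : (q⁻¹ * n) * p * (q⁻¹ * n)⁻¹ * p⁻¹ ∈ Q := by
      have h2 := hn.1.2 p hp
      have e : (q⁻¹ * n) * p * (q⁻¹ * n)⁻¹ * p⁻¹ = q⁻¹ * (n * p * n⁻¹ * p⁻¹) * (p * q * p⁻¹) := by group
      rw [e]
      exact mul_mem (mul_mem (inv_mem hq) h2) (S.PQ p hp q hq)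
    apply S.ZQ _ h1
    intro v hv
    have h2 := hbQ _ (S.PQ p⁻¹ (inv_mem hp) v hv)
    rw [inv_inv] at h2
    have h3 := hbQ v hv
    set b := q⁻¹ * n with hb
    calc b * p * b⁻¹ * p⁻¹ * v = (b * p * b⁻¹) * (p⁻¹ * v * p) * p⁻¹ := by group
      _ = (b * p * b⁻¹) * (b * (p⁻¹ * v * p) * b⁻¹) * p⁻¹ := by rw [h2]
      _ = b * (v * p) * b⁻¹ * p⁻¹ := by group
      _ = (b * v * b⁻¹) * (b * p * b⁻¹ * p⁻¹) := by group
      _ = v * (b * p * b⁻¹ * p⁻¹) := by rw [h3]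
  · have hx : t * (n * t * n⁻¹) ∈ X := hn.1.1.2.2 t ht
    have e : n * t * n⁻¹ = t * (t * (n * t * n⁻¹)) := by rw [← mul_assoc, S.Rsq t ht, one_mul]
    have c1 : (t * (t * (n * t * n⁻¹))) * q = q * (t * (t * (n * t * n⁻¹))) := by
      rw [mul_assoc, S.XP _ hx q hqP, ← mul_assoc, S.RP t ht q hqP, mul_assoc]
    calc q⁻¹ * n * t * (q⁻¹ * n)⁻¹ = q⁻¹ * ((n * t * n⁻¹) * q) := by group
      _ = q⁻¹ * (q * (n * t * n⁻¹)) := by rw [e, c1]
      _ = n * t * n⁻¹ := by group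

/-- Averaging: modulo `V` the element centralises a subgroup `A ≤ P` of odd order. -/
theorem exists_avg (S : RChain R X V Q P H) {A : Subgroup G} [Finite A] (hAP : A ≤ P) (hodd : Odd (Nat.card A))
    {b : G} (hbQ : ∀ q ∈ Q, b * q = q * b) (hbP : ∀ p ∈ P, b * p * b⁻¹ * p⁻¹ ∈ V) :
    ∃ b' : G, (∀ q ∈ Q, b' * q = q * b') ∧ (∀ p ∈ P, b' * p * b'⁻¹ * p⁻¹ ∈ V) ∧ (∀ a ∈ A, b' * a = a * b') ∧
      (∀ t ∈ R, b' * t * b'⁻¹ = b * t * b⁻¹) ∧ b'⁻¹ * b ∈ V := by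
  classical
  haveI : Fintype A := Fintype.ofFinite A
  letI : CommGroup V := { (inferInstance : Group V) with
    mul_comm := fun x y => Subtype.ext (S.VQc x x.2 y (S.VQ y.2)) }
  let δ : A → V := fun a => ⟨b * a * b⁻¹ * (a : G)⁻¹, hbP a (hAP a.2)⟩
  let v0 : V := ∏ a : A, δ a
  -- conjugation by `g ∈ A` as a homomorphism of `V`
  let cg : A → V →* V := fun g =>
    { toFun := fun v => ⟨g * v * (g : G)⁻¹, S.PV g (hAP g.2) v v.2⟩
      map_one' := Subtype.ext (by show (g : G) * 1 * (g : G)⁻¹ = 1; group)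
      map_mul' := fun x y => Subtype.ext (by
        show (g : G) * (x * y) * (g : G)⁻¹ = g * x * (g : G)⁻¹ * (g * y * (g : G)⁻¹)
        group) }
  have hδ : ∀ g a : A, δ (g * a) = δ g * cg g (δ a) := by
    intro g a
    apply Subtype.ext
    show b * ((g : G) * a) * b⁻¹ * ((g : G) * a)⁻¹ =
      b * g * b⁻¹ * (g : G)⁻¹ * (g * (b * a * b⁻¹ * (a : G)⁻¹) * (g : G)⁻¹)
    group
  have hsq : ∀ v : V, v ^ 2 = 1 := fun v => Subtype.ext (by
    show (v : G) ^ 2 = 1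
    rw [pow_two]; exact S.V2 v v.2)
  have hv0 : ∀ g : A, v0 = δ g * cg g v0 := by
    intro g
    have h1 : v0 = ∏ a : A, δ (g * a) := (Equiv.prod_comp (Equiv.mulLeft g) δ).symm
    have h2 : ∏ a : A, δ (g * a) = δ g ^ Fintype.card A * cg g v0 := by
      rw [map_prod, ← Finset.card_univ, ← Finset.prod_const, ← Finset.prod_mul_distrib]
      exact Finset.prod_congr rfl fun a _ => hδ g a
    have h3 : δ g ^ Fintype.card A = δ g := by
      rw [Nat.card_eq_fintype_card] at hodd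
      obtain ⟨k, hk⟩ := hodd
      rw [hk, pow_succ, pow_mul, hsq, one_pow, one_mul]
    rw [h3] at h2
    exact h1.trans h2
  have hv0V : (v0 : G) ∈ V := v0.2
  have hinvV : (v0 : G)⁻¹ = v0 := inv_eq_of_mul_eq_one_left (S.V2 _ v0.2)
  refine ⟨(v0 : G)⁻¹ * b, fun q hq => ?_, fun p hp => ?_, fun a ha => ?_, fun t ht => ?_, ?_⟩
  · rw [mul_assoc, hbQ q hq, ← mul_assoc, S.VQc _ (inv_mem hv0V) q hq, mul_assoc]
  · have h1 := mul_mem (mul_mem (inv_mem hv0V) (hbP p hp)) (S.PV p hp _ hv0V)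
    have e : (v0 : G)⁻¹ * b * p * ((v0 : G)⁻¹ * b)⁻¹ * p⁻¹ =
      (v0 : G)⁻¹ * (b * p * b⁻¹ * p⁻¹) * (p * v0 * p⁻¹) := by group
    rwa [e]
  · have h1 := congrArg Subtype.val (hv0 ⟨a, ha⟩)
    have h2 : (v0 : G) = b * a * b⁻¹ * a⁻¹ * (a * v0 * a⁻¹) := h1
    have h3 : b * a = (v0 : G) * a * (v0 : G)⁻¹ * b := by
      calc b * a = (b * a * b⁻¹ * a⁻¹ * (a * v0 * a⁻¹)) * (a * (v0 : G)⁻¹ * a⁻¹) * a * b := by group
        _ = v0 * (a * (v0 : G)⁻¹ * a⁻¹) * a * b := by rw [← h2]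
        _ = _ := by group
    calc (v0 : G)⁻¹ * b * a = (v0 : G)⁻¹ * (b * a) := by group
      _ = (v0 : G)⁻¹ * ((v0 : G) * a * (v0 : G)⁻¹ * b) := by rw [h3]
      _ = a * ((v0 : G)⁻¹ * b) := by group
  · -- `b t b⁻¹` commutes with `v0`: `b` commutes with `v0`, `t` too
    have h1 := hbQ _ (S.VQ (inv_mem hv0V))
    have h2 := S.RP t ht _ (S.QP (S.VQ (inv_mem hv0V)))
    calc (v0 : G)⁻¹ * b * t * ((v0 : G)⁻¹ * b)⁻¹ = ((v0 : G)⁻¹ * b) * t * b⁻¹ * v0 := by group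
      _ = b * ((v0 : G)⁻¹ * t) * b⁻¹ * v0 := by rw [← h1]; group
      _ = b * t * ((v0 : G)⁻¹ * b⁻¹) * v0 := by rw [← h2]; group
      _ = b * t * (b⁻¹ * (v0 : G)⁻¹) * v0 := by
        congr 2
        have h3 := hbQ _ (S.VQ hv0V)
        rw [← mul_inv_rev, h3, mul_inv_rev]
      _ = b * t * b⁻¹ := by group
  · have h1 := hbQ _ (S.VQ hv0V)
    have e : ((v0 : G)⁻¹ * b)⁻¹ * b = v0 := by
      calc ((v0 : G)⁻¹ * b)⁻¹ * b = b⁻¹ * (v0 * b) := by group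
        _ = v0 := by rw [← h1, inv_mul_cancel_left]
    rw [e]; exact hv0V


/-- An odd power of each element of `C4` lies in `D`; the index is odd. -/
theorem odd_relIndex (S : RChain R X V Q P H) [Finite G] : Odd (S.D.relIndex S.C4) := by
  classical
  haveI : Fact (Nat.Prime 2) := ⟨Nat.prime_two⟩
  let R1 : Sylow 2 S.C4 := default
  have h1 : (R1 : Subgroup S.C4) ≤ S.D.subgroupOf S.C4 := by
    intro g hg
    rw [mem_subgroupOf]
    obtain ⟨k, hk⟩ := (IsPGroup.iff_orderOf.1 R1.isPGroup') ⟨g, hg⟩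
    have h2 : (g : G) ^ 2 ^ k = 1 := by
      have h3 : (⟨g, hg⟩ : (R1 : Subgroup S.C4)) ^ 2 ^ k = 1 := by rw [← hk, pow_orderOf_eq_one]
      have h4 := congrArg (fun z : (R1 : Subgroup S.C4) => ((z : S.C4) : G)) h3
      exact h4
    exact S.mem_D_of_two g.2 h2
  have h5 : (S.D.subgroupOf S.C4).index ∣ (R1 : Subgroup S.C4).index := index_dvd_of_le h1
  have h6 : ¬ 2 ∣ (R1 : Subgroup S.C4).index := R1.not_dvd_index
  rw [relIndex, ← Nat.not_even_iff_odd, even_iff_two_dvd]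
  exact fun h => h6 (h.trans h5)

/-- If `D` centralises `R` and some element of `H` is trivial on `P/Q` and fixed point free on `X`, then `C4`
centralises `R`. -/
theorem C4_cent (S : RChain R X V Q P H) [Finite G] (hD : ∀ d ∈ S.D, ∀ a ∈ R, d * a = a * d) {h1 : G} (hh1 : h1 ∈ H)
    (h1P : ∀ p ∈ P, h1 * p * h1⁻¹ * p⁻¹ ∈ Q) (hfp : ∀ x ∈ X, h1 * x = x * h1 → x = 1) :
    ∀ c ∈ S.C4, ∀ a ∈ R, c * a = a * c := by
  classical
  intro c0 hc0 a ha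
  have haa := S.Rsq a ha
  have hax : ∀ {x : G}, x ∈ X → a * x = x * a := fun hx => S.tx ha hx
  have hXX : ∀ {x y : G}, x ∈ X → y ∈ X → x * y = y * x := fun hx hy => S.XP _ hx _ (S.QP (S.XQ hy))
  letI : CommGroup X := { (inferInstance : Group X) with
    mul_comm := fun x y => Subtype.ext (hXX x.2 y.2) }
  let D' : Subgroup S.C4 := S.D.subgroupOf S.C4
  haveI hDn : D'.Normal := ⟨by
    intro c hc g
    rw [mem_subgroupOf] at hc ⊢
    exact S.conj_D (S.C4_le g.2) hc⟩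
  haveI : Fintype (S.C4 ⧸ D') := Fintype.ofFinite _
  let δ : S.C4 → X := fun c => ⟨a * (c * a * (c : G)⁻¹), (S.C4_le c.2).2.2 a ha⟩
  let F : S.C4 ⧸ D' → X := fun q => δ q.out
  have hF : ∀ c : S.C4, F (QuotientGroup.mk c) = δ c := by
    intro c
    obtain ⟨d, hd⟩ := QuotientGroup.mk_out_eq_mul D' c
    apply Subtype.ext
    show a * (((QuotientGroup.mk c : S.C4 ⧸ D').out : S.C4) * a * (((QuotientGroup.mk c : S.C4 ⧸ D').out : S.C4) : G)⁻¹)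
      = a * (c * a * (c : G)⁻¹)
    rw [hd]
    have h2 : ((d : S.C4) : G) * a = a * ((d : S.C4) : G) := hD _ (mem_subgroupOf.1 d.2) a ha
    show a * ((c * ((d : S.C4) : G)) * a * (c * ((d : S.C4) : G))⁻¹) = _
    calc a * ((c * ((d : S.C4) : G)) * a * (c * ((d : S.C4) : G))⁻¹)
        = a * (c * (((d : S.C4) : G) * a) * ((d : S.C4) : G)⁻¹ * (c : G)⁻¹) := by group
      _ = a * (c * a * (c : G)⁻¹) := by rw [h2]; group
  -- conjugation by `c ∈ C4` as a homomorphism of `X`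
  let cg : S.C4 → X →* X := fun g =>
    { toFun := fun v => ⟨g * v * (g : G)⁻¹, (S.C4_le g.2).1 v v.2⟩
      map_one' := Subtype.ext (by show (g : G) * 1 * (g : G)⁻¹ = 1; group)
      map_mul' := fun x y => Subtype.ext (by
        show (g : G) * (x * y) * (g : G)⁻¹ = g * x * (g : G)⁻¹ * (g * y * (g : G)⁻¹)
        group) }
  have hδ : ∀ g c : S.C4, δ (g * c) = δ g * cg g (δ c) := by
    intro g c
    apply Subtype.ext
    show a * ((g : G) * c * a * ((g : G) * c)⁻¹) = a * (g * a * (g : G)⁻¹) * (g * (a * (c * a * (c : G)⁻¹)) * (g : G)⁻¹)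
    calc a * ((g : G) * c * a * ((g : G) * c)⁻¹) = a * g * 1 * c * a * (c : G)⁻¹ * (g : G)⁻¹ := by group
      _ = a * g * (a * a) * c * a * (c : G)⁻¹ * (g : G)⁻¹ := by rw [haa]
      _ = _ := by group
  have hsq : ∀ v : X, v ^ 2 = 1 := fun v => Subtype.ext (by
    show (v : G) ^ 2 = 1
    rw [pow_two]; exact S.X2 v v.2)
  let x0 : X := ∏ q : S.C4 ⧸ D', F q
  have hodd : Odd (Fintype.card (S.C4 ⧸ D')) := by
    have := S.odd_relIndex
    rw [relIndex, index, Nat.card_eq_fintype_card] at this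
    exact this
  have hx0 : ∀ g : S.C4, x0 = δ g * cg g x0 := by
    intro g
    have e1 : x0 = ∏ q : S.C4 ⧸ D', F (QuotientGroup.mk g * q) :=
      (Equiv.prod_comp (Equiv.mulLeft (QuotientGroup.mk g : S.C4 ⧸ D')) F).symm
    have e2 : ∏ q : S.C4 ⧸ D', F (QuotientGroup.mk g * q) = δ g ^ Fintype.card (S.C4 ⧸ D') * cg g x0 := by
      rw [map_prod, ← Finset.card_univ, ← Finset.prod_const, ← Finset.prod_mul_distrib]
      refine Finset.prod_congr rfl fun q _ => ?_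
      obtain ⟨c, rfl⟩ := QuotientGroup.mk_surjective q
      rw [← QuotientGroup.mk_mul, hF, hF, hδ]
    have e3 : δ g ^ Fintype.card (S.C4 ⧸ D') = δ g := by
      obtain ⟨k, hk⟩ := hodd
      rw [hk, pow_succ, pow_mul, hsq, one_pow, one_mul]
    rw [e3] at e2
    exact e1.trans e2
  -- `h1` fixes `x0`
  have hh1C : h1 ∈ S.C4 := by
    refine ⟨⟨S.HX h1 hh1, fun x hx => by simpa using S.HX h1⁻¹ (inv_mem hh1) x hx, fun t ht => ?_⟩, h1P⟩
    rw [← S.RH t ht h1 hh1]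
    have : t * (t * h1 * h1⁻¹) = t * t := by group
    rw [this, S.Rsq t ht]; exact one_mem _
  have hx01 : (x0 : G) = 1 := by
    apply hfp _ x0.2
    have e1 := congrArg Subtype.val (hx0 ⟨h1, hh1C⟩)
    have e2 : (x0 : G) = a * (h1 * a * h1⁻¹) * (h1 * x0 * h1⁻¹) := e1
    have e3 : a * (h1 * a * h1⁻¹) = 1 := by
      rw [← S.RH a ha h1 hh1]
      have : a * (a * h1 * h1⁻¹) = a * a := by group
      rw [this, haa]
    rw [e3, one_mul] at e2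
    calc h1 * (x0 : G) = (h1 * x0 * h1⁻¹) * h1 := by group
      _ = x0 * h1 := by rw [← e2]
  have e1 := congrArg Subtype.val (hx0 ⟨c0, hc0⟩)
  have e2 : (x0 : G) = a * (c0 * a * c0⁻¹) * (c0 * x0 * c0⁻¹) := e1
  rw [hx01] at e2
  have e3 : a * (c0 * a * c0⁻¹) = 1 := by
    calc a * (c0 * a * c0⁻¹) = a * (c0 * a * c0⁻¹) * (c0 * 1 * c0⁻¹) := by group
      _ = 1 := e2.symm
  have e4 : c0 * a * c0⁻¹ = a := by
    calc c0 * a * c0⁻¹ = (a * a) * (c0 * a * c0⁻¹) := by rw [haa, one_mul]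
      _ = a * (a * (c0 * a * c0⁻¹)) := by group
      _ = a := by rw [e3, mul_one]
  calc c0 * a = (c0 * a * c0⁻¹) * c0 := by group
    _ = a * c0 := by rw [e4]

/-- **`D` moves `R`**, if some `g` normalising `P`, `Q`, `X` and `R X` moves `R`. -/
theorem exists_move (S : RChain R X V Q P H) [Finite G] {h1 : G} (hh1 : h1 ∈ H)
    (h1P : ∀ p ∈ P, h1 * p * h1⁻¹ * p⁻¹ ∈ Q) (hfp : ∀ x ∈ X, h1 * x = x * h1 → x = 1)
    {g : G} (gP : ∀ p ∈ P, g * p * g⁻¹ ∈ P) (gQ : ∀ p ∈ Q, g * p * g⁻¹ ∈ Q) (gX : ∀ x ∈ X, g * x * g⁻¹ ∈ X)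
    (gR : ∀ a ∈ R, ∃ b ∈ R, ∃ x ∈ X, g * a * g⁻¹ = b * x) (hg : ∃ a ∈ R, g * a * g⁻¹ ∉ R) :
    ∃ d ∈ S.D, ∃ a ∈ R, d * a ≠ a * d := by
  by_contra hcon
  push Not at hcon
  have hC := S.C4_cent hcon hh1 h1P hfp
  have gX' := DblR.Exist.conj_inv_mem gX
  have gP' := DblR.Exist.conj_inv_mem gP
  set e := g * h1 * g⁻¹ with he
  obtain ⟨a, ha, haR⟩ := hg
  obtain ⟨b, hb, x, hx, hab⟩ := gR a ha
  have hxne : x ≠ 1 := by
    rintro rfl
    rw [mul_one] at hab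
    exact haR (by rw [hab]; exact hb)
  have hea : ∀ a ∈ R, e * (g * a * g⁻¹) = (g * a * g⁻¹) * e := by
    intro a ha
    have := S.RH a ha h1 hh1
    calc e * (g * a * g⁻¹) = g * (h1 * a) * g⁻¹ := by rw [he]; group
      _ = g * (a * h1) * g⁻¹ := by rw [this]
      _ = (g * a * g⁻¹) * e := by rw [he]; group
  have heX : ∀ x ∈ X, e * x * e⁻¹ ∈ X := by
    intro x hx
    have := gX _ (S.HX h1 hh1 _ (gX' x hx))
    rwa [show g * (h1 * (g⁻¹ * x * g) * h1⁻¹) * g⁻¹ = e * x * e⁻¹ by rw [he]; group] at this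
  have heX' : ∀ x ∈ X, e⁻¹ * x * e ∈ X := DblR.Exist.conj_inv_mem heX
  have hePQ : ∀ p ∈ P, e * p * e⁻¹ * p⁻¹ ∈ Q := by
    intro p hp
    have := gQ _ (h1P _ (gP' p hp))
    rwa [show g * (h1 * (g⁻¹ * p * g) * h1⁻¹ * (g⁻¹ * p * g)⁻¹) * g⁻¹ = e * p * e⁻¹ * p⁻¹ by rw [he]; group] at this
  -- `RX` is normalised by `g`
  let RX : Subgroup G :=
    { carrier := {z | ∃ s ∈ R, ∃ y ∈ X, z = s * y}
      one_mem' := ⟨1, one_mem _, 1, one_mem _, by group⟩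
      mul_mem' := by
        rintro _ _ ⟨s, hs, y, hy, rfl⟩ ⟨s', hs', y', hy', rfl⟩
        refine ⟨s * s', mul_mem hs hs', y * y', mul_mem hy hy', ?_⟩
        have := S.tx hs' hy
        calc s * y * (s' * y') = s * (y * s') * y' := by group
          _ = s * (s' * y) * y' := by rw [this]
          _ = _ := by group
      inv_mem' := by
        rintro _ ⟨s, hs, y, hy, rfl⟩
        refine ⟨s⁻¹, inv_mem hs, y⁻¹, inv_mem hy, ?_⟩
        rw [mul_inv_rev, S.tx (inv_mem hs) (inv_mem hy)] }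
  have hRX : ∀ z ∈ RX, g * z * g⁻¹ ∈ RX := by
    rintro _ ⟨s, hs, y, hy, rfl⟩
    obtain ⟨b, hb, x, hx, h⟩ := gR s hs
    refine ⟨b, hb, x * (g * y * g⁻¹), mul_mem hx (gX y hy), ?_⟩
    calc g * (s * y) * g⁻¹ = (g * s * g⁻¹) * (g * y * g⁻¹) := by group
      _ = b * (x * (g * y * g⁻¹)) := by rw [h]; group
  have heR : ∀ r ∈ R, r * (e * r * e⁻¹) ∈ X := by
    intro r hr
    obtain ⟨s, hs, y, hy, h⟩ := DblR.Exist.conj_inv_mem hRX r ⟨r, hr, 1, one_mem _, by group⟩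
    have hrs : r = (g * s * g⁻¹) * (g * y * g⁻¹) := by
      calc r = g * (g⁻¹ * r * g) * g⁻¹ := by group
        _ = (g * s * g⁻¹) * (g * y * g⁻¹) := by rw [h]; group
    have hy' := gX y hy
    set y' := g * y * g⁻¹ with hy'd
    have e2 := hea s hs
    have e0 : g * s * g⁻¹ = r * y'⁻¹ := by rw [hrs]; group
    have e3 : e * r * e⁻¹ = (g * s * g⁻¹) * (e * y' * e⁻¹) := by
      rw [hrs]
      calc e * (g * s * g⁻¹ * y') * e⁻¹ = (e * (g * s * g⁻¹)) * y' * e⁻¹ := by group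
        _ = (g * s * g⁻¹) * (e * y' * e⁻¹) := by rw [e2]; group
    rw [e3, e0]
    have e4 : r * (r * y'⁻¹ * (e * y' * e⁻¹)) = y'⁻¹ * (e * y' * e⁻¹) := by
      calc r * (r * y'⁻¹ * (e * y' * e⁻¹)) = (r * r) * (y'⁻¹ * (e * y' * e⁻¹)) := by group
        _ = _ := by rw [S.Rsq r hr, one_mul]
    rw [e4]
    exact mul_mem (inv_mem hy') (heX _ hy')
  have heC : e ∈ S.C4 := ⟨⟨heX, heX', heR⟩, hePQ⟩
  have h2 := hC e heC b hb
  have h3 := hea a ha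
  rw [hab] at h3
  have h4 : e * x = x * e := by
    calc e * x = e * (b⁻¹ * (b * x)) := by group
      _ = (e * b⁻¹) * (b * x) := by group
      _ = (b⁻¹ * (b * e) * b⁻¹) * (b * x) := by group
      _ = (b⁻¹ * (e * b) * b⁻¹) * (b * x) := by rw [h2]
      _ = b⁻¹ * (e * (b * x)) := by group
      _ = b⁻¹ * ((b * x) * e) := by rw [h3]
      _ = x * e := by group
  -- `h1` commutes with `g⁻¹ x g`
  have h5 : g⁻¹ * x * g = 1 := by
    apply hfp _ (gX' x hx)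
    calc h1 * (g⁻¹ * x * g) = g⁻¹ * (e * x) * g := by rw [he]; group
      _ = g⁻¹ * (x * e) * g := by rw [h4]
      _ = g⁻¹ * x * g * h1 := by rw [he]; group
  apply hxne
  calc x = g * (g⁻¹ * x * g) * g⁻¹ := by group
    _ = 1 := by rw [h5]; group

/-- **Existence.** -/
theorem exists_b (S : RChain R X V Q P H) [Finite G] {h1 : G} (hh1 : h1 ∈ H)
    (h1P : ∀ p ∈ P, h1 * p * h1⁻¹ * p⁻¹ ∈ Q) (hfp : ∀ x ∈ X, h1 * x = x * h1 → x = 1)
    {g : G} (gP : ∀ p ∈ P, g * p * g⁻¹ ∈ P) (gQ : ∀ p ∈ Q, g * p * g⁻¹ ∈ Q) (gX : ∀ x ∈ X, g * x * g⁻¹ ∈ X)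
    (gR : ∀ a ∈ R, ∃ b ∈ R, ∃ x ∈ X, g * a * g⁻¹ = b * x) (hg : ∃ a ∈ R, g * a * g⁻¹ ∉ R)
    {A : Subgroup G} (hAP : A ≤ P) (hodd : Odd (Nat.card A)) :
    ∃ b : G, (∀ q ∈ Q, b * q = q * b) ∧ (∀ p ∈ P, b * p * b⁻¹ * p⁻¹ ∈ V) ∧ (∀ a ∈ A, b * a = a * b) ∧
      (∀ t ∈ R, t * (b * t * b⁻¹) ∈ X) ∧ ∃ t ∈ R, b * t ≠ t * b := by
  obtain ⟨d, hd, a, ha, hda⟩ := S.exists_move hh1 h1P hfp gP gQ gX gR hg
  obtain ⟨b, hb, hbP, hbt⟩ := S.exists_cent hd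
  obtain ⟨b', hb', hbP', hbA, hbt', -⟩ := S.exists_avg hAP hodd hb hbP
  have key : ∀ t ∈ R, b' * t * b'⁻¹ = d * t * d⁻¹ := fun t ht => by rw [hbt' t ht, hbt t ht]
  refine ⟨b', hb', hbP', hbA, fun t ht => ?_, a, ha, fun h => hda ?_⟩
  · rw [key t ht]; exact hd.1.1.2.2 t ht
  · have h2 := key a ha
    rw [h] at h2
    have h3 : d * a * d⁻¹ = a := by rw [← h2]; group
    calc d * a = (d * a * d⁻¹) * d := by group
      _ = a * d := by rw [h3]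

end RChain

end Cfsg.Agent.OddHalf.D4F4

end

-- merged: Cfsg.Agent.OddHalf.D4F4.Exist
section

/-!
# ODD, D4, `F₄(q)`: existence of the doubled root group `W_s`, `|R| ≥ 4`

* `env_dw` : `DblR.Exist.Env` and one element of `V` moving `R` give the doubled root group;
* `RData` : the data in `G` in the coordinates `D7F4Ex.Loc`;
* **`RData.exists_dw`** : if some `g` normalising `P`, `Q`, `X`, `R X` moves `R`, there is a doubled root group `W` for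
  `P~ = ⟨Q, H ∩ C(X_s), l a b⟩`, invariant under the elements of `K` normalising `P~`, `X` and centralising `h₀` mod `P~`.
-/

set_option autoImplicit false
set_option linter.unusedSectionVars false
set_option linter.style.haveILetI false

namespace Cfsg.Agent.OddHalf.D4F4

open Subgroup Cfsg.Agent.OddHalf.D7F4Ex Cfsg.Agent.OddHalf.D7F4Ex.Loc Cfsg.Agent.OddHalf.DblR
  Cfsg.Agent.OddHalf.DblR.Exist Cfsg.Agent.OddHalf.DblR.Exist.Env

/-- From one element of `V` to the doubled root group. -/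
theorem env_dw {G : Type*} [Group G] [Finite G] {K R X P Q T0 : Subgroup G} (E : Env K R X P Q T0) {v0 r : G}
    (hv0 : v0 ∈ E.V) (hr : r ∈ R) (h0 : δ r v0 ≠ 1) :
    ∃ h0 ∈ T0, (∀ x ∈ X, x ≠ 1 → h0 * x * h0⁻¹ ≠ x) ∧ ∃ W : Subgroup G, DW K R P X W ∧
      ∀ k ∈ K, (∃ p ∈ P, k * h0 * k⁻¹ = h0 * p) → (∀ p ∈ P, k * p * k⁻¹ ∈ P) → (∀ x ∈ X, k * x * k⁻¹ ∈ X) →
        ∀ w ∈ W, k * w * k⁻¹ ∈ W := by
  obtain ⟨h, hh, x1, hx1, hne1⟩ := E.Tne
  have hfp : ∀ y ∈ X, y ≠ 1 → h * y * h⁻¹ ≠ y := fun y hy hy1 => E.fpf hh hx1 hne1 hy hy1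
  have hR : ∃ t ∈ R, t ≠ 1 := ⟨r, hr, by
    rintro rfl
    exact h0 (δ_eq_one_iff.2 (by rw [mul_one, one_mul]))⟩
  have hall : ∀ t ∈ R, t ≠ 1 → δ t v0 ≠ 1 := fun t ht ht1 he =>
    h0 (δ_eq_one_iff.2 (E.V_comm hv0 ht ht1 (δ_eq_one_iff.1 he) r hr))
  have hbr : ∀ {t w : G}, br t w = δ t w⁻¹ := by
    intro t w; unfold br δ; group
  have hWV : ∀ w ∈ E.W hR hh, w ∈ E.V := fun w hw => E.V2_le hR (E.W_le hR hh hw)
  refine ⟨h, hh, hfp, E.W hR hh, ?_, ?_⟩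
  · refine ⟨E.XP, E.PK, E.X_le_W hR hh, E.Xsq, fun w hw p hp => E.V_P (hWV w hw) hp, ?_, ?_, ?_, ?_⟩
    · intro t ht w hw
      rw [hbr]
      exact E.V_δ (inv_mem (hWV w hw)) ht
    · intro t ht ht1 w hw h1
      exact E.W_fix hR hh hfp hw ht ht1 h1.symm
    · intro t ht ht1 x hx
      obtain ⟨w, hw, hwx⟩ := E.W_surj hR hh hfp hv0 ht ht1 (hall t ht ht1) x hx
      refine ⟨w, hw, ?_⟩
      rw [hbr, E.δ_inv' ht (hWV w hw), hwx, E.xx_inv hx]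
    · intro c hc w hw
      have h1 : c * w * c⁻¹ = w * δ c w⁻¹ := by unfold δ; group
      rw [h1]
      exact mul_mem hw (E.X_le_W hR hh ((inv_mem (E.W_le hR hh hw) : w⁻¹ ∈ E.V2 hR).1.2 c (mem_C1.1 hc)))
  · rintro k hk ⟨p, hp, hkh⟩ hkP hkX w hw
    exact E.W_conj hR hh hk (conj_inv_mem hkP) hkX hp hkh hw

variable {F : Type*} [Field F] {G : Type*} [Group G] {x0 : F → G} {v : J → F → G} {z : Sp → F → G} {c : J → F → G}
  {l : J → J → F → G} {th : (Fin 3 → Fˣ) →* G}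

/-- The data in `G`. -/
structure RData (K R : Subgroup G) (hs : Fˣ →* G) (x0 : F → G) (v : J → F → G) (z : Sp → F → G) (c : J → F → G)
    (l : J → J → F → G) (th : (Fin 3 → Fˣ) →* G) : Prop where
  amb : Amb K R
  PK : Ps x0 v z c l th ≤ K
  hK : ∀ μ, hs μ ∈ K
  hs_x0 : ∀ μ a, hs μ * x0 a * (hs μ)⁻¹ = x0 ((μ : F) ^ 2 * a)
  hs_v : ∀ μ j a, hs μ * v j a * (hs μ)⁻¹ = v j ((μ : F) ^ 2 * a)
  hs_z : ∀ μ i a, hs μ * z i a * (hs μ)⁻¹ = z i ((μ : F) * a)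
  hs_c : ∀ μ j a, hs μ * c j a = c j a * hs μ
  hs_l : ∀ μ j k a, j.1 ≠ k.1 → hs μ * l j k a = l j k a * hs μ
  hs_th : ∀ μ ν, hs μ * th ν = th ν * hs μ
  two : ∀ c ∈ DblR.C1 K R, IsPGroup 2 (Subgroup.zpowers c) → c ∈ R
  k3 : ∀ g : G, (∀ a ∈ R, g * a = a * g) → (∀ p ∈ Pt x0 v z l th, g * p = p * g) →
    ∃ x ∈ Xs x0, x⁻¹ * g ∈ DblR.C1 K R
  /-- an element normalising `X` with `[n, R] ≤ X` normalises `P`, `Q`, `V` -/
  nP : ∀ n : G, (∀ x ∈ Xs x0, n * x * n⁻¹ ∈ Xs x0) → (∀ t ∈ R, t * (n * t * n⁻¹) ∈ Xs x0) →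
    (∀ p ∈ Ps x0 v z c l th, n * p * n⁻¹ ∈ Ps x0 v z c l th) ∧ (∀ q ∈ Qs x0 v z, n * q * n⁻¹ ∈ Qs x0 v z) ∧
      (∀ y ∈ Vs x0 v, n * y * n⁻¹ ∈ Vs x0 v)

namespace RData

variable {K R : Subgroup G} {hs : Fˣ →* G} (D : RData K R hs x0 v z c l th) (L : Loc x0 v z c l th)

include D L

theorem rchain [Finite F] : RChain R (Xs x0) (Vs x0 v) (Qs x0 v z) (Ps x0 v z c l th) hs.range where
  Rsq := D.amb.tt
  X2 := fun x hx => L.V2 (z := z) (X_le_V hx)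
  XV := X_le_V
  VQ := V_le_Q
  QP := Q_le_P
  V2 := fun x hx => L.V2 (z := z) hx
  Q2 := fun x hx => L.Q2 hx
  RP := fun t ht p hp => D.amb.comm t ht p (D.PK hp)
  XP := fun x hx p hp => L.XP hx hp
  VQc := fun x hx q hq => L.VQ hx hq
  PQ := fun p hp q hq => L.PQ hp hq
  PV := fun p hp q hq => L.PV hp hq
  RH := by rintro t ht _ ⟨a, rfl⟩; exact D.amb.comm t ht _ (D.hK a)
  HX := by
    rintro _ ⟨μ, rfl⟩ x hx
    obtain ⟨a, rfl⟩ := L.mem_X.1 hx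
    rw [D.hs_x0]; exact L.x0_mem _
  nP := D.nP
  XQQ := L.X_le_comm
  QQ := fun x hx y hy => L.QQ hx hy
  ZQ := fun q hq h => L.ZQ hq h
  irrQ := fun R h1 h2 h3 => L.irrQ h1 h2 h3
  irrV := fun R h1 h2 h3 => L.irrV h1 h2 h3
  neQ := L.neQ
  neV := L.neV
  hQ := fun d h1 h2 _ => L.hQ h1 h2
  hV := fun d h1 h2 _ => L.hV h1 h2
  E2 := L.E2

/-- `h_s(μ)` acts trivially on `P / Q` -/
theorem hs_PQ (μ : Fˣ) {p : G} (hp : p ∈ Ps x0 v z c l th) : hs μ * p * (hs μ)⁻¹ * p⁻¹ ∈ Qs x0 v z := by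
  induction hp using closure_induction with
  | mem g hg =>
    have triv : hs μ * g = g * hs μ → hs μ * g * (hs μ)⁻¹ * g⁻¹ ∈ Qs x0 v z := fun h => by
      rw [h, mul_inv_cancel_right, mul_inv_cancel]; exact one_mem _
    rcases hg with (⟨b, rfl⟩ | ⟨j, b, rfl⟩) | ⟨i, b, rfl⟩ | ⟨j, b, rfl⟩ | ⟨j, k, b, h, rfl⟩ | ⟨ν, rfl⟩
    · rw [D.hs_x0]
      exact mul_mem (V_le_Q (X_le_V (L.x0_mem _))) (inv_mem (V_le_Q (X_le_V (L.x0_mem _))))
    · rw [D.hs_v]; exact mul_mem (V_le_Q (v_mem _ _)) (inv_mem (V_le_Q (v_mem _ _)))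
    · rw [D.hs_z]; exact mul_mem (z_mem _ _) (inv_mem (z_mem _ _))
    · exact triv (D.hs_c _ _ _)
    · exact triv (D.hs_l _ _ _ _ h)
    · exact triv (D.hs_th _ _)
  | one => rw [mul_one, mul_inv_cancel, inv_one, mul_one]; exact one_mem _
  | mul g g' hg hg' ih1 ih2 =>
    have e : hs μ * (g * g') * (hs μ)⁻¹ * (g * g')⁻¹ =
      (hs μ * g * (hs μ)⁻¹ * g⁻¹) * (g * (hs μ * g' * (hs μ)⁻¹ * g'⁻¹) * g⁻¹) := by group
    rw [e]; exact mul_mem ih1 (L.PQ hg ih2)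
  | inv g hg ih =>
    have e : hs μ * g⁻¹ * (hs μ)⁻¹ * g⁻¹⁻¹ = g⁻¹ * (hs μ * g * (hs μ)⁻¹ * g⁻¹)⁻¹ * g⁻¹⁻¹ := by group
    rw [e]; exact L.PQ (inv_mem hg) (inv_mem ih)

/-- elements `h_s(μ)`, `μ ≠ 1`, have no fixed points on `X` -/
theorem hs_fp {μ : Fˣ} (hμ : μ ≠ 1) : ∀ x ∈ Xs x0, hs μ * x = x * hs μ → x = 1 := by
  intro x hx h
  obtain ⟨a, rfl⟩ := L.mem_X.1 hx
  have h0 := D.hs_x0 μ a
  rw [h, mul_inv_cancel_right] at h0
  have h1 : x0 ((μ : F) ^ 2 * a + a) = 1 := by rw [L.x0_add, ← h0, self_of_add L.two L.x0_add]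
  have h2 := L.x0_inj _ h1
  have h3 : ((μ : F) ^ 2 + 1) * a = 0 := by rw [← h2]; ring
  rcases mul_eq_zero.1 h3 with h4 | h4
  · exfalso
    exact L.sq_ne hμ (Units.ext (by
      rw [Units.val_pow_eq_pow_val, Units.val_one]; exact L.add_eq_zero h4))
  · rw [h4, zero_of_add L.x0_add]

theorem hs_tr [Finite F] : ∀ x ∈ Xs x0, x ≠ 1 → ∀ y ∈ Xs x0, y ≠ 1 → ∃ h ∈ hs.range, h * x * h⁻¹ = y := by
  rintro x hx hx1 y hy hy1
  obtain ⟨a, rfl⟩ := L.mem_X.1 hx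
  obtain ⟨a', rfl⟩ := L.mem_X.1 hy
  have ha : a ≠ 0 := fun h => hx1 (by rw [h, zero_of_add L.x0_add])
  have ha' : a' ≠ 0 := fun h => hy1 (by rw [h, zero_of_add L.x0_add])
  obtain ⟨β, hβ⟩ := L.exists_sqrt_unit (Units.mk0 a' ha' * (Units.mk0 a ha)⁻¹)
  refine ⟨hs β, ⟨β, rfl⟩, ?_⟩
  rw [D.hs_x0, ← Units.val_pow_eq_pow_val, hβ, Units.val_mul, Units.val_mk0, Units.val_inv_eq_inv_val,
    Units.val_mk0, mul_assoc, inv_mul_cancel₀ ha, mul_one]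

theorem env [Finite F] : Env K R (Xs x0) (Pt x0 v z l th) (Qs x0 v z) hs.range where
  RK := D.amb.comm
  Rsq := D.amb.tt
  C1R := fun c h1 h2 _ hj => D.two c (mem_C1.2 ⟨h1, h2⟩) (isPGroup_zpowers hj)
  PK := Pt_le_P.trans D.PK
  QP := Q_le_Pt
  TK := by rintro _ ⟨a, rfl⟩; exact D.hK a
  XP := X_le_V.trans (V_le_Q.trans Q_le_Pt)
  Xsq := fun x hx => L.V2 (z := z) (X_le_V hx)
  XPc := fun x hx p hp => L.XP hx (Pt_le_P hp)
  Xc := fun x hx h => D.amb.ctr x (D.PK (Q_le_P (V_le_Q (X_le_V hx)))) h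
  TX := (D.rchain L).HX
  TPQ := by
    rintro _ ⟨a, rfl⟩ p hp
    exact D.hs_PQ L a (Pt_le_P hp)
  Tc := by
    rintro _ ⟨a, rfl⟩ _ ⟨b, rfl⟩
    rw [← map_mul, ← map_mul, mul_comm]
  Ttr := D.hs_tr L
  Tne := by
    obtain ⟨μ, hμ⟩ := L.big
    refine ⟨hs μ, ⟨μ, rfl⟩, x0 1, L.x0_mem 1, fun h => ?_⟩
    have h1 : x0 (1 : F) = 1 := by
      apply D.hs_fp L hμ _ (L.x0_mem 1)
      calc hs μ * x0 1 = (hs μ * x0 1 * (hs μ)⁻¹) * hs μ := by group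
        _ = x0 1 * hs μ := by rw [h]
    exact one_ne_zero (L.x0_inj _ h1)
  tight := by
    intro g t ht ht1 hg h
    refine D.amb.tight ht ht1 hg fun a ha => ?_
    have hg' : g⁻¹ * t = t * g⁻¹ := by
      calc g⁻¹ * t = g⁻¹ * (t * g) * g⁻¹ := by group
        _ = g⁻¹ * (g * t) * g⁻¹ := by rw [hg]
        _ = t * g⁻¹ := by group
    have h1 := D.amb.nor t ht ht1 g⁻¹ hg' _ (D.PK (Q_le_P (V_le_Q (X_le_V (h a ha)))))
    have h2 : br a g = (g⁻¹ * (g * a * g⁻¹ * a⁻¹) * g⁻¹⁻¹)⁻¹ := by unfold br; group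
    rw [h2]
    exact inv_mem h1
  k3 := by
    intro c h1 h2
    obtain ⟨x, hx, hc⟩ := D.k3 c h2 h1
    exact ⟨x, hx, (mem_C1.1 hc).1⟩

/-- **Existence of the doubled root group.** -/
theorem exists_dw [Finite F] [Finite G] {g : G} (gP : ∀ p ∈ Ps x0 v z c l th, g * p * g⁻¹ ∈ Ps x0 v z c l th)
    (gQ : ∀ p ∈ Qs x0 v z, g * p * g⁻¹ ∈ Qs x0 v z) (gX : ∀ x ∈ Xs x0, g * x * g⁻¹ ∈ Xs x0)
    (gR : ∀ a ∈ R, ∃ b ∈ R, ∃ x ∈ Xs x0, g * a * g⁻¹ = b * x) (hg : ∃ a ∈ R, g * a * g⁻¹ ∉ R) :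
    ∃ (μ : Fˣ) (W : Subgroup G), DW K R (Pt x0 v z l th) (Xs x0) W ∧
      ∀ k ∈ K, (∃ p ∈ Pt x0 v z l th, k * hs μ * k⁻¹ = hs μ * p) →
        (∀ p ∈ Pt x0 v z l th, k * p * k⁻¹ ∈ Pt x0 v z l th) → (∀ x ∈ Xs x0, k * x * k⁻¹ ∈ Xs x0) →
        ∀ w ∈ W, k * w * k⁻¹ ∈ W := by
  obtain ⟨μ, hμ⟩ := L.big
  obtain ⟨b, hb1, hb2, hb3, hb4, r, hr, hbr⟩ := (D.rchain L).exists_b (h1 := hs μ) ⟨μ, rfl⟩ (fun p hp => D.hs_PQ L μ hp)
    (D.hs_fp L hμ) gP gQ gX gR hg (A := th.range) (by rintro _ ⟨ν, rfl⟩; exact th_mem ν) L.odd_range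
  have B : Bp x0 v z c l th b := ⟨hb1, hb2, fun ν => hb3 _ ⟨ν, rfl⟩⟩
  have E := D.env L
  have hbV : b ∈ E.V := by
    refine ⟨fun p hp => B.comm_Pt L hp, fun a ha => ?_⟩
    have h1 := hb4 a ha
    have h2 : a * (b * a * b⁻¹) = b * a * b⁻¹ * a⁻¹ := by
      have h3 : a⁻¹ = a := E.rr_inv ha
      have h4 : b * a * b⁻¹ = a * (a * (b * a * b⁻¹)) := by
        calc b * a * b⁻¹ = 1 * (b * a * b⁻¹) := by group
          _ = a * a * (b * a * b⁻¹) := by rw [E.Rsq a ha]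
          _ = _ := by group
      have h5 := E.RX ha h1
      calc a * (b * a * b⁻¹) = a * (a * (a * (b * a * b⁻¹))) := by rw [← h4]
        _ = a * (a * (b * a * b⁻¹) * a) := by rw [h5]
        _ = (a * (a * (b * a * b⁻¹))) * a := by group
        _ = (b * a * b⁻¹) * a := by rw [← h4]
        _ = _ := by rw [h3]
    show b * a * b⁻¹ * a⁻¹ ∈ Xs x0
    rw [← h2]; exact h1
  have hne : δ r b ≠ 1 := fun h => hbr (δ_eq_one_iff.1 h)
  obtain ⟨_, ⟨μ', rfl⟩, -, W, hW, hW2⟩ := env_dw E hbV hr hne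
  exact ⟨μ', W, hW, hW2⟩

end RData

end Cfsg.Agent.OddHalf.D4F4

end

-- merged: Cfsg.Agent.OddHalf.D4F4.Tri
section

/-!
# ODD, D4, `F₄(q)`: the three doubled root groups `W_r`, `W_s`, `W_{r+s}`

* `CF` : the centraliser facts; `KC` : the chart in `K`;
* **`tri_false`** : a doubled root group `W` for `r = s0` and `P~`, invariant under the elements of `K` normalising `P~`,
  `X` and centralising `h_s(μ)` modulo `P~`, does not exist if `R` has two involutions.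
-/

set_option autoImplicit false
set_option linter.unusedSectionVars false

namespace Cfsg.Agent.OddHalf.D4F4

open Subgroup Cfsg.Agent.OddHalf.D7F4Ex Cfsg.Agent.OddHalf.D7F4Ex.Loc Cfsg.Agent.OddHalf.DblR
  Cfsg.Agent.OddHalf.D7F4.Model Cfsg.Agent.Nodes.Reps

variable {F : Type*} [Field F] {G : Type*} [Group G]

/-- The group generated by the root elements `E c u`, `c ∈ S`. -/
def SupE (E : (Fin 4 → ℤ) → F → G) (S : Set (Fin 4 → ℤ)) : Subgroup G := closure {g | ∃ c ∈ S, ∃ u, g = E c u}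

theorem mem_SupE {E : (Fin 4 → ℤ) → F → G} {S : Set (Fin 4 → ℤ)} {c : Fin 4 → ℤ} (hc : c ∈ S) (u : F) :
    E c u ∈ SupE E S := subset_closure ⟨c, hc, u, rfl⟩

theorem SupE_le {E : (Fin 4 → ℤ) → F → G} {S : Set (Fin 4 → ℤ)} {H : Subgroup G} (h : ∀ c ∈ S, ∀ u, E c u ∈ H) :
    SupE E S ≤ H := by
  rw [SupE, closure_le]
  rintro _ ⟨c, hc, u, rfl⟩
  exact h c hc u

/-- The chart in `K`. -/
structure KC (K : Subgroup G) (E : (Fin 4 → ℤ) → F → G) (T : (Fin 4 → Fˣ) →* G) : Prop where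
  ch : Chart E T
  EK : ∀ a ∈ rts, ∀ u, E a u ∈ K
  TK : ∀ ν, T ν ∈ K
  ctr : ∀ z ∈ K, (∀ a ∈ rts, ∀ u, z * E a u = E a u * z) → z = 1

/-- The centraliser facts. -/
structure CF (K R : Subgroup G) (E : (Fin 4 → ℤ) → F → G) : Prop where
  k3 : ∀ c : G, (∀ a ∈ R, c * a = a * c) → (∀ x ∈ psi s0, ∀ u, c * E x u = E x u * c) →
    ∃ u, (E s0 u)⁻¹ * c ∈ C1 K R
  k2r : ∀ c : G, (∀ a ∈ R, c * a = a * c) → (∀ x ∈ psi s0 ∩ psi rd, ∀ u, c * E x u = E x u * c) →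
    ∃ u v, (E s0 u * E rd v)⁻¹ * c ∈ C1 K R
  k2s : ∀ c : G, (∀ a ∈ R, c * a = a * c) → (∀ x ∈ psi rs ∩ psi rd, ∀ u, c * E x u = E x u * c) →
    ∃ u v, (E rs u * E rd v)⁻¹ * c ∈ C1 K R
  k1 : ∀ c : G, (∀ a ∈ R, c * a = a * c) → (∀ x ∈ psi s0 ∩ psi rs, ∀ u, c * E x u = E x u * c) →
    ∃ u v w, (E s0 u * E rs v * E rd w)⁻¹ * c ∈ C1 K R

/-- the abbreviation `P~` for a chart -/
abbrev PtE (E : (Fin 4 → ℤ) → F → G) (T : (Fin 4 → Fˣ) →* G) : Subgroup G :=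
  Pt (E s0) (fun j => E (rv j)) (fun i => E (rz i)) (fun j k => E (rl j k)) (T.comp consH)

/-- elements acting on each root group by a scalar -/
def Diag (E : (Fin 4 → ℤ) → F → G) (k : G) : Prop := ∀ a ∈ rts, ∃ c : F, ∀ u, k * E a u * k⁻¹ = E a (c * u)

section

variable {K R : Subgroup G} {E : (Fin 4 → ℤ) → F → G} {T : (Fin 4 → Fˣ) →* G}

theorem mem_PtE {c : Fin 4 → ℤ} (hc : c ∈ psi s0) (u : F) : E c u ∈ PtE E T := by
  rcases psi_s0 c hc.1 hc with rfl | ⟨j, rfl⟩ | ⟨i, rfl⟩ | ⟨j, k, h, rfl⟩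
  · exact subset_closure (Or.inl (Or.inl ⟨u, rfl⟩))
  · exact subset_closure (Or.inl (Or.inr ⟨j, u, rfl⟩))
  · exact subset_closure (Or.inr (Or.inl ⟨i, u, rfl⟩))
  · exact subset_closure (Or.inr (Or.inr (Or.inl ⟨j, k, u, h, rfl⟩)))

theorem T_diag (C : Chart E T) (ν : Fin 4 → Fˣ) : Diag E (T ν) := fun a ha => ⟨_, fun u => C.tor a ha ν u⟩

/-- diagonal elements of `K` commute with the torus -/
theorem KC.diag_comm (C : KC K E T) {k : G} (hk : k ∈ K) (hd : Diag E k) (ν : Fin 4 → Fˣ) : k * T ν = T ν * k := by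
  have h1 : (T ν * k)⁻¹ * (k * T ν) = 1 := by
    apply C.ctr _ (mul_mem (inv_mem (mul_mem (C.TK ν) hk)) (mul_mem hk (C.TK ν)))
    intro a ha u
    obtain ⟨c, hc⟩ := hd a ha
    have e1 : (k * T ν) * E a u * (k * T ν)⁻¹ = (T ν * k) * E a u * (T ν * k)⁻¹ := by
      calc (k * T ν) * E a u * (k * T ν)⁻¹ = k * (T ν * E a u * (T ν)⁻¹) * k⁻¹ := by group
        _ = E a (c * ((chd ν a : F) * u)) := by rw [C.ch.tor a ha, hc]
        _ = T ν * (k * E a u * k⁻¹) * (T ν)⁻¹ := by rw [hc, C.ch.tor a ha]; congr 1; ring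
        _ = _ := by group
    calc (T ν * k)⁻¹ * (k * T ν) * E a u = (T ν * k)⁻¹ * ((k * T ν) * E a u * (k * T ν)⁻¹) * (k * T ν) := by group
      _ = (T ν * k)⁻¹ * ((T ν * k) * E a u * (T ν * k)⁻¹) * (k * T ν) := by rw [e1]
      _ = _ := by group
  exact (inv_mul_eq_one.1 h1).symm

theorem diag_Pt (C : KC K E T) {k : G} (hk : k ∈ K) (hd : Diag E k) : ∀ p ∈ PtE E T, k * p * k⁻¹ ∈ PtE E T := by
  intro p hp
  have key : ∀ c ∈ psi s0, ∀ u, k * E c u * k⁻¹ ∈ PtE E T := by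
    intro c hc u
    obtain ⟨c', h⟩ := hd c hc.1
    rw [h]; exact mem_PtE hc _
  obtain ⟨p1, p2, p3, p4⟩ := psi_s0'
  induction hp using closure_induction with
  | mem g hg =>
    rcases hg with (⟨b, rfl⟩ | ⟨j, b, rfl⟩) | ⟨i, b, rfl⟩ | ⟨j, m, b, h, rfl⟩ | ⟨ν, rfl⟩
    · exact key _ p1 _
    · exact key _ (p2 j) _
    · exact key _ (p3 i) _
    · exact key _ (p4 j m h) _
    · have h1 := C.diag_comm hk hd (consH ν)
      have h2 : k * (T.comp consH) ν * k⁻¹ = (T.comp consH) ν := by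
        show k * T (consH ν) * k⁻¹ = T (consH ν)
        rw [h1]; group
      rw [h2]
      exact subset_closure (Or.inr (Or.inr (Or.inr ⟨ν, rfl⟩)))
  | one => rw [mul_one, mul_inv_cancel]; exact one_mem _
  | mul g g' _ _ ih1 ih2 =>
    have e : k * (g * g') * k⁻¹ = (k * g * k⁻¹) * (k * g' * k⁻¹) := by group
    rw [e]; exact mul_mem ih1 ih2
  | inv g _ ih =>
    have e : k * g⁻¹ * k⁻¹ = (k * g * k⁻¹)⁻¹ := by group
    rw [e]; exact inv_mem ih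

theorem mem_Xs_iff (C : Chart E T) {a : Fin 4 → ℤ} (ha : a ∈ rts) {g : G} : g ∈ Xs (E a) ↔ ∃ u, g = E a u := by
  constructor
  · intro h
    induction h using closure_induction with
    | mem g hg => obtain ⟨u, rfl⟩ := hg; exact ⟨u, rfl⟩
    | one => exact ⟨0, (C.zero ha).symm⟩
    | mul g g' _ _ h1 h2 =>
      obtain ⟨u, rfl⟩ := h1
      obtain ⟨u', rfl⟩ := h2
      exact ⟨u + u', (C.add a ha u u').symm⟩
    | inv g _ h1 =>
      obtain ⟨u, rfl⟩ := h1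
      exact ⟨u, C.inv ha u⟩
  · rintro ⟨u, rfl⟩
    exact subset_closure ⟨u, rfl⟩

theorem EX {a : Fin 4 → ℤ} (u : F) : E a u ∈ Xs (E a) := subset_closure ⟨u, rfl⟩

/-- conjugation by `n_a` -/
theorem nrf_inv (C : Chart E T) {a b : Fin 4 → ℤ} (ha : a ∈ rts) (hb : b ∈ rts) (u : F) :
    (nE E a)⁻¹ * E b u * nE E a = E (rfl' a b) u := by
  have h1 := C.nrf a ha (rfl' a b) (rfl_mem a ha b hb) u
  rw [rfl_rfl a ha b hb] at h1
  rw [← h1]; group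

theorem cj_X (C : Chart E T) {a b : Fin 4 → ℤ} (ha : a ∈ rts) (hb : b ∈ rts) :
    cj (nE E a) (Xs (E b)) = Xs (E (rfl' a b)) := by
  ext g
  rw [mem_cj, mem_Xs_iff C hb, mem_Xs_iff C (rfl_mem a ha b hb)]
  constructor
  · rintro ⟨u, h⟩
    refine ⟨u, ?_⟩
    rw [← C.nrf a ha b hb u, ← h]; group
  · rintro ⟨u, rfl⟩
    refine ⟨u, ?_⟩
    rw [nrf_inv C ha (rfl_mem a ha b hb), rfl_rfl a ha b hb]

theorem KC.nK (C : KC K E T) {a : Fin 4 → ℤ} (ha : a ∈ rts) (ha' : -a ∈ rts) : nE E a ∈ K :=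
  mul_mem (mul_mem (C.EK a ha 1) (C.EK _ ha' 1)) (C.EK a ha 1)

/-- `Diag` is invariant under the `n_a` -/
theorem diag_n (C : Chart E T) {a : Fin 4 → ℤ} (ha : a ∈ rts) {k : G} (hd : Diag E k) :
    Diag E ((nE E a)⁻¹ * k * nE E a) := by
  intro b hb
  obtain ⟨c, hc⟩ := hd _ (rfl_mem a ha b hb)
  refine ⟨c, fun u => ?_⟩
  calc (nE E a)⁻¹ * k * nE E a * E b u * ((nE E a)⁻¹ * k * nE E a)⁻¹
      = (nE E a)⁻¹ * (k * (nE E a * E b u * (nE E a)⁻¹) * k⁻¹) * nE E a := by group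
    _ = (nE E a)⁻¹ * E (rfl' a b) (c * u) * nE E a := by rw [C.nrf a ha b hb, hc]
    _ = E b (c * u) := by rw [nrf_inv C ha (rfl_mem a ha b hb), rfl_rfl a ha b hb]

theorem diag_n' (C : Chart E T) {a : Fin 4 → ℤ} (ha : a ∈ rts) {k : G} (hd : Diag E k) :
    Diag E (nE E a * k * (nE E a)⁻¹) := by
  intro b hb
  obtain ⟨c, hc⟩ := hd _ (rfl_mem a ha b hb)
  refine ⟨c, fun u => ?_⟩
  calc nE E a * k * (nE E a)⁻¹ * E b u * (nE E a * k * (nE E a)⁻¹)⁻¹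
      = nE E a * (k * ((nE E a)⁻¹ * E b u * nE E a) * k⁻¹) * (nE E a)⁻¹ := by group
    _ = nE E a * E (rfl' a b) (c * u) * (nE E a)⁻¹ := by rw [nrf_inv C ha hb, hc]
    _ = E b (c * u) := by rw [C.nrf a ha _ (rfl_mem a ha b hb), rfl_rfl a ha b hb]

theorem comm_nE {g : G} {a : Fin 4 → ℤ} (h1 : g * E a 1 = E a 1 * g) (h2 : g * E (-a) 1 = E (-a) 1 * g) :
    g * nE E a = nE E a * g := by
  have e1 : Commute g (E a 1) := h1
  have e2 : Commute g (E (-a) 1) := h2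
  exact (e1.mul_right e2).mul_right e1

theorem dd_neg (x : Fin 4 → ℤ) : dd (-x) = -dd x := by
  have h := dd_add x (-x)
  have h0 : dd (0 : Fin 4 → ℤ) = 0 := by
    have := dd_add 0 0
    rw [add_zero] at this
    exact left_eq_add.1 this
  rw [add_neg_cancel, h0] at h
  exact (neg_eq_of_add_eq_zero_right h.symm).symm

theorem chd_neg (ν : Fin 4 → Fˣ) (x : Fin 4 → ℤ) : chd ν (-x) = (chd ν x)⁻¹ := by
  have h := chd_add ν x (-x)
  have h0 : chd ν (0 : Fin 4 → ℤ) = 1 := by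
    have := chd_add ν 0 0
    rw [add_zero] at this
    exact mul_eq_left.1 this.symm
  rw [add_neg_cancel, h0] at h
  exact (inv_eq_of_mul_eq_one_right h.symm).symm

/-- invariance of groups `SupE` under a root group -/
theorem inv_SupE (C : Chart E T) {S : Set (Fin 4 → ℤ)} (hS : S ⊆ rts.toFinset) {b : Fin 4 → ℤ} (hb : b ∈ rts)
    (hb2 : B b b = 2)
    (hc : ∀ c ∈ S, B b c < 0 → (B c c = 2 ∧ b ≠ -c ∧ b + c ∈ S) ∨
      (B c c = 4 ∧ B c b = -2 ∧ c + b ∈ S ∧ c + b + b ∈ S)) :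
    ∀ x ∈ Xs (E b), ∀ y ∈ SupE E S, x * y * x⁻¹ ∈ SupE E S := by
  intro x hx y hy
  obtain ⟨a, rfl⟩ := (mem_Xs_iff C hb).1 hx
  induction hy using closure_induction with
  | mem g hg =>
    obtain ⟨c, hcS, u, rfl⟩ := hg
    have hcr : c ∈ rts := List.mem_toFinset.1 (hS hcS)
    by_cases h : 0 ≤ B b c
    · rw [C.c0 b hb c hcr h, mul_inv_cancel_right]
      exact mem_SupE hcS u
    · rcases hc c hcS (not_le.1 h) with ⟨h1, h2, h3⟩ | ⟨h1, h2, h3, h4⟩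
      · rw [C.conj1 hb hcr (by rw [hb2, h1]) (not_le.1 h) h2]
        exact mul_mem (mem_SupE h3 _) (mem_SupE hcS _)
      · rw [C.conj2' hcr hb h1 hb2 h2]
        exact mul_mem (mul_mem (mem_SupE h3 _) (mem_SupE h4 _)) (mem_SupE hcS _)
  | one => rw [mul_one, mul_inv_cancel]; exact one_mem _
  | mul g g' _ _ ih1 ih2 =>
    have e : E b a * (g * g') * (E b a)⁻¹ = (E b a * g * (E b a)⁻¹) * (E b a * g' * (E b a)⁻¹) := by group
    rw [e]; exact mul_mem ih1 ih2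
  | inv g _ ih =>
    have e : E b a * g⁻¹ * (E b a)⁻¹ = (E b a * g * (E b a)⁻¹)⁻¹ := by group
    rw [e]; exact inv_mem ih

theorem chd_s0 (ν : Fin 4 → Fˣ) : chd ν s0 = ν 0 ^ 2 := by
  rw [chd_eq, dd_s0]
  show ν 0 ^ (2 : ℤ) * ν 1 ^ (0 : ℤ) * ν 2 ^ (0 : ℤ) * ν 3 ^ (0 : ℤ) = _
  rw [zpow_zero, zpow_zero, zpow_zero, mul_one, mul_one, mul_one]
  exact zpow_natCast _ 2

theorem chd_rs (ν : Fin 4 → Fˣ) : chd ν rs = (ν 0)⁻¹ * ν 1 * ν 2 * ν 3 := by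
  rw [chd_eq, dd_rs]
  show ν 0 ^ (-1 : ℤ) * ν 1 ^ (1 : ℤ) * ν 2 ^ (1 : ℤ) * ν 3 ^ (1 : ℤ) = _
  rw [zpow_neg_one, zpow_one, zpow_one, zpow_one]

/-- The commutator of `E r u` and `E s v`. -/
theorem comm_rs (C : Chart E T) (u v : F) : E s0 u * E rs v * (E s0 u)⁻¹ * (E rs v)⁻¹ = E rd (u * v) := by
  rw [C.c1 s0 s0_mem rs rs_mem (by rw [n_s0, n_rs]) (by rw [b_rs]; norm_num) ne_rs, e_rs]

/-- **No three doubled root groups if `R` has two involutions.** -/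
theorem tri_false [Finite F] [Finite G] (C : KC K E T) (A : Amb K R) (cf : CF K R E) {μ : Fˣ} {W : Subgroup G}
    (D : DW K R (PtE E T) (Xs (E s0)) W)
    (hW : ∀ k ∈ K, (∃ p ∈ PtE E T, k * T (oneH μ) * k⁻¹ = T (oneH μ) * p) →
        (∀ p ∈ PtE E T, k * p * k⁻¹ ∈ PtE E T) → (∀ x ∈ Xs (E s0), k * x * k⁻¹ ∈ Xs (E s0)) →
        ∀ w ∈ W, k * w * k⁻¹ ∈ W)
    {t t' : G} (ht : t ∈ R) (ht1 : t ≠ 1) (ht' : t' ∈ R) (ht1' : t' ≠ 1) (hne : t' ≠ t) : False := by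
  have hC := C.ch
  have hnegs : -rs ∈ rts := neg_mem rs rs_mem
  have hnegr : -s0 ∈ rts := neg_mem s0 s0_mem
  set n := nE E rs with hn
  set m := nE E s0 with hm
  have hnK : n ∈ K := C.nK rs_mem hnegs
  have hmK : m ∈ K := C.nK s0_mem hnegr
  have hkK : m⁻¹ * n ∈ K := mul_mem (inv_mem hmK) hnK
  have hnX : cj n (Xs (E s0)) = Xs (E rd) := by rw [hn, cj_X hC rs_mem s0_mem, f_dr]
  have hmX : cj m (Xs (E rs)) = Xs (E rd) := by rw [hm, cj_X hC s0_mem rs_mem, g_ds]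
  have hkX : cj (m⁻¹ * n) (Xs (E s0)) = Xs (E rs) := by
    rw [cj_mul, hnX, ← hmX, cj_inv_cj]
  -- diagonal elements normalise `W`
  have hWd : ∀ k ∈ K, Diag E k → ∀ w ∈ W, k * w * k⁻¹ ∈ W := by
    intro k hk hd
    refine hW k hk ⟨1, one_mem _, ?_⟩ (diag_Pt C hk hd) ?_
    · rw [C.diag_comm hk hd]; group
    · intro x hx
      obtain ⟨u, rfl⟩ := (mem_Xs_iff hC s0_mem).1 hx
      obtain ⟨c, hc⟩ := hd s0 s0_mem
      rw [hc]; exact EX _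
  have hTX : ∀ a ∈ rts, ∀ h ∈ T.range, ∀ x ∈ Xs (E a), h * x * h⁻¹ ∈ Xs (E a) := by
    rintro a ha _ ⟨ν, rfl⟩ x hx
    obtain ⟨u, rfl⟩ := (mem_Xs_iff hC ha).1 hx
    rw [hC.tor a ha]; exact EX _
  have hTK : T.range ≤ K := by rintro _ ⟨ν, rfl⟩; exact C.TK ν
  -- elements of `P_d`, `P_s`
  have inPd : ∀ c ∈ psi rd, ∀ u, E c u ∈ cj n (PtE E T) := by
    intro c hc u
    rw [mem_cj, hn, nrf_inv hC rs_mem hc.1]
    exact mem_PtE (psi_d c hc.1 hc) u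
  have inPs : ∀ c ∈ psi rs, ∀ u, E c u ∈ cj (m⁻¹ * n) (PtE E T) := by
    intro c hc u
    rw [mem_cj]
    have e : (m⁻¹ * n)⁻¹ * E c u * (m⁻¹ * n) = n⁻¹ * (m * E c u * m⁻¹) * n := by group
    rw [e, hm, hC.nrf s0 s0_mem c hc.1, hn, nrf_inv hC rs_mem (rfl_mem s0 s0_mem c hc.1)]
    exact mem_PtE (psi_s c hc.1 hc) u
  have hXle : ∀ {a : Fin 4 → ℤ} {H : Subgroup G}, (∀ u, E a u ∈ H) → Xs (E a) ≤ H := by
    intro a H h
    rw [Xs, closure_le]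
    rintro _ ⟨u, rfl⟩
    exact h u
  have hinv : ∀ {k x : G} {A B : Subgroup G}, cj k A = B → x ∈ A → k * x * k⁻¹ ∈ B := by
    intro k x A B h hx
    rw [← h]
    exact conj_mem_cj.2 hx
  have hinv' : ∀ {k x : G} {A B : Subgroup G}, cj k A = B → x ∈ B → k⁻¹ * x * k ∈ A := by
    intro k x A B h hx
    rw [← h] at hx
    exact mem_cj.1 hx
  have hwn : ∀ h ∈ T.range, ∀ w ∈ cj n W, h * w * h⁻¹ ∈ cj n W := by
    rintro _ ⟨ν, rfl⟩ w hw
    rw [mem_cj] at hw ⊢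
    have h1 := hWd (n⁻¹ * T ν * n) (mul_mem (mul_mem (inv_mem hnK) (C.TK ν)) hnK)
      (diag_n hC rs_mem (T_diag hC ν)) _ hw
    have e : n⁻¹ * T ν * n * (n⁻¹ * w * n) * (n⁻¹ * T ν * n)⁻¹ = n⁻¹ * (T ν * w * (T ν)⁻¹) * n := by group
    rwa [e] at h1
  have hwk : ∀ h ∈ T.range, ∀ w ∈ cj (m⁻¹ * n) W, h * w * h⁻¹ ∈ cj (m⁻¹ * n) W := by
    rintro _ ⟨ν, rfl⟩ w hw
    rw [mem_cj] at hw ⊢
    have hd : Diag E (n⁻¹ * (m * T ν * m⁻¹) * n) := diag_n hC rs_mem (diag_n' hC s0_mem (T_diag hC ν))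
    have h1 := hWd (n⁻¹ * (m * T ν * m⁻¹) * n)
      (mul_mem (mul_mem (inv_mem hnK) (mul_mem (mul_mem hmK (C.TK ν)) (inv_mem hmK))) hnK) hd _ hw
    have e : n⁻¹ * (m * T ν * m⁻¹) * n * ((m⁻¹ * n)⁻¹ * w * (m⁻¹ * n)) * (n⁻¹ * (m * T ν * m⁻¹) * n)⁻¹ =
        (m⁻¹ * n)⁻¹ * (T ν * w * (T ν)⁻¹) * (m⁻¹ * n) := by group
    rwa [e] at h1
  obtain ⟨μ0, hμ0⟩ := hC.big
  have hbig : ∀ a ∈ rts, ∃ x ∈ Xs (E a), ∃ x' ∈ Xs (E a), x ≠ 1 ∧ x' ≠ 1 ∧ x ≠ x' := by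
    intro a ha
    refine ⟨E a 1, EX _, E a μ0, EX _, fun h => one_ne_zero (hC.inj a ha 1 h), fun h => μ0.ne_zero (hC.inj a ha _ h),
      fun h => ?_⟩
    have h1 : E a (1 + μ0) = 1 := by rw [hC.add a ha, h, hC.sq ha]
    have h2 := hC.inj a ha _ h1
    apply hμ0
    apply Units.ext
    exact (hC.loc.add_eq_zero h2).symm
  have hdis : ∀ a ∈ rts, ∀ b ∈ rts, a ≠ b → ∀ x ∈ Xs (E a), x ∈ Xs (E b) → x = 1 := by
    intro a ha b hb hab x hx hx'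
    obtain ⟨u, rfl⟩ := (mem_Xs_iff hC ha).1 hx
    obtain ⟨v, h⟩ := (mem_Xs_iff hC hb).1 hx'
    rw [h, hC.sep a ha b hb hab u v h, hC.zero hb]
  have hSupc : ∀ {S : Set (Fin 4 → ℤ)} {c : G}, (∀ y ∈ SupE E S, c * y = y * c) → ∀ x ∈ S, ∀ u, c * E x u = E x u * c :=
    fun hc x hx u => hc _ (mem_SupE hx u)
  have hTc : ∀ (ν : Fin 4 → Fˣ) {a : Fin 4 → ℤ}, a ∈ rts → chd ν a = 1 → ∀ x ∈ Xs (E a), T ν * x = x * T ν := by
    intro ν a ha h x hx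
    obtain ⟨u, rfl⟩ := (mem_Xs_iff hC ha).1 hx
    exact hC.tor_comm ha h u
  have hTn : ∀ (ν : Fin 4 → Fˣ) {a : Fin 4 → ℤ}, a ∈ rts → -a ∈ rts → chd ν a = 1 → T ν * nE E a = nE E a * T ν := by
    intro ν a ha ha' h
    exact comm_nE (hC.tor_comm ha h 1) (hC.tor_comm ha' (by rw [chd_neg, h, inv_one]) 1)
  have key : Tri K R T.range (Xs (E s0)) (Xs (E rs)) (Xs (E rd)) W (cj (m⁻¹ * n) W) (cj n W) (PtE E T)
      (cj (m⁻¹ * n) (PtE E T)) (cj n (PtE E T)) (SupE E (psi s0 ∩ psi rd)) (SupE E (psi rs ∩ psi rd))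
      (SupE E (psi s0 ∩ psi rs)) n m := by
    refine
      { A := A
        Dr := D
        Ds := by rw [← hkX]; exact D.conj A hkK
        Dd := by rw [← hnX]; exact D.conj A hnK
        XrPd := hXle fun u => inPd _ r_psi_d u
        XsPd := hXle fun u => inPd _ s_psi_d u
        XdPr := hXle fun u => mem_PtE d_psi_r u
        XdPs := hXle fun u => inPs _ d_psi_s u
        TK := hTK
        Tab := ?_
        Todd := ?_
        TXr := hTX s0 s0_mem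
        TXs := hTX rs rs_mem
        TXd := hTX rd rd_mem
        TWr := ?_
        TWs := hwk
        TWd := hwn
        nK := hnK
        nX := fun x hx => hinv hnX hx
        nX' := fun x hx => hinv' hnX hx
        nW' := fun x hx => hinv' rfl hx
        mK := hmK
        mX := fun x hx => hinv hmX hx
        mX' := fun x hx => hinv' hmX hx
        mW' := fun x hx => hinv' (by rw [cj_mul, cj_cj_inv]) hx
        trr := ?_
        trs := ?_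
        cmX := ?_
        nd := ?_
        bigr := hbig s0 s0_mem
        bigs := hbig rs rs_mem
        disr := hdis s0 s0_mem rd rd_mem ne_rd
        diss := hdis rs rs_mem rd rd_mem ne_sd
        YrPr := SupE_le fun c hc u => mem_PtE hc.1 u
        YrPd := SupE_le fun c hc u => inPd c hc.2 u
        YrN := ?_
        K2r := ?_
        YsPs := SupE_le fun c hc u => inPs c hc.1 u
        YsPd := SupE_le fun c hc u => inPd c hc.2 u
        YsN := ?_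
        K2s := ?_
        YPr := SupE_le fun c hc u => mem_PtE hc.1 u
        YPs := SupE_le fun c hc u => inPs c hc.2 u
        YPd := SupE_le fun c hc u => inPd c (psi_rs c hc.1.1 hc.1 hc.2) u
        K1 := ?_ }
    · rintro _ ⟨ν, rfl⟩ _ ⟨ν', rfl⟩
      rw [← map_mul, ← map_mul, mul_comm]
    · rintro _ ⟨ν, rfl⟩
      refine ⟨Nat.card Fˣ, hC.loc.odd_card, ?_⟩
      rw [← map_pow]
      have : ν ^ Nat.card Fˣ = 1 := by
        funext i
        rw [Pi.pow_apply, pow_card_eq_one']; rfl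
      rw [this, map_one]
    · rintro _ ⟨ν, rfl⟩ w hw
      exact hWd _ (C.TK ν) (T_diag hC ν) w hw
    · intro x hx hx1 x' hx' hx1'
      obtain ⟨a, rfl⟩ := (mem_Xs_iff hC s0_mem).1 hx
      obtain ⟨a', rfl⟩ := (mem_Xs_iff hC s0_mem).1 hx'
      have ha : a ≠ 0 := fun h => hx1 (by rw [h, hC.zero s0_mem])
      have ha' : a' ≠ 0 := fun h => hx1' (by rw [h, hC.zero s0_mem])
      obtain ⟨β, hβ⟩ := hC.loc.exists_sqrt_unit (Units.mk0 a' ha' * (Units.mk0 a ha)⁻¹)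
      have h1 : chd ![β, β, 1, 1] rs = 1 := by
        rw [chd_rs]
        show β⁻¹ * β * 1 * 1 = 1
        rw [inv_mul_cancel, one_mul, one_mul]
      refine ⟨T ![β, β, 1, 1], ⟨_, rfl⟩, hTc _ rs_mem h1, hTn _ rs_mem hnegs h1, ?_⟩
      rw [hC.tor s0 s0_mem, chd_s0]
      show E s0 (((β ^ 2 : Fˣ) : F) * a) = _
      rw [hβ, Units.val_mul, Units.val_mk0, Units.val_inv_eq_inv_val, Units.val_mk0, mul_assoc, inv_mul_cancel₀ ha,
        mul_one]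
    · intro x hx hx1 x' hx' hx1'
      obtain ⟨a, rfl⟩ := (mem_Xs_iff hC rs_mem).1 hx
      obtain ⟨a', rfl⟩ := (mem_Xs_iff hC rs_mem).1 hx'
      have ha : a ≠ 0 := fun h => hx1 (by rw [h, hC.zero rs_mem])
      have ha' : a' ≠ 0 := fun h => hx1' (by rw [h, hC.zero rs_mem])
      set β : Fˣ := Units.mk0 a' ha' * (Units.mk0 a ha)⁻¹ with hβ
      have h1 : chd ![1, β, 1, 1] s0 = 1 := by
        rw [chd_s0]
        show (1 : Fˣ) ^ 2 = 1
        rw [one_pow]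
      refine ⟨T ![1, β, 1, 1], ⟨_, rfl⟩, hTc _ s0_mem h1, hTn _ s0_mem hnegr h1, ?_⟩
      rw [hC.tor rs rs_mem, chd_rs]
      show E rs ((((1 : Fˣ)⁻¹ * β * 1 * 1 : Fˣ) : F) * a) = _
      rw [inv_one, one_mul, mul_one, mul_one, hβ, Units.val_mul, Units.val_mk0, Units.val_inv_eq_inv_val, Units.val_mk0,
        mul_assoc, inv_mul_cancel₀ ha, mul_one]
    · intro x hx y hy
      obtain ⟨a, rfl⟩ := (mem_Xs_iff hC s0_mem).1 hx
      obtain ⟨b, rfl⟩ := (mem_Xs_iff hC rs_mem).1 hy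
      rw [cm_def, comm_rs hC]
      exact EX _
    · intro x hx y hy h
      obtain ⟨a, rfl⟩ := (mem_Xs_iff hC s0_mem).1 hx
      obtain ⟨b, rfl⟩ := (mem_Xs_iff hC rs_mem).1 hy
      have h1 := comm_rs hC a b
      rw [h] at h1
      have h2 := hC.inj rd rd_mem (a * b) (by rw [← h1]; group)
      rcases mul_eq_zero.1 h2 with h3 | h3
      · left; rw [h3, hC.zero s0_mem]
      · right; rw [h3, hC.zero rs_mem]
    · refine inv_SupE hC (fun c hc => List.mem_toFinset.2 hc.1.1) rs_mem n_rs fun c hc h => ?_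
      rcases inv_s c hc.1.1 hc.1 hc.2 h with ⟨h1, h2, h3, h4⟩ | ⟨h1, h2, h3, h4, h5, h6⟩
      · exact Or.inl ⟨h1, h2, h3, h4⟩
      · exact Or.inr ⟨h1, h2, ⟨h3, h4⟩, h5, h6⟩
    · intro c hc hcY
      obtain ⟨u, v, h⟩ := cf.k2r c hc (hSupc hcY)
      exact ⟨_, EX u, _, EX v, h⟩
    · refine inv_SupE hC (fun c hc => List.mem_toFinset.2 hc.1.1) s0_mem n_s0 fun c hc h => ?_
      rcases inv_r c hc.1.1 hc.1 hc.2 h with ⟨h1, h2, h3, h4⟩ | ⟨h1, h2, h3, h4, h5, h6⟩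
      · exact Or.inl ⟨h1, h2, h3, h4⟩
      · exact Or.inr ⟨h1, h2, ⟨h3, h4⟩, h5, h6⟩
    · intro c hc hcY
      obtain ⟨u, v, h⟩ := cf.k2s c hc (hSupc hcY)
      exact ⟨_, EX u, _, EX v, h⟩
    · intro c hc hcr hcs hcY
      obtain ⟨u, v, w, h⟩ := cf.k1 c hc (hSupc hcY)
      have hK := (mem_C1.1 h).1
      set y := (E s0 u * E rs v * E rd w)⁻¹ * c with hy
      have hcy : c = E s0 u * E rs v * E rd w * y := by rw [hy]; group
      -- `E s0 u * E rs v * E rd w` commutes with `X_r`, `X_s`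
      have hz : ∀ x ∈ K, c * x = x * c → (E s0 u * E rs v * E rd w) * x = x * (E s0 u * E rs v * E rd w) := by
        intro x hx h1
        have h2 := hK x hx
        rw [hcy] at h1
        apply mul_right_cancel (b := y)
        calc E s0 u * E rs v * E rd w * x * y = E s0 u * E rs v * E rd w * (y * x) := by rw [h2]; group
          _ = x * (E s0 u * E rs v * E rd w) * y := by rw [← mul_assoc, h1]; group
      have hds : ∀ a b, E rd a * E rs b = E rs b * E rd a := fun a b => hC.c0 rd rd_mem rs rs_mem (by decide +kernel) a b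
      have hdr : ∀ a b, E rd a * E s0 b = E s0 b * E rd a := fun a b => hC.c0 rd rd_mem s0 s0_mem (by decide +kernel) a b
      have h1 := hz (E rs 1) (C.EK rs rs_mem 1) (hcs _ (EX 1))
      have h2 : E s0 u * E rs 1 = E rs 1 * E s0 u := by
        have e1 : E rs v * E rs 1 = E rs 1 * E rs v := by rw [← hC.add rs rs_mem, ← hC.add rs rs_mem, add_comm]
        apply mul_right_cancel (b := E rs v * E rd w)
        calc E s0 u * E rs 1 * (E rs v * E rd w) = E s0 u * (E rs 1 * E rs v) * E rd w := by group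
          _ = E s0 u * E rs v * (E rs 1 * E rd w) := by rw [← e1]; group
          _ = E s0 u * E rs v * E rd w * E rs 1 := by rw [← hds]; group
          _ = E rs 1 * (E s0 u * E rs v * E rd w) := h1
          _ = _ := by group
      have h3 := comm_rs hC u 1
      rw [h2] at h3
      have h4 := hC.inj rd rd_mem (u * 1) (by rw [← h3]; group)
      rw [mul_one] at h4
      have h5 := hz (E s0 1) (C.EK s0 s0_mem 1) (hcr _ (EX 1))
      rw [h4, hC.zero s0_mem, one_mul] at h5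
      have h6 : E s0 1 * E rs v = E rs v * E s0 1 := by
        apply mul_right_cancel (b := E rd w)
        calc E s0 1 * E rs v * E rd w = E rs v * E rd w * E s0 1 := by rw [h5]; group
          _ = E rs v * E s0 1 * E rd w := by rw [mul_assoc, hdr]; group
      have h7 := comm_rs hC 1 v
      rw [h6] at h7
      have h8 := hC.inj rd rd_mem (1 * v) (by rw [← h7]; group)
      rw [one_mul] at h8
      refine ⟨E rd w, EX w, ?_⟩
      have h9 : (E rd w)⁻¹ * c = y := by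
        rw [hy, h4, h8, hC.zero s0_mem, hC.zero rs_mem, one_mul, one_mul]
      rw [h9]; exact h
  exact hne (key.eq_of_ne_one ht ht1 ht' ht1')

end

end Cfsg.Agent.OddHalf.D4F4

end

-- merged: Cfsg.Agent.OddHalf.D4F4.End
section

/-!
# ODD, D4, `F₄(q)`: no commuting pair of root type, chart form

* `KP` : the facts on `K` which are used besides the chart: `P_s` perfect, `C_K(x) ≤ P_s`, `P_s` determines `Q_s`;
* **`no_pair`** : `R` has at least two involutions, there is no commuting pair of root type for the root `s0`.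
-/

set_option autoImplicit false
set_option linter.unusedSectionVars false

namespace Cfsg.Agent.OddHalf.D4F4

open Subgroup Cfsg.Agent.OddHalf.D7F4Ex Cfsg.Agent.OddHalf.D7F4Ex.Loc Cfsg.Agent.OddHalf.DblR
  Cfsg.Agent.OddHalf.D7F4.Model Cfsg.Agent.Nodes.Reps
open scoped commutatorElement

variable {F : Type*} [Field F] {G : Type*} [Group G]

/-- `P_s` of a chart -/
abbrev PE (E : (Fin 4 → ℤ) → F → G) (T : (Fin 4 → Fˣ) →* G) : Subgroup G :=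
  Ps (E s0) (fun j => E (rv j)) (fun i => E (rz i)) (fun j => E (rc j)) (fun j k => E (rl j k)) (T.comp consH)

/-- `Q_s` of a chart -/
abbrev QE (E : (Fin 4 → ℤ) → F → G) : Subgroup G := Qs (E s0) (fun j => E (rv j)) (fun i => E (rz i))

/-- `V_s = Z(Q_s)` of a chart -/
abbrev VE (E : (Fin 4 → ℤ) → F → G) : Subgroup G := Vs (E s0) (fun j => E (rv j))

/-- The facts on `K`. -/
structure KP (K : Subgroup G) (E : (Fin 4 → ℤ) → F → G) (T : (Fin 4 → Fˣ) →* G) : Prop extends KC K E T where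
  perf : PE E T ≤ ⁅PE E T, PE E T⁆
  cent : ∀ x ∈ Xs (E s0), x ≠ 1 → ∀ y ∈ K, y * x = x * y → y ∈ PE E T
  core : ∀ g : G, cj g (PE E T) = PE E T → cj g (QE E) ≤ QE E

theorem cj_eq_of_le' {g : G} {S : Subgroup G} (h1 : cj g S ≤ S) (h2 : cj g⁻¹ S ≤ S) : cj g S = S := by
  apply le_antisymm h1
  have := cj_mono g h2
  rwa [cj_cj_inv] at this

theorem cj_inv_eq' {g : G} {S : Subgroup G} (h1 : cj g S = S) : cj g⁻¹ S = S := by
  conv_lhs => rw [← h1]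
  exact cj_inv_cj g S

section

variable {K R : Subgroup G} {E : (Fin 4 → ℤ) → F → G} {T : (Fin 4 → Fˣ) →* G}

theorem KP.coreQ (C : KP K E T) {g : G} (h : cj g (PE E T) = PE E T) : cj g (QE E) = QE E :=
  cj_eq_of_le' (C.core g h) (C.core _ (cj_inv_eq' h))

theorem X_eq_comm (C : Chart E T) : ⁅QE E, QE E⁆ = Xs (E s0) := by
  apply le_antisymm
  · rw [commutator_le]
    intro a ha b hb
    rw [commutatorElement_def]
    exact C.loc.QQ ha hb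
  · exact C.loc.X_le_comm

theorem cj_X_of_Q (C : Chart E T) {g : G} (h : cj g (QE E) = QE E) : cj g (Xs (E s0)) = Xs (E s0) := by
  rw [← X_eq_comm C, cj_commutator, h]

theorem cj_V_of_Q (C : Chart E T) {g : G} (h : cj g (QE E) = QE E) : cj g (VE E) = VE E := by
  have key : ∀ g : G, cj g (QE E) = QE E → cj g (VE E) ≤ VE E := by
    intro g h x hx
    rw [mem_cj] at hx
    have hxQ : x ∈ QE E := by
      rw [← h, mem_cj]; exact V_le_Q hx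
    refine C.loc.ZQ hxQ fun y hy => ?_
    have hy : y ∈ cj g (QE E) := by rw [h]; exact hy
    rw [mem_cj] at hy
    have := C.loc.VQ hx hy
    calc x * y = g * ((g⁻¹ * x * g) * (g⁻¹ * y * g)) * g⁻¹ := by group
      _ = g * ((g⁻¹ * y * g) * (g⁻¹ * x * g)) * g⁻¹ := by rw [this]
      _ = y * x := by group
  exact cj_eq_of_le' (key g h) (key _ (cj_inv_eq' h))

theorem PE_le (C : KC K E T) : PE E T ≤ K := by
  rw [PE, Ps, closure_le]
  rintro g ((⟨b, rfl⟩ | ⟨j, b, rfl⟩) | ⟨i, b, rfl⟩ | ⟨j, b, rfl⟩ | ⟨j, k, b, h, rfl⟩ | ⟨ν, rfl⟩)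
  · exact C.EK _ s0_mem _
  · exact C.EK _ (rv_mem j) _
  · exact C.EK _ (rz_mem i) _
  · exact C.EK _ (rc_mem j) _
  · exact C.EK _ (rl_mem j k h) _
  · exact C.TK _

theorem d1_v : ∀ j, dd (rv j) 0 = 2 := by decide +kernel
theorem d1_z : ∀ i, dd (rz i) 0 = 1 := by decide +kernel
theorem d1_c : ∀ j, dd (rc j) 0 = 0 := by decide +kernel
theorem d1_l : ∀ j k : J, j.1 ≠ k.1 → dd (rl j k) 0 = 0 := by decide +kernel

theorem cj_sup_eq {X : Subgroup G} {n : G} [Finite G] (h1 : ∀ x ∈ X, n * x * n⁻¹ ∈ X)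
    (h2 : ∀ t ∈ R, t * (n * t * n⁻¹) ∈ X) : cj n (R ⊔ X) = R ⊔ X := by
  have h3 : cj n (R ⊔ X) ≤ R ⊔ X := by
    rw [cj_sup]
    refine sup_le ?_ ?_
    · intro y hy
      rw [mem_cj] at hy
      have h4 := h2 _ hy
      set t := n⁻¹ * y * n with ht
      have e : y = t⁻¹ * (t * (n * t * n⁻¹)) := by rw [ht]; group
      rw [e]
      exact mul_mem (mem_sup_left (inv_mem hy)) (mem_sup_right h4)
    · intro y hy
      rw [mem_cj] at hy
      have h4 := h1 _ hy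
      have e : n * (n⁻¹ * y * n) * n⁻¹ = y := by group
      rw [e] at h4
      exact mem_sup_right h4
  have h5 : Nat.card ↥(cj n (R ⊔ X)) = Nat.card ↥(R ⊔ X) :=
    (Nat.card_congr ((R ⊔ X).equivMapOfInjective _ (MulAut.conj n).injective).toEquiv).symm
  exact Subgroup.eq_of_le_of_card_ge h3 h5.ge

variable [Finite F] [Finite G]

/-- `res S = P` for `R < S ≤ R X` -/
theorem KP.res_eq (C : KP K E T) (A : Amb K R)
    (hout : ∀ H : Subgroup G, H ≤ normalizer (K : Set G) → H ≤ ⁅H, H⁆ →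
      ∀ x ∈ H, ∃ k ∈ K, ∃ c : G, (∀ y ∈ K, c * y = y * c) ∧ x = k * c)
    (hC1 : ∀ H : Subgroup G, H ≤ C1 K R → H ≤ ⁅H, H⁆ → H = ⊥) (hR : ∃ t ∈ R, t ≠ 1)
    (S : Subgroup G) (h1 : R ≤ S) (h2 : S ≤ R ⊔ Xs (E s0)) (h3 : ¬ S ≤ R) : res S = PE E T := by
  have hPK := PE_le C.toKC
  refine DblR.res_eq A (fun p hp x hx => (C.ch.loc.XP hx hp).symm) hPK ?_ hR C.perf hout hC1 ?_ S h1 h2 h3
  · exact (X_le_V (v := fun j => E (rv j))).trans ((V_le_Q (z := fun i => E (rz i))).trans (Q_le_P.trans hPK))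
  · intro x hx hx1 H hH hHx _ y hy
    exact C.cent x hx hx1 y (hH hy) (hHx y hy)

theorem XE_le (C : KC K E T) : Xs (E s0) ≤ K := by
  rw [Xs, closure_le]
  rintro _ ⟨u, rfl⟩
  exact C.EK _ s0_mem u

theorem X_not_le_R (C : KC K E T) (A : Amb K R) : ¬ Xs (E s0) ≤ R := by
  intro h
  have h1 := h (EX (E := E) 1)
  have h2 := A.ctr _ (C.EK s0 s0_mem 1) fun x hx => A.comm _ h1 x hx
  exact one_ne_zero (C.ch.inj s0 s0_mem 1 h2)

theorem KP.rdata (C : KP K E T) (A : Amb K R) (cf : CF K R E)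
    (two : ∀ c ∈ C1 K R, IsPGroup 2 (zpowers c) → c ∈ R)
    (hout : ∀ H : Subgroup G, H ≤ normalizer (K : Set G) → H ≤ ⁅H, H⁆ →
      ∀ x ∈ H, ∃ k ∈ K, ∃ c : G, (∀ y ∈ K, c * y = y * c) ∧ x = k * c)
    (hC1 : ∀ H : Subgroup G, H ≤ C1 K R → H ≤ ⁅H, H⁆ → H = ⊥) (hR : ∃ t ∈ R, t ≠ 1) :
    RData K R (T.comp oneH) (E s0) (fun j => E (rv j)) (fun i => E (rz i)) (fun j => E (rc j)) (fun j k => E (rl j k))
      (T.comp consH) where
  amb := A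
  PK := PE_le C.toKC
  hK := fun μ => C.TK _
  hs_x0 := fun μ a => by
    show T (oneH μ) * E s0 a * (T (oneH μ))⁻¹ = _
    rw [C.ch.tor _ s0_mem, chd_oneH, dd_s0]
    congr 2
  hs_v := fun μ j a => by
    show T (oneH μ) * E (rv j) a * (T (oneH μ))⁻¹ = _
    rw [C.ch.tor _ (rv_mem j), chd_oneH, d1_v]
    congr 2
  hs_z := fun μ i a => by
    show T (oneH μ) * E (rz i) a * (T (oneH μ))⁻¹ = _
    rw [C.ch.tor _ (rz_mem i), chd_oneH, d1_z, zpow_one]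
  hs_c := fun μ j a => C.ch.tor_comm (rc_mem j) (by rw [chd_oneH, d1_c, zpow_zero]) a
  hs_l := fun μ j k a h => C.ch.tor_comm (rl_mem j k h) (by rw [chd_oneH, d1_l j k h, zpow_zero]) a
  hs_th := fun μ ν => by
    show T (oneH μ) * T (consH ν) = T (consH ν) * T (oneH μ)
    rw [← map_mul, ← map_mul, mul_comm]
  two := two
  k3 := fun g hg hgP => by
    obtain ⟨u, h⟩ := cf.k3 g hg fun x hx u => hgP _ (mem_PtE hx u)
    exact ⟨_, EX u, h⟩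
  nP := fun n h1 h2 => by
    have h3 := cj_sup_eq h1 h2
    have h4 := C.res_eq A hout hC1 hR (R ⊔ Xs (E s0)) le_sup_left le_rfl
      (fun h => X_not_le_R C.toKC A (le_sup_right.trans h))
    have h5 : cj n (PE E T) = PE E T := by
      rw [← h4, ← res_cj, h3]
    have h6 := C.coreQ h5
    have h7 := cj_V_of_Q C.ch h6
    refine ⟨fun p hp => ?_, fun p hp => ?_, fun p hp => ?_⟩
    · have := conj_mem_cj (g := n).2 hp
      rwa [h5] at this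
    · have := conj_mem_cj (g := n).2 hp
      rwa [h6] at this
    · have := conj_mem_cj (g := n).2 hp
      rwa [h7] at this

/-- **No commuting pair of root type.** -/
theorem KP.no_pair (C : KP K E T) (A : Amb K R) (cf : CF K R E)
    (two : ∀ c ∈ C1 K R, IsPGroup 2 (zpowers c) → c ∈ R)
    (hout : ∀ H : Subgroup G, H ≤ normalizer (K : Set G) → H ≤ ⁅H, H⁆ →
      ∀ x ∈ H, ∃ k ∈ K, ∃ c : G, (∀ y ∈ K, c * y = y * c) ∧ x = k * c)
    (hC1 : ∀ H : Subgroup G, H ≤ C1 K R → H ≤ ⁅H, H⁆ → H = ⊥)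
    {t t' : G} (ht : t ∈ R) (ht1 : t ≠ 1) (ht' : t' ∈ R) (ht1' : t' ≠ 1) (hne : t' ≠ t)
    {g k : G} (hk : k ∈ K) (hg1 : cj g R ≤ R ⊔ Xs (E s0)) (hg2 : R ≤ cj g (R ⊔ cj k (Xs (E s0))))
    (hg3 : ¬ cj g R ≤ R) : False := by
  have hresP := C.res_eq A hout hC1 ⟨t, ht, ht1⟩
  have hkR : cj k R = R := by
    apply le_antisymm
    · intro x hx
      rw [mem_cj] at hx
      have h1 := A.comm _ hx k hk
      have : x = k⁻¹ * x * k := by
        calc x = k * (k⁻¹ * x * k) * k⁻¹ := by group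
          _ = (k⁻¹ * x * k) * k * k⁻¹ := by rw [← h1]
          _ = _ := by group
      rw [this]; exact hx
    · intro x hx
      rw [mem_cj]
      have h1 := A.comm x hx k hk
      have : k⁻¹ * x * k = x := by rw [mul_assoc, h1]; group
      rwa [this]
  set S := R ⊔ cj g R with hS
  have h1 : res S = PE E T := hresP S le_sup_left (sup_le le_sup_left hg1) fun h => hg3 (le_sup_right.trans h)
  -- conjugate back
  have hgk : cj (g * k) R = cj g R := by rw [cj_mul, hkR]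
  have h2 : res (cj (g * k)⁻¹ S) = PE E T := by
    apply hresP
    · rw [← cj_le_cj_iff (g * k), cj_cj_inv, hgk]; exact le_sup_right
    · rw [← cj_le_cj_iff (g * k), cj_cj_inv, cj_sup, hgk]
      refine sup_le ?_ le_sup_left
      refine hg2.trans ?_
      rw [cj_sup, cj_mul]
    · intro h0
      have h3 := cj_mono (g * k) h0
      rw [cj_cj_inv, hgk] at h3
      apply hg3
      have h4 : R ≤ cj g R := le_sup_left.trans h3
      have h5 : Nat.card ↥(cj g R) = Nat.card ↥R :=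
        (Nat.card_congr (R.equivMapOfInjective _ (MulAut.conj g).injective).toEquiv).symm
      exact (Subgroup.eq_of_le_of_card_ge h4 h5.le).ge
  have h3 : cj (g * k) (PE E T) = PE E T := by
    rw [res_cj, h1] at h2
    conv_lhs => rw [← h2]
    exact cj_cj_inv _ _
  have h4 := C.coreQ h3
  have h5 := cj_X_of_Q C.ch h4
  have L := C.ch.loc
  have D := C.rdata A cf two hout hC1 ⟨t, ht, ht1⟩
  have hinv : ∀ {B : Subgroup G}, cj (g * k) B = B → ∀ x ∈ B, g * k * x * (g * k)⁻¹ ∈ B := by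
    intro B h x hx
    have := conj_mem_cj (g := g * k).2 hx
    rwa [h] at this
  obtain ⟨μ, W, hW1, hW2⟩ := D.exists_dw L (g := g * k) (hinv h3) (hinv h4) (hinv h5)
    (by
      intro a ha
      have h6 : g * k * a * (g * k)⁻¹ ∈ R ⊔ Xs (E s0) := by
        apply hg1
        rw [← hgk]
        exact conj_mem_cj.2 ha
      have h7 : R ≤ normalizer (Xs (E s0) : Set G) := by
        intro r hr
        rw [mem_normalizer_iff_cj]
        have key : ∀ r ∈ R, cj r (Xs (E s0)) ≤ Xs (E s0) := by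
          intro r hr x hx
          rw [mem_cj] at hx
          have h8 := A.comm r hr _ (XE_le C.toKC hx)
          have : x = r⁻¹ * x * r := by
            calc x = r * (r⁻¹ * x * r) * r⁻¹ := by group
              _ = (r⁻¹ * x * r) * r * r⁻¹ := by rw [h8]
              _ = _ := by group
          rw [this]; exact hx
        exact cj_eq_of_le' (key r hr) (key r⁻¹ (inv_mem hr))
      have h8 : g * k * a * (g * k)⁻¹ ∈ ((R ⊔ Xs (E s0) : Subgroup G) : Set G) := h6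
      rw [coe_mul_of_left_le_normalizer_right R _ h7] at h8
      obtain ⟨b, hb, x, hx, e⟩ := h8
      exact ⟨b, hb, x, hx, e.symm⟩)
    (by
      by_contra hcon
      push Not at hcon
      apply hg3
      intro x hx
      rw [← hgk, mem_cj] at hx
      have := hcon _ hx
      have e : g * k * ((g * k)⁻¹ * x * (g * k)) * (g * k)⁻¹ = x := by group
      rwa [e] at this)
  exact tri_false C.toKC A cf hW1 hW2 ht ht1 ht' ht1' hne

end

end Cfsg.Agent.OddHalf.D4F4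

end

-- merged: Cfsg.Agent.OddHalf.D4F4.Setup
section

/-!
# ODD, D4, `F₄(q)`: the two charts of an embedded `F₄(q)`

* `Setup f δ E T` : a chart `E` of `f : F₄(q) → G` with `X_c` of the chart equal to `f (X_{δ c})`;
* `setup_id`, `setup_dual`;
* `Setup.kp` : `KP f.range E T`; `Setup.cf` : `CF f.range R E`.
-/

set_option autoImplicit false
set_option linter.unusedSectionVars false

namespace Cfsg.Agent.OddHalf.D4F4

open Subgroup Cfsg.Agent.OddHalf.D7F4Ex Cfsg.Agent.OddHalf.D7F4Ex.Loc Cfsg.Agent.OddHalf.DblR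
  Cfsg.Agent.OddHalf.D7F4 Cfsg.Agent.OddHalf.D7F4.Model
open CoxeterSystem Cfsg.Agent.ChevalleyStructure.CoxeterGeom Cfsg.Agent.Tits.Roots Cfsg.Agent.Tits.Core
open Cfsg.Lie Cfsg.Agent.ChevalleyStructure Cfsg.Agent.ChevalleyStructure.Elts
  Cfsg.Agent.ChevalleyStructure.RootVec Cfsg.Agent.ChevalleyStructure.CoxeterGeomTypes
open Cfsg.Agent.Nodes Cfsg.Agent.Nodes.Reps Cfsg.Agent.Nodes.BNOf Cfsg.Agent.Nodes.RGDChev Cfsg.Agent.Nodes.Coroot
  Cfsg.Agent.Nodes.KindF Cfsg.Agent.KFacts.ChevTwo Cfsg.Agent.KFacts.ChevTwoTab Cfsg.Agent.KFacts.ChevTwoInst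
  Cfsg.Agent.KFacts.F4Star Cfsg.Agent.KFacts.F4Cent Cfsg.Agent.KFacts.F4Pair Cfsg.Agent.KFacts.F4Torus
  Cfsg.Agent.KFacts.F4Perf Cfsg.Agent.KFacts.F4AutPair Cfsg.Agent.KFacts.RgdTI Cfsg.Agent.KFacts.RgdOdd
  Cfsg.Agent.Nodes.Bruhat
open Cfsg.Agent.KFacts.F4Model (cF)
open scoped commutatorElement

universe u

/-! ### Tables -/

theorem t_ge : ∀ c ∈ rts, 0 ≤ B c s0 → c = s0 ∨ (∃ j, c = rv j) ∨ (∃ i, c = rz i) ∨ (∃ j, c = rc j) ∨
    ∃ j k : J, j.1 ≠ k.1 ∧ c = rl j k := by decide +kernel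
theorem t_gt : ∀ c ∈ rts, 0 < B c s0 → c = s0 ∨ (∃ j, c = rv j) ∨ ∃ i, c = rz i := by decide +kernel
theorem u_s0 : 0 < B s0 s0 := by decide +kernel
theorem u_v : ∀ j, 0 < B (rv j) s0 := by decide +kernel
theorem u_z : ∀ j, 0 < B (rz j) s0 := by decide +kernel
theorem u_c : ∀ j, 0 ≤ B (rc j) s0 := by decide +kernel
theorem u_l : ∀ j k : J, j.1 ≠ k.1 → 0 ≤ B (rl j k) s0 := by decide +kernel
theorem b_rd : B s0 rd = 1 := by decide +kernel
theorem b_dr : B rd s0 = 1 := by decide +kernel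
theorem b_sd : B rs rd = 1 := by decide +kernel
theorem b_ds : B rd rs = 1 := by decide +kernel
theorem ne_n0 : s0 ≠ -s0 := by decide +kernel
theorem ne_nd : rd ≠ -s0 := by decide +kernel
theorem ne_nsd : rd ≠ -rs := by decide +kernel

/-- what is used of `δ = id`, `dual` -/
structure IsDel (δ : (Fin 4 → ℤ) → (Fin 4 → ℤ)) : Prop where
  dm : ∀ a ∈ rts, δ a ∈ rts
  dd : ∀ a ∈ rts, δ (δ a) = a
  d0 : ∀ a ∈ rts, ∀ b ∈ rts, 0 ≤ B a b → 0 ≤ B (δ a) (δ b)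
  d1 : ∀ a ∈ rts, ∀ b ∈ rts, 0 < B a b → 0 < B (δ a) (δ b)
  dn : ∀ a ∈ rts, B (δ s0) (δ s0) = B (δ a) (δ a) ↔ B a a = 2
  brd : B (δ s0) (δ rd) * 2 = B (δ s0) (δ s0) ∧ B (δ rd) (δ s0) * 2 = B (δ s0) (δ s0)
  bsd : B (δ rs) (δ rd) * 2 = B (δ s0) (δ s0) ∧ B (δ rd) (δ rs) * 2 = B (δ s0) (δ s0)
  brs : B (δ s0) (δ rs) * 2 = -B (δ s0) (δ s0) ∧ B (δ rs) (δ s0) * 2 = -B (δ s0) (δ s0)
  ad : δ s0 + δ rs = δ rd
  ne : δ s0 ≠ δ rs

theorem isDel_id : IsDel id where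
  dm := fun a ha => ha
  dd := fun a _ => rfl
  d0 := fun a _ b _ h => h
  d1 := fun a _ b _ h => h
  dn := fun a _ => by
    show B s0 s0 = B a a ↔ _
    rw [n_s0]; exact eq_comm
  brd := by decide +kernel
  bsd := by decide +kernel
  brs := by decide +kernel
  ad := by decide +kernel
  ne := by decide +kernel

theorem isDel_dual : IsDel dual where
  dm := dual_mem
  dd := dual_dual
  d0 := by decide +kernel
  d1 := by decide +kernel
  dn := by decide +kernel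
  brd := by decide +kernel
  bsd := by decide +kernel
  brs := by decide +kernel
  ad := by decide +kernel
  ne := by decide +kernel

/-! ### The setup -/

variable {F : Type u} [Field F] [Finite F] [CharP F 2] {G : Type*} [Group G]

/-- A chart `E` of an embedded `F₄(q)` with `X_c` of the chart equal to `f (X_{δ c})`. -/
structure Setup (f : ↥(chevF4.group F) →* G) (δ : (Fin 4 → ℤ) → (Fin 4 → ℤ)) (E : (Fin 4 → ℤ) → F → G)
    (T : (Fin 4 → Fˣ) →* G) : Prop where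
  inj : Function.Injective f
  del : IsDel δ
  ch : Chart E T
  TE : ∀ ν, T ν ∈ f.range
  e : ∀ a ∈ rts, ∀ u, ∃ x ∈ XF F (δ a), E a u = f x
  e' : ∀ a ∈ rts, ∀ x ∈ XF F (δ a), ∃ u, f x = E a u
  af : ∀ a ∈ rts, ∀ b ∈ rts, B a a = 2 → B b b = 2 → b ≠ -a → ∀ α : MulAut ↥(chevF4.group F),
    (∀ c ∈ psi a ∩ psi b, ∀ x ∈ XF F (δ c), α x = x) →
    ∃ z ∈ RGD.Sup (XF F) (Cone cF (δ a) (δ b)), α = MulAut.conj z

theorem root_iff {a : Fin 4 → ℤ} : IsRoot cF isType.isCartan a ↔ a ∈ rts := KBridge.isRoot_iff' cF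

theorem cpr0 {a b : Fin 4 → ℤ} (ha : a ∈ rts) (hb : b ∈ rts) : 0 ≤ cpr cF isType.isCartan a b ↔ 0 ≤ B a b := by
  rcases norm b hb with h | h
  · rw [KBridge.cpr_short cF ha hb h]
  · have := KBridge.cpr_long cF ha hb h
    omega

theorem cpr1 {a b : Fin 4 → ℤ} (ha : a ∈ rts) (hb : b ∈ rts) : 1 ≤ cpr cF isType.isCartan a b ↔ 0 < B a b := by
  rcases norm b hb with h | h
  · rw [KBridge.cpr_short cF ha hb h]; omega
  · have := KBridge.cpr_long cF ha hb h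
    omega

namespace Setup

variable {f : ↥(chevF4.group F) →* G} {δ : (Fin 4 → ℤ) → (Fin 4 → ℤ)} {E : (Fin 4 → ℤ) → F → G}
  {T : (Fin 4 → Fˣ) →* G} (S : Setup f δ E T)

include S

theorem d0' {a b : Fin 4 → ℤ} (ha : a ∈ rts) (hb : b ∈ rts) (h : 0 ≤ B (δ a) (δ b)) : 0 ≤ B a b := by
  have := S.del.d0 _ (S.del.dm a ha) _ (S.del.dm b hb) h
  rwa [S.del.dd a ha, S.del.dd b hb] at this

theorem d1' {a b : Fin 4 → ℤ} (ha : a ∈ rts) (hb : b ∈ rts) (h : 0 < B (δ a) (δ b)) : 0 < B a b := by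
  have := S.del.d1 _ (S.del.dm a ha) _ (S.del.dm b hb) h
  rwa [S.del.dd a ha, S.del.dd b hb] at this

theorem E_range {a : Fin 4 → ℤ} (ha : a ∈ rts) (u : F) : E a u ∈ f.range := by
  obtain ⟨x, -, h⟩ := S.e a ha u
  rw [h]; exact ⟨x, rfl⟩

/-- all root elements -/
theorem exists_E {c : Fin 4 → ℤ} (hc : c ∈ rts) {x : ↥(chevF4.group F)} (hx : x ∈ XF F c) :
    ∃ u, f x = E (δ c) u := by
  apply S.e' _ (S.del.dm c hc)
  rwa [S.del.dd c hc]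

theorem kc : KC f.range E T where
  ch := S.ch
  EK := fun a ha u => S.E_range ha u
  TK := S.TE
  ctr := by
    rintro _ ⟨y, rfl⟩ h
    have : y = 1 := by
      apply eq_one_of_comm cF
      intro x hx u
      rw [root_iff] at hx
      apply S.inj
      obtain ⟨u', hu'⟩ := S.exists_E hx (x := eF F x u) ((mem_XF_iff cF (root_iff.2 hx)).2 ⟨u, rfl⟩)
      rw [map_mul, map_mul, hu']
      exact h _ (S.del.dm x hx) u'
    rw [this, map_one]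

/-- the elements of `P_s` -/
theorem mem_PF {y : ↥(chevF4.group F)} (h : f y * E s0 1 = E s0 1 * f y) : y ∈ PF cF F (δ s0) := by
  obtain ⟨x, hx, e⟩ := S.e s0 s0_mem 1
  have hx1 : x ≠ 1 := by
    rintro rfl
    rw [map_one] at e
    exact one_ne_zero (S.ch.inj s0 s0_mem 1 e)
  refine cent_X cF (root_iff.2 (S.del.dm s0 s0_mem)) hx hx1 (S.inj ?_)
  rw [map_mul, map_mul, ← e]; exact h

theorem PE_eq : PE E T = (PF cF F (δ s0)).map f := by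
  apply le_antisymm
  · have key : ∀ c ∈ rts, 0 ≤ B c s0 → ∀ u, E c u ∈ (PF cF F (δ s0)).map f := by
      intro c hc h u
      obtain ⟨x, hx, e⟩ := S.e c hc u
      rw [e]
      have hm : δ c ∈ Ge cF isType.isCartan (δ s0) :=
        ⟨root_iff.2 (S.del.dm c hc), (cpr0 (S.del.dm c hc) (S.del.dm s0 s0_mem)).2 (S.del.d0 c hc s0 s0_mem h)⟩
      exact mem_map_of_mem f (RGD.le_Sup (X := XF F) hm hx)
    rw [PE, Ps, closure_le]
    rintro g ((⟨b, rfl⟩ | ⟨j, b, rfl⟩) | ⟨i, b, rfl⟩ | ⟨j, b, rfl⟩ | ⟨j, k, b, h, rfl⟩ | ⟨ν, rfl⟩)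
    · exact key _ s0_mem u_s0.le _
    · exact key _ (rv_mem j) (u_v j).le _
    · exact key _ (rz_mem i) (u_z i).le _
    · exact key _ (rc_mem j) (u_c j) _
    · exact key _ (rl_mem j k h) (u_l j k h) _
    · obtain ⟨y, hy⟩ := S.TE (consH ν)
      refine ⟨y, S.mem_PF ?_, hy⟩
      rw [hy]
      exact S.ch.loc.th_x0 ν 1
  · rw [map_le_iff_le_comap]
    refine RGD.Sup_le fun c hc x hx => ?_
    have hcr := root_iff.1 hc.1
    obtain ⟨u, h⟩ := S.exists_E hcr hx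
    rw [mem_comap, h]
    have h1 : 0 ≤ B (δ c) s0 := by
      have h2 := (cpr0 hcr (S.del.dm s0 s0_mem)).1 hc.2
      apply S.d0' (S.del.dm c hcr) s0_mem
      rwa [S.del.dd c hcr]
    rcases t_ge _ (S.del.dm c hcr) h1 with h2 | ⟨j, h2⟩ | ⟨i, h2⟩ | ⟨j, h2⟩ | ⟨j, k, h3, h2⟩
    · rw [h2]; exact subset_closure (Or.inl (Or.inl ⟨u, rfl⟩))
    · rw [h2]; exact subset_closure (Or.inl (Or.inr ⟨j, u, rfl⟩))
    · rw [h2]; exact subset_closure (Or.inr (Or.inl ⟨i, u, rfl⟩))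
    · rw [h2]; exact subset_closure (Or.inr (Or.inr (Or.inl ⟨j, u, rfl⟩)))
    · rw [h2]; exact subset_closure (Or.inr (Or.inr (Or.inr (Or.inl ⟨j, k, u, h3, rfl⟩))))

theorem QE_eq : QE E = (RGD.Sup (XF F) (Rad cF isType.isCartan (δ s0))).map f := by
  apply le_antisymm
  · have key : ∀ c ∈ rts, 0 < B c s0 → ∀ u, E c u ∈ (RGD.Sup (XF F) (Rad cF isType.isCartan (δ s0))).map f := by
      intro c hc h u
      obtain ⟨x, hx, e⟩ := S.e c hc u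
      rw [e]
      have hm : δ c ∈ Rad cF isType.isCartan (δ s0) :=
        ⟨root_iff.2 (S.del.dm c hc), (cpr1 (S.del.dm c hc) (S.del.dm s0 s0_mem)).2 (S.del.d1 c hc s0 s0_mem h)⟩
      exact mem_map_of_mem f (RGD.le_Sup (X := XF F) hm hx)
    rw [QE, Qs, closure_le]
    rintro g ((⟨b, rfl⟩ | ⟨j, b, rfl⟩) | ⟨i, b, rfl⟩)
    · exact key _ s0_mem u_s0 _
    · exact key _ (rv_mem j) (u_v j) _
    · exact key _ (rz_mem i) (u_z i) _
  · rw [map_le_iff_le_comap]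
    refine RGD.Sup_le fun c hc x hx => ?_
    have hcr := root_iff.1 hc.1
    obtain ⟨u, h⟩ := S.exists_E hcr hx
    rw [mem_comap, h]
    have h1 : 0 < B (δ c) s0 := by
      have h2 := (cpr1 hcr (S.del.dm s0 s0_mem)).1 hc.2
      apply S.d1' (S.del.dm c hcr) s0_mem
      rwa [S.del.dd c hcr]
    rcases t_gt _ (S.del.dm c hcr) h1 with h2 | ⟨j, h2⟩ | ⟨i, h2⟩
    · rw [h2]; exact subset_closure (Or.inl (Or.inl ⟨u, rfl⟩))
    · rw [h2]; exact subset_closure (Or.inl (Or.inr ⟨j, u, rfl⟩))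
    · rw [h2]; exact subset_closure (Or.inr ⟨i, u, rfl⟩)

theorem core [Finite G] {g : G} (hg : cj g (PE E T) = PE E T) : cj g (QE E) ≤ QE E := by
  have : Fact (Nat.Prime 2) := ⟨Nat.prime_two⟩
  have := Cfsg.Agent.KFacts.F4Model.finW
  set R' := RGDLib.rgd_map_of_injective (rgd (K := F) isType cF 2) f S.inj with hR'
  have hr : IsRoot cF isType.isCartan (δ s0) := root_iff.2 (S.del.dm s0 s0_mem)
  have hP : PE E T = RGD.Sup (fun x => (XF F x).map f) (Ge cF isType.isCartan (δ s0)) := by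
    rw [S.PE_eq, map_Sup]
  have hQ : QE E = RGD.Sup (fun x => (XF F x).map f) (Rad cF isType.isCartan (δ s0)) := by
    rw [S.QE_eq, map_Sup]
  have hPG : RGD.Sup (fun x => (XF F x).map f) (Ge cF isType.isCartan (δ s0)) ≤
      GG cF isType.isCartan ((TF F).map f) (fun x => (XF F x).map f) :=
    le_trans (RGD.Sup_mono fun x hx => hx.1) le_sup_right
  have hQP : QE E ≤ PE E T := Q_le_P
  have QN : ∀ p ∈ PE E T, ∀ q ∈ QE E, p * q * p⁻¹ ∈ QE E := fun p hp q hq => S.ch.loc.PQ hp hq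
  have hQn : ∀ p ∈ PE E T, cj p (QE E) = QE E := by
    intro p hp
    have key : ∀ p ∈ PE E T, cj p (QE E) ≤ QE E := by
      intro p hp x hx
      rw [mem_cj] at hx
      have := QN p hp _ hx
      have e : p * (p⁻¹ * x * p) * p⁻¹ = x := by group
      rwa [e] at this
    exact cj_eq_of_le' (key p hp) (key p⁻¹ (inv_mem hp))
  have h2 : IsPGroup 2 ↥(QE E) := by
    rw [hQ]; exact isPGroup_rad R' hr
  rw [hQ]
  rw [hP] at hg
  refine Cfsg.Agent.KFacts.RgdEx.core_le R' hr ?_ ?_ ?_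
  · rw [← hQ]
    refine le_trans (cj_mono g hQP) ?_
    rw [hP, hg]; exact hPG
  · rw [← hQ]; exact h2.map _
  · intro u hu
    rw [← hQ]
    have h1 : g⁻¹ * u * g ∈ PE E T := by
      rw [hP, ← mem_cj, hg]; exact hu
    have h2 : u * g = g * (g⁻¹ * u * g) := by group
    rw [← cj_mul, h2, cj_mul, hQn _ h1]

theorem kp [Finite G] : KP f.range E T where
  toKC := S.kc
  perf := by
    rw [S.PE_eq, ← map_commutator]
    exact map_mono (perfect_P cF (root_iff.2 (S.del.dm s0 s0_mem))).ge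
  cent := by
    rintro x hx hx1 _ ⟨y, rfl⟩ h
    obtain ⟨u, rfl⟩ := (mem_Xs_iff S.ch s0_mem).1 hx
    obtain ⟨x, hx, e⟩ := S.e s0 s0_mem u
    have hx1' : x ≠ 1 := by
      rintro rfl
      rw [map_one] at e
      exact hx1 e
    rw [S.PE_eq]
    refine mem_map_of_mem f (cent_X cF (root_iff.2 (S.del.dm s0 s0_mem)) hx hx1' (S.inj ?_))
    rw [map_mul, map_mul, ← e]; exact h
  core := fun g hg => S.core hg

/-- `α` fixes the root groups of `psi a ∩ psi b`: up to `C(K)` an element of the cone. -/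
theorem aut {R : Subgroup G} (A : Amb f.range R)
    (hnorm : ∀ c : G, (∀ a ∈ R, c * a = a * c) → c ∈ normalizer (f.range : Set G))
    {a b : Fin 4 → ℤ} (ha : a ∈ rts) (hb : b ∈ rts) (h1 : B a a = 2) (h2 : B b b = 2) (hab : b ≠ -a)
    {c : G} (hc : ∀ a ∈ R, c * a = a * c) (hc' : ∀ x ∈ psi a ∩ psi b, ∀ u, c * E x u = E x u * c) :
    ∃ z ∈ RGD.Sup (XF F) (Cone cF (δ a) (δ b)), (f z)⁻¹ * c ∈ C1 f.range R := by
  obtain ⟨z, hz, hzc⟩ := Cfsg.Agent.KFacts.RgdAutChev.exists_of_aut f S.inj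
    (S := {y | ∃ x ∈ psi a ∩ psi b, y ∈ XF F (δ x)})
    (Z := RGD.Sup (XF F) (Cone cF (δ a) (δ b)))
    (fun α hα => S.af a ha b hb h1 h2 hab α fun x hx y hy => hα y ⟨x, hx, hy⟩) (hnorm c hc)
    (by
      rintro x ⟨d, hd, hx⟩
      obtain ⟨u, hu⟩ := S.e' d hd.1.1 x hx
      rw [hu]; exact hc' d hd u)
  refine ⟨z, hz, ?_⟩
  rw [mem_C1]
  refine ⟨?_, ?_⟩
  · rintro _ ⟨y, rfl⟩
    exact hzc y
  · intro a ha
    have h1 : (f z)⁻¹ * a = a * (f z)⁻¹ := by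
      have := A.comm a ha (f z)⁻¹ ⟨z⁻¹, by rw [map_inv]⟩
      exact this.symm
    calc (f z)⁻¹ * c * a = (f z)⁻¹ * (c * a) := by group
      _ = ((f z)⁻¹ * a) * c := by rw [hc a ha]; group
      _ = a * ((f z)⁻¹ * c) := by rw [h1]; group

theorem cpr_one {a b : Fin 4 → ℤ} (ha : a ∈ rts) (hb : b ∈ rts)
    (h : B (δ a) (δ b) * 2 = B (δ s0) (δ s0)) (hn : B (δ b) (δ b) = B (δ s0) (δ s0)) :
    cpr cF isType.isCartan (δ a) (δ b) = 1 := by
  have h1 := KBridge.cpr_eq cF (S.del.dm a ha) (S.del.dm b hb)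
  have h2 := norm _ (S.del.dm b hb)
  rcases h2 with h2 | h2
  · rw [h2] at h1 hn; omega
  · rw [h2] at h1 hn; omega

theorem cpr_neg_one {a b : Fin 4 → ℤ} (ha : a ∈ rts) (hb : b ∈ rts)
    (h : B (δ a) (δ b) * 2 = -B (δ s0) (δ s0)) (hn : B (δ b) (δ b) = B (δ s0) (δ s0)) :
    cpr cF isType.isCartan (δ a) (δ b) = -1 := by
  have h1 := KBridge.cpr_eq cF (S.del.dm a ha) (S.del.dm b hb)
  have h2 := norm _ (S.del.dm b hb)
  rcases h2 with h2 | h2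
  · rw [h2] at h1 hn; omega
  · rw [h2] at h1 hn; omega

theorem nn {a : Fin 4 → ℤ} (ha : a ∈ rts) (h : B a a = 2) : B (δ a) (δ a) = B (δ s0) (δ s0) :=
  ((S.del.dn a ha).2 h).symm

theorem cone_one {a b : Fin 4 → ℤ} (ha : a ∈ rts) (hb : b ∈ rts) (h1 : B a a = 2) (h2 : B b b = 2)
    (h : B (δ a) (δ b) * 2 = B (δ s0) (δ s0)) (h' : B (δ b) (δ a) * 2 = B (δ s0) (δ s0)) :
    ∀ z ∈ RGD.Sup (XF F) (Cone cF (δ a) (δ b)), ∃ u v, f z = E a u * E b v := by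
  have e1 := S.cpr_one ha hb h (S.nn hb h2)
  have e2 := S.cpr_one hb ha h' (S.nn ha h1)
  have hs : RGD.Sup (XF F) (Cone cF (δ a) (δ b)) ≤ XF F (δ a) ⊔ XF F (δ b) ⊔ ⊥ := by
    refine RGD.Sup_le fun c hc => ?_
    obtain ⟨-, hc⟩ := hc
    rw [e1, e2] at hc
    rcases hc with h | h | h | h | h | h | h
    · rw [h]; exact le_trans le_sup_left le_sup_left
    · rw [h]; exact le_trans le_sup_right le_sup_left
    all_goals exact absurd h.1 (by norm_num)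
  intro z hz
  have hcm : ∀ x ∈ XF F (δ a), ∀ y ∈ XF F (δ b), x * y = y * x :=
    Cfsg.Agent.KFacts.F4Model.X0 (S.del.dm a ha) (S.del.dm b hb) (by
      rcases norm _ (S.del.dm s0 s0_mem) with h3 | h3 <;> rw [h3] at h <;> omega)
  obtain ⟨x, hx, y, hy, w, hw, rfl⟩ := Cfsg.Agent.KFacts.F4Model.mem_sup3
    (fun x _ w hw => by rw [mem_bot] at hw; rw [hw, mul_one, one_mul])
    (fun x _ w hw => by rw [mem_bot] at hw; rw [hw, mul_one, one_mul])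
    (fun x hx y hy => ⟨1, one_mem _, by rw [mul_one, hcm x hx y hy]⟩) (hs hz)
  rw [mem_bot] at hw
  obtain ⟨u, hu⟩ := S.e' a ha x hx
  obtain ⟨v, hv⟩ := S.e' b hb y hy
  exact ⟨u, v, by rw [hw, mul_one, map_mul, hu, hv]⟩

theorem cone_two : ∀ z ∈ RGD.Sup (XF F) (Cone cF (δ s0) (δ rs)), ∃ u v w, f z = E s0 u * E rs v * E rd w := by
  have e1 := S.cpr_neg_one s0_mem rs_mem S.del.brs.1 (S.nn rs_mem n_rs)
  have e2 := S.cpr_neg_one rs_mem s0_mem S.del.brs.2 rfl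
  have n0 := norm _ (S.del.dm s0 s0_mem)
  have hs : RGD.Sup (XF F) (Cone cF (δ s0) (δ rs)) ≤ XF F (δ s0) ⊔ XF F (δ rs) ⊔ XF F (δ rd) := by
    refine RGD.Sup_le fun c hc => ?_
    obtain ⟨-, hc⟩ := hc
    rw [e1, e2] at hc
    rcases hc with h | h | h | h | h | h | h
    · rw [h]; exact le_trans le_sup_left le_sup_left
    · rw [h]; exact le_trans le_sup_right le_sup_left
    · rw [h.2.2, S.del.ad]; exact le_sup_right
    · exact absurd h.1 (by norm_num)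
    · exact absurd h.2.1 (by norm_num)
    · exact absurd h.1 (by norm_num)
    · exact absurd h.1 (by norm_num)
  intro z hz
  have h0 := S.del.brd.1
  have h1 := S.del.bsd.1
  have h2 := S.del.brs.1
  obtain ⟨x, hx, y, hy, w, hw, rfl⟩ := Cfsg.Agent.KFacts.F4Model.mem_sup3
    (Cfsg.Agent.KFacts.F4Model.X0 (S.del.dm _ s0_mem) (S.del.dm _ rd_mem) (by
      rcases n0 with h3 | h3 <;> rw [h3] at h0 <;> omega))
    (Cfsg.Agent.KFacts.F4Model.X0 (S.del.dm _ rs_mem) (S.del.dm _ rd_mem) (by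
      rcases n0 with h3 | h3 <;> rw [h3] at h1 <;> omega))
    (fun x hx y hy => by
      obtain ⟨u, rfl⟩ := (mem_XF_iff cF (root_iff.2 (S.del.dm _ s0_mem))).1 hx
      obtain ⟨v, rfl⟩ := (mem_XF_iff cF (root_iff.2 (S.del.dm _ rs_mem))).1 hy
      have hne : δ s0 ≠ -δ rs := by
        intro h
        have h4 : δ rd = 0 := by rw [← S.del.ad, h, neg_add_cancel]
        have h5 := S.nn rd_mem n_rd
        rw [h4] at h5
        have h6 : B 0 0 = 0 := by decide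
        rw [h6] at h5
        rcases n0 with h3 | h3 <;> omega
      have hc := Cfsg.Agent.KFacts.F4Model.comm1 (K := F) (S.del.dm _ s0_mem) (S.del.dm _ rs_mem) (S.nn rs_mem n_rs).symm
        (by rcases n0 with h3 | h3 <;> rw [h3] at h2 <;> omega) hne u v
      rw [S.del.ad] at hc
      have hd1 := Cfsg.Agent.KFacts.F4Model.X0 (K := F) (S.del.dm _ s0_mem) (S.del.dm _ rd_mem) (by
        rcases n0 with h3 | h3 <;> rw [h3] at h0 <;> omega)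
      have hd2 := Cfsg.Agent.KFacts.F4Model.X0 (K := F) (S.del.dm _ rs_mem) (S.del.dm _ rd_mem) (by
        rcases n0 with h3 | h3 <;> rw [h3] at h1 <;> omega)
      have hw : eF F (δ rd) (u * v) ∈ XF F (δ rd) := (mem_XF_iff cF (root_iff.2 (S.del.dm _ rd_mem))).2 ⟨_, rfl⟩
      refine ⟨(eF F (δ rd) (u * v))⁻¹, inv_mem hw, ?_⟩
      have e3 := hd1 _ hx _ hw
      have e4 := hd2 _ hy _ hw
      rw [commutatorElement_def] at hc
      have e5 : eF F (δ s0) u * eF F (δ rs) v = eF F (δ rd) (u * v) * (eF F (δ rs) v * eF F (δ s0) u) := by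
        rw [← hc]; group
      calc eF F (δ rs) v * eF F (δ s0) u = (eF F (δ rs) v * eF F (δ s0) u * eF F (δ rd) (u * v)) *
            (eF F (δ rd) (u * v))⁻¹ := by group
        _ = (eF F (δ rd) (u * v) * (eF F (δ rs) v * eF F (δ s0) u)) * (eF F (δ rd) (u * v))⁻¹ := by
            rw [mul_assoc (eF F (δ rs) v), e3, ← mul_assoc (eF F (δ rs) v), e4, mul_assoc (eF F (δ rd) (u * v))]
        _ = _ := by rw [← e5])
    (hs hz)
  obtain ⟨u, hu⟩ := S.e' s0 s0_mem x hx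
  obtain ⟨v, hv⟩ := S.e' rs rs_mem y hy
  obtain ⟨w', hw'⟩ := S.e' rd rd_mem w hw
  exact ⟨u, v, w', by rw [map_mul, map_mul, hu, hv, hw']⟩

theorem cf {R : Subgroup G} (A : Amb f.range R)
    (hnorm : ∀ c : G, (∀ a ∈ R, c * a = a * c) → c ∈ normalizer (f.range : Set G)) : CF f.range R E where
  k3 := fun c hc hc' => by
    obtain ⟨z, hz, h⟩ := S.aut A hnorm s0_mem s0_mem n_s0 n_s0 ne_n0 hc
      (fun x hx u => hc' x hx.1 u)
    have h1 : z ∈ XF F (δ s0) := by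
      have h3 : RGD.Sup (XF F) (Cone cF (δ s0) (δ s0)) ≤ XF F (δ s0) := RGD.Sup_le fun x hx => by
        rw [Set.mem_singleton_iff.1 (cone_self cF (root_iff.2 (S.del.dm _ s0_mem)) hx)]
      exact h3 hz
    obtain ⟨u, hu⟩ := S.e' s0 s0_mem z h1
    exact ⟨u, by rwa [hu] at h⟩
  k2r := fun c hc hc' => by
    obtain ⟨z, hz, h⟩ := S.aut A hnorm s0_mem rd_mem n_s0 n_rd ne_nd hc hc'
    obtain ⟨u, v, hu⟩ := S.cone_one s0_mem rd_mem n_s0 n_rd S.del.brd.1 S.del.brd.2 z hz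
    exact ⟨u, v, by rwa [hu] at h⟩
  k2s := fun c hc hc' => by
    obtain ⟨z, hz, h⟩ := S.aut A hnorm rs_mem rd_mem n_rs n_rd ne_nsd hc hc'
    obtain ⟨u, v, hu⟩ := S.cone_one rs_mem rd_mem n_rs n_rd S.del.bsd.1 S.del.bsd.2 z hz
    exact ⟨u, v, by rwa [hu] at h⟩
  k1 := fun c hc hc' => by
    obtain ⟨z, hz, h⟩ := S.aut A hnorm s0_mem rs_mem n_s0 n_rs ne_sr hc hc'
    obtain ⟨u, v, w, hu⟩ := S.cone_two z hz
    exact ⟨u, v, w, by rwa [hu] at h⟩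

end Setup

/-! ### The two setups -/

theorem setup_id (hq : ∃ μ : Fˣ, μ ≠ 1) {f : ↥(chevF4.group F) →* G} (hf : Function.Injective f) :
    Setup f id (fun a u => f (eF F a u)) (f.comp (Cfsg.Agent.KFacts.F4Chart.torH F)) where
  inj := hf
  del := isDel_id
  ch := Cfsg.Agent.KFacts.F4Chart.chart hq hf
  TE := fun ν => ⟨_, rfl⟩
  e := fun a ha u => ⟨eF F a u, (mem_XF_iff cF (root_iff.2 ha)).2 ⟨u, rfl⟩, rfl⟩
  e' := fun a ha x hx => by
    obtain ⟨u, rfl⟩ := (mem_XF_iff cF (root_iff.2 ha)).1 hx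
    exact ⟨u, rfl⟩
  af := fun a ha b hb h1 h2 hab α hα => by
    refine aut_pairL cF (root_iff.2 ha) (root_iff.2 hb) hab (fun h => ?_) (fun h => ?_) (fun c hc => ?_)
    · have := ((KBridge.lg_iff cF).1 h).2; omega
    · have := ((KBridge.lg_iff cF).1 (h.2 ((KBridge.sh_iff cF).2 ⟨hb, h2⟩))).2; omega
    · rw [KBridge.psiL_iff cF ha hb] at hc
      apply hα c
      rcases hc with ⟨hc, h | h⟩
      · exact ⟨⟨hc, Or.inr ⟨h.1, h.2.1⟩⟩, ⟨hc, Or.inr ⟨h.1, h.2.2⟩⟩⟩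
      · exact ⟨⟨hc, Or.inl ⟨h.1, h.2.1⟩⟩, ⟨hc, Or.inl ⟨h.1, h.2.2⟩⟩⟩

theorem dual_neg' : ∀ a ∈ rts, dual (-a) = -dual a := fun a ha => (k_neg a ha).2.2

/-- the inverse Frobenius -/
theorem exists_rt : ∃ rt : F ≃+* F, ∀ u, rt u ^ 2 = u := by
  have : Fact (Nat.Prime 2) := ⟨Nat.prime_two⟩
  have := Fintype.ofFinite F
  refine ⟨(frobeniusEquiv F 2).symm, fun u => ?_⟩
  exact frobeniusEquiv_symm_pow_p (R := F) (p := 2) u

theorem setup_dual (hq : ∃ μ : Fˣ, μ ≠ 1) {f : ↥(chevF4.group F) →* G} (hf : Function.Injective f) {rt : F ≃+* F}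
    (hrt : ∀ u, rt u ^ 2 = u) :
    Setup f dual (dualE rt (fun a u => f (eF F a u))) ((f.comp (Cfsg.Agent.KFacts.F4Chart.torH F)).comp (dualH rt)) where
  inj := hf
  del := isDel_dual
  ch := Chart.dual rt hrt (Cfsg.Agent.KFacts.F4Chart.chart hq hf)
  TE := fun ν => ⟨_, rfl⟩
  e := fun a ha u => by
    rcases norm a ha with h | h
    · rw [dualE_short rt h]
      exact ⟨_, (mem_XF_iff cF (root_iff.2 (dual_mem a ha))).2 ⟨u, rfl⟩, rfl⟩
    · rw [dualE_long rt h]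
      exact ⟨_, (mem_XF_iff cF (root_iff.2 (dual_mem a ha))).2 ⟨rt u, rfl⟩, rfl⟩
  e' := fun a ha x hx => by
    obtain ⟨u, rfl⟩ := (mem_XF_iff cF (root_iff.2 (dual_mem a ha))).1 hx
    rcases norm a ha with h | h
    · exact ⟨u, by rw [dualE_short rt h]⟩
    · exact ⟨u ^ 2, by rw [dualE_long rt h, rt_sq rt hrt]⟩
  af := fun a ha b hb h1 h2 hab α hα => by
    have ha' := dual_mem a ha
    have hb' := dual_mem b hb
    have n1 : B (dual a) (dual a) = 4 := by rcases k_norm a ha with h | h <;> omega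
    have n2 : B (dual b) (dual b) = 4 := by rcases k_norm b hb with h | h <;> omega
    refine aut_pairS cF (root_iff.2 ha') (root_iff.2 hb') ?_ (fun h => ?_) (fun h => ?_) (fun c hc => ?_)
    · intro h
      apply hab
      rw [← dual_neg' a ha] at h
      have := congrArg dual h
      rwa [dual_dual b hb, dual_dual _ ((k_neg a ha).1)] at this
    · have := ((KBridge.sh_iff cF).1 h).2; omega
    · have := ((KBridge.sh_iff cF).1 (h.1 ((KBridge.lg_iff cF).2 ⟨ha', n1⟩))).2; omega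
    · rw [KBridge.psiS_iff cF ha' hb'] at hc
      obtain ⟨hc, h⟩ := hc
      have hcd := dual_mem c hc
      have key := hα (dual c)
      rw [dual_dual c hc] at key
      apply key
      have q0 : ∀ x ∈ rts, 0 ≤ B c (dual x) → 0 ≤ B (dual c) x := fun x hx h => by
        have := isDel_dual.d0 c hc _ (dual_mem x hx) h
        rwa [dual_dual x hx] at this
      have q1 : ∀ x ∈ rts, 0 < B c (dual x) → 0 < B (dual c) x := fun x hx h => by
        have := isDel_dual.d1 c hc _ (dual_mem x hx) h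
        rwa [dual_dual x hx] at this
      rcases h with h | h
      · have n3 : B (dual c) (dual c) = 4 := by rcases k_norm c hc with h' | h' <;> omega
        exact ⟨⟨hcd, Or.inr ⟨n3, q0 a ha h.2.1⟩⟩, ⟨hcd, Or.inr ⟨n3, q0 b hb h.2.2⟩⟩⟩
      · have n3 : B (dual c) (dual c) = 2 := by rcases k_norm c hc with h' | h' <;> omega
        exact ⟨⟨hcd, Or.inl ⟨n3, q1 a ha h.2.1⟩⟩, ⟨hcd, Or.inl ⟨n3, q1 b hb h.2.2⟩⟩⟩

end Cfsg.Agent.OddHalf.D4F4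

end
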